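import Groth.Agent.H4RSH.Invertible
import Groth.Agent.S3621

/-!
# Gorenstein schemes and dualizing complexes
-/

set_option autoImplicit false
set_option linter.style.haveILetI false
set_option linter.unusedSectionVars false
set_option backward.isDefEq.respectTransparency false
set_option synthInstance.maxHeartbeats 400000
set_option maxHeartbeats 1000000

universe u

open CategoryTheory CategoryTheory.Limits AlgebraicGeometry
open scoped TensorProduct

attribute [local instance] HasDerivedCategory.standard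

namespace Groth.Agent.H4RSH

open Groth.Agent.H16Derived
open Groth.Agent.H16Derived.KFlat.Stalk (rd rdComp)
open Groth.Agent.H4DR.Dualizing (Loc loc)
open Groth.Agent.H4DR.FlatBC (hBC)

variable {X : Scheme.{u}} [IsLocallyNoetherian X]
  [∀ (U : Scheme.{u}) (j : U ⟶ X) [IsOpenImmersion j], PreservesFiniteLimits (Scheme.Modules.restrictFunctor j)]
  [∀ (R : CommRingCat.{u}), PreservesFiniteLimits (tilde.functor R)]

theorem gor_stalk_iff {A : Type u} [CommRing A] (j : Spec (CommRingCat.of A) ⟶ X) [IsOpenImmersion j]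
    (p : PrimeSpectrum A) : LocCoh.IsGorensteinLocalRing (X.presheaf.stalk (j.base p)) ↔
      LocCoh.IsGorensteinLocalRing (Localization.AtPrime p.asIdeal) := by
  obtain ⟨e⟩ := Groth.Agent.H4DualSch.exists_stalk_ringEquiv j p
  exact (Groth.Agent.H02CA.GorFlat.gor_iff_of_ringEquiv e).symm

theorem isLocUnit_of_gorenstein {K : DCoh.D X} (hK : Dual2.IsDualizingSch X K)
    (h : ∀ x : X, LocCoh.IsGorensteinLocalRing (X.presheaf.stalk x)) : IsLocUnit K := fun x => by
  obtain ⟨B, j, hj, p, rfl⟩ := exists_affine_chart x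
  obtain ⟨ω, hω, ⟨e⟩⟩ := hK B j
  haveI := hω.isNoetherianRing
  let q : PrimeSpectrum B := p
  haveI := IsLocalization.flat (Loc q) q.asIdeal.primeCompl
  haveI : IsNoetherianRing (Loc q) := IsLocalization.isNoetherianRing q.asIdeal.primeCompl (Loc q) ‹_›
  obtain ⟨n, hn, ⟨en⟩⟩ := (H4DR.Dualizing.gorenstein_iff (H4DR.Dualizing.isDualizing_loc hω q)).1
    ((gor_stalk_iff j q).1 (h _))
  exact exists_chart_unit j ω e hω.finite_cohomology (H4DR.Dualizing.exists_bounds hω) q n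
    (fun i hi => haveI := hn i hi; (hBC (Loc q) i ω).symm.injective.subsingleton)
    ⟨(hBC (Loc q) n ω).symm.trans en⟩

theorem gorenstein_of_invertible {K : DCoh.D X} (hK : Dual2.IsDualizingSch X K) (h : Dual3.IsInvertibleD K)
    (x : X) : LocCoh.IsGorensteinLocalRing (X.presheaf.stalk x) := by
  obtain ⟨U, n, hxU, ⟨e⟩⟩ := h x
  obtain ⟨B, v, hv, p, hp⟩ := exists_affine_chart (X := (U : Scheme.{u})) ⟨x, hxU⟩
  obtain rfl : (v ≫ U.ι).base p = x := by
    show U.ι.base (v.base p) = x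
    rw [hp]; rfl
  obtain ⟨ω, hω, ⟨e'⟩⟩ := hK B (v ≫ U.ι)
  haveI := hω.isNoetherianRing
  obtain ⟨e₁⟩ := nonempty_tilde_inD_shift (A := B) n
  haveI := (QCohD.full_faithful (CommRingCat.of B)).1
  haveI := (QCohD.full_faithful (CommRingCat.of B)).2
  let eU : (rd (v ≫ U.ι)).obj K ≅ (DCoh.tildeD (CommRingCat.of B)).obj ((Dual.inD B B)⟦n⟧) :=
    rdComp v U.ι (v ≫ U.ι) rfl K ≪≫ (rd v).mapIso e ≪≫ ((rd v).commShiftIso n).app _ ≪≫
      (shiftFunctor _ n).mapIso
        (((Scheme.Modules.restrictFunctor v).mapDerivedCategorySingleFunctor 0).app _ ≪≫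
          (DerivedCategory.singleFunctor _ 0).mapIso (Scheme.Modules.restrictUnitIso v)) ≪≫ e₁.symm
  let eω : ω ≅ (Dual.inD B B)⟦n⟧ := (DCoh.tildeD (CommRingCat.of B)).preimageIso (e'.symm ≪≫ eU)
  let q : PrimeSpectrum B := p
  haveI := IsLocalization.flat (Loc q) q.asIdeal.primeCompl
  haveI : IsNoetherianRing (Loc q) := IsLocalization.isNoetherianRing q.asIdeal.primeCompl (Loc q) ‹_›
  refine (gor_stalk_iff (v ≫ U.ι) q).2 ((H4DR.Dualizing.gorenstein_iff (H4DR.Dualizing.isDualizing_loc hω q)).2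
    ⟨-n, fun j hj => ?_, ⟨?_⟩⟩)
  · haveI := H4DR.PCoh.subsingleton_HD_inD (ModuleCat.of B B) (n + j) (by omega)
    haveI : Subsingleton (Dual.HD B ω j) :=
      ((H4DR.PCoh.hEquiv j eω).trans (H4DR.PCoh.hShift (Dual.inD B B) n j (n + j) rfl)).injective.subsingleton
    exact (hBC (Loc q) j ω).injective.subsingleton
  · exact (hBC (Loc q) (-n) ω).trans ((LinearEquiv.baseChange B (Loc q) _ _
      (((H4DR.PCoh.hEquiv (-n) eω).trans (H4DR.PCoh.hShift (Dual.inD B B) n (-n) 0 (add_neg_cancel n))).trans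
        (H4DR.DComplete.e0 (ModuleCat.of B B)))).trans (TensorProduct.AlgebraTensorModule.rid B (Loc q) (Loc q)))

/-- If a dualizing complex is invertible then `O` is dualizing. -/
theorem isDualizingSch_one_of_invertible {K : DCoh.D X} (hK : Dual2.IsDualizingSch X K) (h : Dual3.IsInvertibleD K) :
    Dual2.IsDualizingSch X (DCoh.inD X (Coh.structureModule X)) := by
  refine LeadBrown.isDualizingSch_of_cover _ fun x => ?_
  obtain ⟨U, n, hxU, ⟨e⟩⟩ := h x
  obtain ⟨B, v, hv, p, hp⟩ := exists_affine_chart (X := (U : Scheme.{u})) ⟨x, hxU⟩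
  obtain rfl : (v ≫ U.ι).base p = x := by
    show U.ι.base (v.base p) = x
    rw [hp]; rfl
  obtain ⟨ω, hω, ⟨e'⟩⟩ := hK B (v ≫ U.ι)
  haveI := hω.isNoetherianRing
  obtain ⟨e₁⟩ := nonempty_tilde_inD_shift (A := B) n
  haveI := (QCohD.full_faithful (CommRingCat.of B)).1
  haveI := (QCohD.full_faithful (CommRingCat.of B)).2
  let eU : (rd (v ≫ U.ι)).obj K ≅ (DCoh.tildeD (CommRingCat.of B)).obj ((Dual.inD B B)⟦n⟧) :=
    rdComp v U.ι (v ≫ U.ι) rfl K ≪≫ (rd v).mapIso e ≪≫ ((rd v).commShiftIso n).app _ ≪≫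
      (shiftFunctor _ n).mapIso
        (((Scheme.Modules.restrictFunctor v).mapDerivedCategorySingleFunctor 0).app _ ≪≫
          (DerivedCategory.singleFunctor _ 0).mapIso (Scheme.Modules.restrictUnitIso v)) ≪≫ e₁.symm
  let eω : ω ≅ (Dual.inD B B)⟦n⟧ := (DCoh.tildeD (CommRingCat.of B)).preimageIso (e'.symm ≪≫ eU)
  refine ⟨B, inferInstance, v ≫ U.ι, inferInstance, ⟨p, rfl⟩, Dual.inD B B,
    H4DR.Dualizing.isDualizing_of_iso ((shiftFunctorCompIsoId (Dual.D B) n (-n) (add_neg_cancel n)).app _)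
      (H4DR.Dualizing.isDualizing_shift (H4DR.Dualizing.isDualizing_of_iso eω hω) (-n)), ?_⟩
  obtain ⟨e₀⟩ := nonempty_tilde_inD_shift (A := B) 0
  exact ⟨((Scheme.Modules.restrictFunctor (v ≫ U.ι)).mapDerivedCategorySingleFunctor 0).app _ ≪≫
    (DerivedCategory.singleFunctor _ 0).mapIso (Scheme.Modules.restrictUnitIso (v ≫ U.ι)) ≪≫
    ((shiftFunctorZero _ ℤ).app _).symm ≪≫ e₀.symm ≪≫
    (DCoh.tildeD (CommRingCat.of B)).mapIso ((shiftFunctorZero (Dual.D B) ℤ).app _)⟩

end Groth.Agent.H4RSH
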