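import Groth.Agent.H4DR.Dualizing.GlobalUnique
import Groth.Agent.H4DR.Dualizing.GorensteinLocus

/-!
# Spreading out `F_p ≅ A_p[n]`
-/

set_option autoImplicit false
set_option linter.style.haveILetI false
set_option linter.unusedSectionVars false
set_option maxHeartbeats 800000

universe u

open CategoryTheory CategoryTheory.Limits
open scoped TensorProduct

attribute [local instance] HasDerivedCategory.standard

namespace Groth.Agent.H4RSH

open Groth.Agent.H4DR Groth.Agent.H4DR.Dualizing
open Groth.Agent.H4DR.FlatBC (FD hBC)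

variable {A : Type u} [CommRing A] [IsNoetherianRing A]

theorem exists_kill (N : Type u) [AddCommGroup N] [Module A N] [Module.Finite A N] (p : PrimeSpectrum A)
    (h : Subsingleton (Loc p ⊗[A] N)) : ∃ g : A, g ∉ p.asIdeal ∧ ∀ x : N, g • x = 0 := by
  have h1 : p ∉ Module.support A N := fun hp =>
    not_subsingleton_iff_nontrivial.2 ((mem_support_iff_nontrivial p _).1 hp) h
  rw [Module.support_eq_zeroLocus, PrimeSpectrum.mem_zeroLocus] at h1
  obtain ⟨g, hg, hgp⟩ := Set.not_subset.1 h1
  exact ⟨g, hgp, fun x => Module.mem_annihilator.1 hg x⟩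

theorem subsingleton_of_kill {N : Type u} [AddCommGroup N] [Module A N] {B : Type u} [CommRing B] [Algebra A B]
    {g : A} (hg : IsUnit (algebraMap A B g)) (h : ∀ x : N, g • x = 0) : Subsingleton (B ⊗[A] N) := by
  refine subsingleton_of_forall_eq 0 fun t => ?_
  have ht : algebraMap A B g • t = 0 := by
    rw [algebraMap_smul]
    induction t using TensorProduct.induction_on with
    | zero => simp
    | add y z hy hz => rw [smul_add, hy, hz, add_zero]
    | tmul b x => rw [← TensorProduct.tmul_smul, h, TensorProduct.tmul_zero]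
  exact hg.smul_eq_zero.1 ht

/-- A finite module free of rank one at `p` is so near `p`. -/
theorem exists_away_equiv (H : Type u) [AddCommGroup H] [Module A H] [Module.Finite A H] (p : PrimeSpectrum A)
    (e : Loc p ⊗[A] H ≃ₗ[Loc p] Loc p) :
    ∃ g₀ : A, g₀ ∉ p.asIdeal ∧ ∀ (B : Type u) [CommRing B] [Algebra A B] [Module.Flat A B],
      IsUnit (algebraMap A B g₀) → Nonempty (B ⊗[A] H ≃ₗ[B] B) := by
  haveI : Module.Flat A (Loc p) := IsLocalization.flat _ p.asIdeal.primeCompl
  haveI : IsLocalizedModule p.asIdeal.primeCompl (TensorProduct.mk A (Loc p) H 1) :=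
    (isLocalizedModule_iff_isBaseChange p.asIdeal.primeCompl (Loc p) _).2 (TensorProduct.isBaseChange A H (Loc p))
  obtain ⟨⟨x, s⟩, hs⟩ := IsLocalizedModule.surj p.asIdeal.primeCompl (TensorProduct.mk A (Loc p) H 1) (e.symm 1)
  obtain ⟨u, hu⟩ := IsLocalization.map_units (Loc p) s
  let φ : A →ₗ[A] H := LinearMap.toSpanSingleton A H x
  have hb : Function.Bijective (φ.lTensor (Loc p)) := by
    have h1 : (φ.lTensor (Loc p) : Loc p ⊗[A] A → _) =
        (fun b : Loc p => e.symm ((u : Loc p) * b)) ∘ TensorProduct.AlgebraTensorModule.rid A (Loc p) (Loc p) :=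
      funext fun t => by
      induction t using TensorProduct.induction_on with
      | zero => simp
      | add y z hy hz =>
        simp only [Function.comp_apply, map_add, mul_add] at hy hz ⊢
        rw [hy, hz]
      | tmul b a =>
        simp only [Function.comp_apply, LinearMap.lTensor_tmul, TensorProduct.AlgebraTensorModule.rid_tmul, φ,
          LinearMap.toSpanSingleton_apply]
        have hs' : (s : A) • e.symm 1 = (1 : Loc p) ⊗ₜ[A] x := hs
        rw [show (u : Loc p) * a • b = (a • b) • (algebraMap A (Loc p) s • (1 : Loc p)) by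
          rw [hu, smul_eq_mul, smul_eq_mul, mul_one, mul_comm], map_smul, map_smul, algebraMap_smul, hs',
          TensorProduct.smul_tmul', smul_eq_mul, mul_one, TensorProduct.smul_tmul]
    rw [h1]
    exact (e.symm.bijective.comp (Units.mulLeft_bijective u)).comp
      (TensorProduct.AlgebraTensorModule.rid A (Loc p) (Loc p)).bijective
  haveI : IsNoetherian A H := isNoetherian_of_isNoetherianRing_of_finite A H
  obtain ⟨g₁, hg₁, hk₁⟩ := exists_kill (LinearMap.ker φ) p (subsingleton_of_forall_eq 0 fun t => by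
    refine Module.Flat.lTensor_preserves_injective_linearMap (M := Loc p) (LinearMap.ker φ).subtype
      Subtype.val_injective (hb.1 ?_)
    rw [map_zero, map_zero, ← LinearMap.comp_apply, ← LinearMap.lTensor_comp,
      show φ ∘ₗ (LinearMap.ker φ).subtype = 0 from LinearMap.ext fun y => y.2]
    simp)
  obtain ⟨g₂, hg₂, hk₂⟩ := exists_kill (H ⧸ LinearMap.range φ) p (subsingleton_of_forall_eq 0 fun t => by
    obtain ⟨y, rfl⟩ := LinearMap.lTensor_surjective (Loc p) (Submodule.mkQ_surjective (LinearMap.range φ)) t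
    obtain ⟨z, rfl⟩ := hb.2 y
    rw [← LinearMap.comp_apply, ← LinearMap.lTensor_comp, show (LinearMap.range φ).mkQ ∘ₗ φ = 0 from
      LinearMap.ext fun y => (Submodule.Quotient.mk_eq_zero _).2 ⟨y, rfl⟩]
    simp)
  refine ⟨g₁ * g₂, fun h => (p.isPrime.mem_or_mem h).elim hg₁ hg₂, fun B _ _ _ hunit => ?_⟩
  rw [map_mul, IsUnit.mul_iff] at hunit
  haveI := subsingleton_of_kill hunit.1 hk₁
  haveI := subsingleton_of_kill hunit.2 hk₂
  let g : B ⊗[A] A →ₗ[B] B ⊗[A] H := TensorProduct.AlgebraTensorModule.lTensor B B φ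
  have hg : Function.Bijective g := by
    refine ⟨(injective_iff_map_eq_zero _).2 fun t ht => ?_, fun t => ?_⟩
    · obtain ⟨y, rfl⟩ := (Module.Flat.lTensor_exact B (LinearMap.exact_subtype_ker_map φ) t).1 ht
      rw [Subsingleton.elim y 0, map_zero]
    · obtain ⟨y, hy⟩ := (Module.Flat.lTensor_exact B (LinearMap.exact_map_mkQ_range φ) t).1 (Subsingleton.elim _ _)
      exact ⟨y, hy⟩
  exact ⟨(LinearEquiv.ofBijective g hg).symm.trans (TensorProduct.AlgebraTensorModule.rid A B B)⟩

/-- `F_p ≅ A_p[-k]` spreads out to a basic open. -/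
theorem exists_away_iso (F : Dual.D A) (hF : ∀ i : ℤ, Module.Finite A (Dual.HD A F i))
    (hb : ∃ a b : ℤ, ∀ i, i < a ∨ b < i → Subsingleton (Dual.HD A F i)) (p : PrimeSpectrum A) (k : ℤ)
    (h0 : ∀ i, i ≠ k → Subsingleton (Loc p ⊗[A] Dual.HD A F i))
    (e : Loc p ⊗[A] Dual.HD A F k ≃ₗ[Loc p] Loc p) :
    ∃ g₀ : A, g₀ ∉ p.asIdeal ∧ ∀ (B : Type u) [CommRing B] [Algebra A B] [Module.Flat A B],
      IsUnit (algebraMap A B g₀) → Nonempty ((FD A B).obj F ≅ (Dual.inD B B)⟦-k⟧) := by
  classical
  obtain ⟨a, b, hab⟩ := hb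
  haveI := hF k
  obtain ⟨g, hg, hge⟩ := exists_away_equiv (Dual.HD A F k) p e
  have hk : ∀ i : ℤ, ∃ g : A, g ∉ p.asIdeal ∧ (i ≠ k → ∀ x : Dual.HD A F i, g • x = 0) := fun i => by
    by_cases hi : i = k
    · exact ⟨1, fun h => p.isPrime.ne_top ((Ideal.eq_top_iff_one _).2 h), fun h => absurd hi h⟩
    · haveI := hF i
      obtain ⟨g, hg, h⟩ := exists_kill _ p (h0 i hi)
      exact ⟨g, hg, fun _ => h⟩
  choose G hG hGk using hk
  refine ⟨g * ∏ i ∈ Finset.Icc a b, G i, fun h => ?_, fun B _ _ _ hunit => ?_⟩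
  · rcases p.isPrime.mem_or_mem h with h | h
    · exact hg h
    · obtain ⟨i, -, hi⟩ := p.isPrime.prod_mem_iff.1 h
      exact hG i hi
  rw [map_mul, IsUnit.mul_iff, map_prod] at hunit
  obtain ⟨eB⟩ := hge B hunit.1
  refine nonempty_iso_single k (fun j hj => ?_) ((hBC B k F).trans eB)
  haveI : Subsingleton (B ⊗[A] Dual.HD A F j) := by
    by_cases hr : j ∈ Finset.Icc a b
    · exact subsingleton_of_kill (isUnit_of_dvd_unit (Finset.dvd_prod_of_mem (fun x => algebraMap A B (G x)) hr) hunit.2) (hGk j hj)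
    · haveI := hab j (by rw [Finset.mem_Icc] at hr; omega)
      infer_instance
  exact (hBC B j F).injective.subsingleton

end Groth.Agent.H4RSH
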