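import Groth.Agent.H4RSH.GlobalBidual
import Groth.Agent.H4RSH.LocalTrivial
import Groth.Agent.LeadBrown.DualizingLocal

/-!
# Invertible objects of `D(O_X)` and dualizing complexes
-/

set_option autoImplicit false
set_option linter.style.haveILetI false
set_option linter.unusedSectionVars false
set_option backward.isDefEq.respectTransparency false
set_option synthInstance.maxHeartbeats 400000
set_option maxHeartbeats 1000000

universe u

open CategoryTheory CategoryTheory.Limits AlgebraicGeometry Pretriangulated Opposite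
open DerivedCategory.TStructure (t)
open scoped TensorProduct

attribute [local instance] HasDerivedCategory.standard

namespace Groth.Agent.H4RSH

open Groth.Agent.H16Derived Groth.Agent.H16Derived.QCohD Groth.Agent.H16Derived.Dual Groth.Agent.H25DTen
open Groth.Agent.LeadBrown (evS wR cT)
open Groth.Agent.H16Derived.KFlat.Stalk (rd rdComp homologyRdIso)
open Groth.Agent.H4DR.FlatBC (FD)
open Groth.Agent.H4DR.Dualizing (Loc loc)

section Dual

variable {A : Type u} [CommRing A] [IsNoetherianRing A]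

local notation "td" => DCoh.tildeD (CommRingCat.of A)

/-- `RHom(M~, L~)` is the tilde of a complex computing `Ext(M, L)`. -/
theorem exists_dual_ex (M L : Dual.D A) (hM : ∀ i : ℤ, Module.Finite A (Dual.HD A M i))
    (hL : DRing.HasFiniteInjDim A L) :
    ∃ F : Dual.D A, (∀ i : ℤ, Nonempty (Dual.HD A F i ≃ₗ[A] H4DR.Ext.Ex M L i)) ∧
      Nonempty ((R ((td).obj M)).obj ((td).obj L) ≅ (td).obj F) := by
  haveI : PreservesFiniteLimits (tilde.functor (CommRingCat.of A)) := QCohD.preservesFiniteLimits_tilde_of _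
  obtain ⟨J, a, b, hv, hJ, ⟨eJ⟩⟩ := H4DR.Dualizing.exists_injRep (K := L) (H4DR.Ext.fid_iff.2 hL)
  haveI := H4DR.Ext.isKInjective_of_vanishesOutside hv hJ
  obtain ⟨C, ⟨eC⟩⟩ : ∃ C, Nonempty (DerivedCategory.Q.obj C ≅ M) :=
    ⟨_, ⟨DerivedCategory.Q.objObjPreimageIso M⟩⟩
  haveI := H4DR.RHom.hasRHomCx C
  have hC : ∀ i : ℤ, Module.Finite A (Dual.HD A (DRing.toD C) i) := fun i =>
    haveI := hM i
    Module.Finite.equiv ((DerivedCategory.homologyFunctor (ModuleCat.{u} A) i).mapIso eC).symm.toLinearEquiv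
  obtain ⟨E, ⟨eE⟩⟩ : ∃ E : CochainComplex (Spec (CommRingCat.of A)).Modules ℤ,
      Nonempty (DCoh.toD (Spec (CommRingCat.of A)) E ≅
        (DCoh.tildeD (CommRingCat.of A)).obj (DRing.toD C)) :=
    (KFlat.Stalk.exists_kflat_rep (X := Spec (CommRingCat.of A))
      ((td).obj (DRing.toD C))).imp fun _ h => h.2
  haveI := KFlat.Stalk.hasLTensorCx E
  haveI : DCoh.HasRSheafHom E := Functor.isLeftAdjoint_of_iso (ltensorCxIsoT E)
  obtain ⟨e⟩ := S1822.result A C hC L hL E ⟨eE⟩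
  refine ⟨(DRing.RHomCx C).obj L, fun i => ⟨?_⟩,
    ⟨(Dual.RIso ((td).mapIso eC.symm ≪≫ eE.symm)).app _ ≪≫ ((rsheafHomIso E).app _).symm ≪≫ e⟩⟩
  exact (H4DR.PCoh.hEquiv i ((DRing.RHomCx C).mapIso eJ.symm ≪≫ H4DR.RHom.rhomObj C J)).trans
    ((H4DR.Dualizing.homClassEquiv C J i).trans ((H4DR.Ext.preIso eC.symm _).trans
      (H4DR.Ext.postIso M ((CategoryTheory.shiftFunctor (Dual.D A) i).mapIso eJ))))

/-- `(A[n])~ = O[n]`. -/
theorem nonempty_tilde_inD_shift (n : ℤ) :
    Nonempty ((td).obj ((Dual.inD A A)⟦n⟧) ≅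
      (DCoh.inD (Spec (CommRingCat.of A)) (Coh.structureModule (Spec (CommRingCat.of A))))⟦n⟧) := by
  haveI : PreservesFiniteLimits (tilde.functor (CommRingCat.of A)) := QCohD.preservesFiniteLimits_tilde_of _
  exact ⟨((td).commShiftIso n).app _ ≪≫ (shiftFunctor _ n).mapIso
    (((tilde.functor (CommRingCat.of A)).mapDerivedCategorySingleFunctor 0).app (ModuleCat.of A A) ≪≫
      (DerivedCategory.singleFunctor (Spec (CommRingCat.of A)).Modules 0).mapIso
        (AlgebraicGeometry.tildeSelf (R := CommRingCat.of A)))⟩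

end Dual

variable {X : Scheme.{u}}

/-- Locally the shifted unit. -/
def IsLocUnit (E : DCoh.D X) : Prop :=
  ∀ x : X, ∃ (U : Scheme.{u}) (j : U ⟶ X) (_ : IsOpenImmersion j) (m : ℤ), x ∈ Set.range j.base ∧
    Nonempty ((rd j).obj E ≅ (DCoh.inD U (Coh.structureModule U))⟦m⟧)

/-- `IsInvertibleD` in terms of arbitrary open immersions. -/
theorem isInvertibleD_of_isLocUnit
    [∀ (U : Scheme.{u}) (j : U ⟶ X) [IsOpenImmersion j], PreservesFiniteLimits (Scheme.Modules.restrictFunctor j)]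
    {E : DCoh.D X} (h : IsLocUnit E) : Dual3.IsInvertibleD E := fun x => by
  obtain ⟨U, j, hj, m, hx, ⟨e⟩⟩ := h x
  refine ⟨j.opensRange, m, hx, ⟨?_⟩⟩
  let c := j.isoOpensRange.inv
  exact rdComp c j _ j.isoOpensRange_inv_comp E ≪≫ (rd c).mapIso e ≪≫ ((rd c).commShiftIso m).app _ ≪≫
    (shiftFunctor _ m).mapIso
      (((Scheme.Modules.restrictFunctor c).mapDerivedCategorySingleFunctor 0).app _ ≪≫
        (DerivedCategory.singleFunctor _ 0).mapIso (Scheme.Modules.restrictUnitIso c))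

/-- `K ⊗ RHom(K, L) ⟶ L` is invertible for `K` a shift of the unit. -/
theorem isIso_evS_o {k : DCoh.D X} (m : ℤ) (e : k ≅ o X m) (L : DCoh.D X) : IsIso (evS k L) := by
  haveI : ((T X).obj (o X m)).IsEquivalence := Functor.isEquivalence_of_iso (LeadBrown.tSwap (o X m))
  haveI : IsIso (evS (o X m) L) := inferInstanceAs (IsIso ((LeadBrown.adjS (o X m)).counit.app L))
  haveI := LeadBrown.isIso_Rmap e.hom L
  have h := LeadBrown.Rmap_evS e.hom L
  haveI : IsIso (((T X).obj k).map (Rmap e.hom L) ≫ evS k L) := by rw [h]; infer_instance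
  exact IsIso.of_isIso_comp_left (((T X).obj k).map (Rmap e.hom L)) (evS k L)

/-- `K ⊗ RHom(K, L) ⟶ L` is invertible for invertible `K`. -/
theorem isIso_evS {k : DCoh.D X} (h : IsLocUnit k) (L : DCoh.D X) : IsIso (evS k L) := by
  refine isIso_of_isIso_rd_cover _ fun x => ?_
  obtain ⟨U, j, hj, m, hx, ⟨e⟩⟩ := h x
  refine ⟨U, j, hj, hx, ?_⟩
  haveI := QCohD.hasRpush j
  haveI := KFlat.Stalk.hasLpull j
  let ρ := LeadBrown.rdIsoLpull j
  refine (NatIso.isIso_map_iff ρ _).2 ?_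
  haveI := isIso_wR j k L
  let e' : (DCoh.Lpull j).obj k ≅ o U m := (ρ.app k).symm ≪≫ e ≪≫
    (shiftFunctor _ m).mapIso oneIso ≪≫ ((DerivedCategory.Q.commShiftIso m).app (S₀ U)).symm
  haveI := isIso_evS_o _ e' ((DCoh.Lpull j).obj L)
  haveI : IsIso ((cT j k ((R k).obj L)).inv ≫ (DCoh.Lpull j).map (evS k L)) := by
    rw [← LeadBrown.wR_evS]; infer_instance
  exact IsIso.of_isIso_comp_left (cT j k ((R k).obj L)).inv _

/-- A chart on which an object is `F~`, with `F` invertible at a point, gives a neighbourhood where it is a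
shifted unit. -/
theorem exists_chart_unit [∀ (R : CommRingCat.{u}), PreservesFiniteLimits (tilde.functor R)] {E : DCoh.D X}
    {A : Type u} [CommRing A] [IsNoetherianRing A] (j : Spec (CommRingCat.of A) ⟶ X) [IsOpenImmersion j]
    (F : Dual.D A) (e : (rd j).obj E ≅ (DCoh.tildeD (CommRingCat.of A)).obj F)
    (hF : ∀ i : ℤ, Module.Finite A (Dual.HD A F i))
    (hb : ∃ a b : ℤ, ∀ i, i < a ∨ b < i → Subsingleton (Dual.HD A F i)) (p : PrimeSpectrum A) (k : ℤ)
    (h0 : ∀ i, i ≠ k → Subsingleton (Loc p ⊗[A] Dual.HD A F i))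
    (h1 : Nonempty (Loc p ⊗[A] Dual.HD A F k ≃ₗ[Loc p] Loc p)) :
    ∃ (U : Scheme.{u}) (l : U ⟶ X) (_ : IsOpenImmersion l) (m : ℤ), j.base p ∈ Set.range l.base ∧
      Nonempty ((rd l).obj E ≅ (DCoh.inD U (Coh.structureModule U))⟦m⟧) := by
  obtain ⟨g, hg, hgB⟩ := exists_away_iso F hF hb p k h0 h1.some
  let B := Localization.Away g
  let v := Spec.map (CommRingCat.ofHom (algebraMap A B))
  haveI : IsOpenImmersion v := IsOpenImmersion.of_isLocalization (S := B) g
  haveI : Module.Flat A B := IsLocalization.flat B (Submonoid.powers g)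
  haveI : IsNoetherianRing B := IsLocalization.isNoetherianRing (Submonoid.powers g) B ‹_›
  obtain ⟨eB⟩ := hgB B (IsLocalization.Away.algebraMap_isUnit g)
  obtain ⟨e'⟩ := H4RepDual.nonempty_FD_of_open j (v ≫ j) rfl E F e.symm
  obtain ⟨e₁⟩ := nonempty_tilde_inD_shift (A := B) (-k)
  obtain ⟨q, hq⟩ : p ∈ Set.range (PrimeSpectrum.comap (algebraMap A B)) := by
    rw [PrimeSpectrum.localization_away_comap_range B g]; exact hg
  exact ⟨Spec (CommRingCat.of B), v ≫ j, inferInstance, -k, ⟨q, congrArg j.base hq⟩,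
    ⟨e'.symm ≪≫ (DCoh.tildeD (CommRingCat.of B)).mapIso eB ≪≫ e₁⟩⟩

/-- The dual of one dualizing complex in another is invertible. -/
theorem isLocUnit_R [IsLocallyNoetherian X]
    [∀ (U : Scheme.{u}) (j : U ⟶ X) [IsOpenImmersion j], PreservesFiniteLimits (Scheme.Modules.restrictFunctor j)]
    [∀ (R : CommRingCat.{u}), PreservesFiniteLimits (tilde.functor R)]
    {K K' : DCoh.D X} (hK : Dual2.IsDualizingSch X K) (hK' : Dual2.IsDualizingSch X K') :
    IsLocUnit ((R K).obj K') := fun x => by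
  obtain ⟨B, j, hj, hx⟩ : ∃ (B : CommRingCat.{u}) (j : Spec B ⟶ X), IsOpenImmersion j ∧ x ∈ Set.range j.base :=
    let ⟨i, y, hy⟩ := X.affineCover.exists_eq x
    ⟨_, X.affineCover.f i, inferInstance, y, hy⟩
  obtain ⟨p, rfl⟩ := hx
  haveI : IsOpenImmersion (X := Spec (CommRingCat.of B)) j := hj
  obtain ⟨ω, hω, ⟨e⟩⟩ := hK B (j : Spec (CommRingCat.of B) ⟶ X)
  obtain ⟨ω', hω', ⟨e'⟩⟩ := hK' B (j : Spec (CommRingCat.of B) ⟶ X)
  haveI := hω.isNoetherianRing
  obtain ⟨F, hF, ⟨eF⟩⟩ := exists_dual_ex ω ω' hω.finite_cohomology (hfid hω')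
  haveI := QCohD.hasRpush j
  haveI := KFlat.Stalk.hasLpull j
  let ρ := LeadBrown.rdIsoLpull j
  haveI := isIso_wR j K K'
  let eE : (rd j).obj ((R K).obj K') ≅ (DCoh.tildeD (CommRingCat.of B)).obj F :=
    ρ.app _ ≪≫ asIso (wR j K K') ≪≫ (Dual.RIso ((ρ.app K).symm ≪≫ e)).app _ ≪≫
      (R _).mapIso ((ρ.app K').symm ≪≫ e') ≪≫ eF
  have hfin : ∀ i : ℤ, Module.Finite B (Dual.HD B F i) := fun i =>
    haveI := H4DR.Ext.finite_ex_of_finiteInjDim hω.finite_cohomology hω'.finite_cohomology (hfid hω') i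
    Module.Finite.equiv (hF i).some.symm
  obtain ⟨c, d, hcd⟩ := H4DR.Dualizing.exists_bounds hω
  obtain ⟨c', d', hcd'⟩ := H4DR.Dualizing.exists_bounds hω'
  have hb : ∃ a b : ℤ, ∀ i, i < a ∨ b < i → Subsingleton (Dual.HD B F i) := by
    obtain ⟨a', b', J, hv, hJ, ⟨eJ⟩⟩ := H4DR.Ext.fid_iff.1 (H4DR.Ext.fid_iff.2 (hfid hω'))
    refine ⟨c' - d, b' - c, fun i hi => ?_⟩
    suffices Subsingleton (H4DR.Ext.Ex ω ω' i) from (hF i).some.injective.subsingleton
    rcases hi with hi | hi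
    · haveI : DerivedCategory.IsLE ω d := (DerivedCategory.isLE_iff ω d).2 fun l hl =>
        ModuleCat.isZero_of_iff_subsingleton.2 (hcd l (Or.inr hl))
      haveI : DerivedCategory.IsGE (ω'⟦i⟧) (c' - i) := (DerivedCategory.isGE_iff _ _).2 fun l hl =>
        ModuleCat.isZero_of_iff_subsingleton.2
          (H4DR.FlatBC.subsingleton_HD_shift (fun l hl => hcd' l (Or.inl hl)) i l hl)
      exact subsingleton_of_forall_eq 0 fun f => DerivedCategory.TStructure.t.zero f d (c' - i) (by omega)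
    · exact H4DR.Ext.subsingleton_ex_of_GE (fun l hl => hcd l (Or.inl hl)) hv hJ eJ (by omega)
  obtain ⟨k, hk0, ⟨hk1⟩⟩ := H4DR.Dualizing.exists_localized_ex hω' hω p
  let eT : ∀ i, Loc (show PrimeSpectrum B from p) ⊗[B] Dual.HD B F i ≃ₗ[Loc (show PrimeSpectrum B from p)]
      Loc (show PrimeSpectrum B from p) ⊗[B] H4DR.Ext.Ex ω ω' i := fun i =>
    LinearEquiv.baseChange B _ _ _ (hF i).some
  exact exists_chart_unit (E := (R K).obj K') (j : Spec (CommRingCat.of B) ⟶ X) F eE hfin hb p k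
    (fun i hi => haveI := hk0 i hi; (eT i).injective.subsingleton) ⟨(eT k).trans hk1⟩

/-- Charts for a dualizing complex. -/
theorem exists_affine_chart (x : X) : ∃ (B : CommRingCat.{u}) (j : Spec (CommRingCat.of B) ⟶ X),
    IsOpenImmersion j ∧ x ∈ Set.range j.base :=
  let ⟨i, y, hy⟩ := X.affineCover.exists_eq x
  ⟨_, X.affineCover.f i, inferInstance, y, hy⟩

/-- A dualizing complex is coherent. -/
theorem isCohD_of_isDualizingSch [IsLocallyNoetherian X]
    [∀ (U : Scheme.{u}) (j : U ⟶ X) [IsOpenImmersion j], PreservesFiniteLimits (Scheme.Modules.restrictFunctor j)]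
    [∀ (R : CommRingCat.{u}), PreservesFiniteLimits (tilde.functor R)]
    {k : DCoh.D X} (hk : Dual2.IsDualizingSch X k) : DCoh.IsCohD k :=
  LeadBrown.isCohD_of_dualizing_cover k fun x => by
    obtain ⟨B, j, hj, hx⟩ := exists_affine_chart x
    exact ⟨B, inferInstance, j, hj, hx, hk B j⟩

end Groth.Agent.H4RSH
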