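import Groth.Agent.H4RSH.Stalks
import Groth.Agent.H4DR.Dualizing.TopModule
import Groth.Agent.H4DualSch.Basic
import Groth.Agent.H29Ref.StalkRestrict
import Groth.Agent.S2054
import Groth.Agent.S1762
import Groth.Agent.S7862

/-!
# The dualizing sheaf of a normal scheme is reflexive
-/

set_option autoImplicit false
set_option linter.style.haveILetI false
set_option linter.unusedSectionVars false
set_option backward.isDefEq.respectTransparency false
set_option synthInstance.maxHeartbeats 400000
set_option maxHeartbeats 1000000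

universe u

open CategoryTheory CategoryTheory.Limits AlgebraicGeometry
open scoped TensorProduct

attribute [local instance] HasDerivedCategory.standard

namespace Groth.Agent.H4RSH

open Groth.Agent.H16Derived Groth.Agent.H16Derived.TorTest
open Groth.Agent.H4DR.Dualizing
open Groth.Agent.H16Derived.KFlat.TildeStalk (toRing)

/-- The lowest cohomology of a dualizing complex over a normal local domain. -/
theorem exists_lowest {R : Type u} [CommRing R] [IsDomain R] [IsLocalRing R] [IsNoetherianRing R]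
    [IsIntegrallyClosed R] {ω : Dual.D R} (hω : Dual.IsDualizing R ω) :
    ∃ m : ℤ, (∀ i, i < m → Subsingleton (Dual.HD R ω i)) ∧ Module.IsReflexive R (Dual.HD R ω m) ∧
      ∃ x : Dual.HD R ω m, ∀ a : R, a ≠ 0 → a • x ≠ 0 := by
  obtain ⟨c, hn, -, -⟩ := exists_normalized hω
  have hω' := isDualizing_shift hω c
  obtain ⟨D, hD⟩ : ∃ D : ℕ, ringKrullDim R = D := by
    obtain ⟨e, he⟩ := exists_dim_quotient (A := R) (⊥ : PrimeSpectrum R)
    exact ⟨e, (ringKrullDim_eq_of_ringEquiv (RingEquiv.quotientBot R)).symm.trans he⟩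
  have hM : Module.supportDim R R = D := (Module.supportDim_self_eq_ringKrullDim (R := R)).trans hD
  let sh : ∀ i, Dual.HD R (ω⟦c⟧) i ≃ₗ[R] Dual.HD R ω (c + i) := fun i => H4DR.PCoh.hShift ω c i (c + i) rfl
  let s : Dual.HD R (ω⟦c⟧) (-(D : ℤ)) ≃ₗ[R] H4DR.Ext.Ex (Dual.inD R R) (ω⟦c⟧) (-(D : ℤ)) :=
    (H4DR.Ext.evalEquiv _ _).symm
  refine ⟨c + -(D : ℤ), fun i hi => ?_, ?_, ?_⟩
  · haveI := subsingleton_ex_below hω' hn (M := R) hM.le (i := i - c) (by omega)
    have e : Dual.HD R ω i ≃ₗ[R] H4DR.Ext.Ex (Dual.inD R R) (ω⟦c⟧) (i - c) :=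
      (show Dual.HD R ω i ≃ₗ[R] Dual.HD R ω (c + (i - c)) from
        (show c + (i - c) = i by omega).symm ▸ LinearEquiv.refl R _).trans
        ((sh (i - c)).symm.trans (H4DR.Ext.evalEquiv _ _).symm)
    exact e.injective.subsingleton
  all_goals
    haveI := hω'.finite_cohomology (-(D : ℤ))
    have hass := associatedPrimes_top hω' hn R hM s
    have hnz : ∀ (a : R) (x : Dual.HD R (ω⟦c⟧) (-(D : ℤ))), a • x = 0 → a = 0 ∨ x = 0 := fun a x h => by
      refine or_iff_not_imp_right.2 fun hx => ?_
      have h1 : a ∈ ⋃ p ∈ associatedPrimes R (Dual.HD R (ω⟦c⟧) (-(D : ℤ))), (p : Set R) := by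
        rw [biUnion_associatedPrimes_eq_zero_divisors R]
        exact ⟨x, hx, h⟩
      obtain ⟨p, hp, hap⟩ := Set.mem_iUnion₂.1 h1
      rw [hass] at hp
      have hp0 : p ∈ associatedPrimes R R := hp.1
      by_contra ha
      have h2 : a ∈ ((nonZeroDivisors R : Set R))ᶜ := by
        rw [← biUnion_associatedPrimes_eq_compl_nonZeroDivisors]
        exact Set.mem_iUnion₂.2 ⟨p, hp0, hap⟩
      exact h2 (mem_nonZeroDivisors_of_ne_zero ha)
  · haveI : NoZeroSMulDivisors R (Dual.HD R (ω⟦c⟧) (-(D : ℤ))) := ⟨fun {a x} h => hnz a x h⟩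
    haveI : Module.IsReflexive R (Dual.HD R (ω⟦c⟧) (-(D : ℤ))) :=
      S2054.result.2 ⟨inferInstance, hasSk_two_top hω' hn R hM s⟩
    exact Module.equiv (sh _)
  · have hnt : (⊥ : PrimeSpectrum R) ∈ Module.support R (H4DR.Ext.Ex (Dual.inD R R) (ω⟦c⟧) (-(D : ℤ))) :=
      (mem_support_top_iff hω' hn R hM _).2 ⟨⊥, by
        rw [Module.mem_support_iff_of_finite, Module.annihilator_eq_bot.2 inferInstance]; exact bot_le, le_rfl,
        (ringKrullDim_eq_of_ringEquiv (RingEquiv.quotientBot R)).trans hD⟩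
    rw [← s.support_eq, Module.mem_support_iff'] at hnt
    obtain ⟨x, hx⟩ := hnt
    refine ⟨sh _ x, fun a ha h => ?_⟩
    rw [← map_smul, LinearEquiv.map_eq_zero_iff] at h
    exact hx a (by simpa using ha) h

variable {X : Scheme.{u}}

/-- The cohomology sheaves at a point of a chart. -/
theorem exists_semilinear_stalk {A : Type u} [CommRing A] [PreservesFiniteLimits (tilde.functor (CommRingCat.of A))]
    [∀ (U : Scheme.{u}) (j : U ⟶ X) [IsOpenImmersion j], PreservesFiniteLimits (Scheme.Modules.restrictFunctor j)]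
    (j : Spec (CommRingCat.of A) ⟶ X) [IsOpenImmersion j] (K : DCoh.D X) (ω : Dual.D A)
    (e : (DCoh.restrictD j).obj K ≅ (DCoh.tildeD (CommRingCat.of A)).obj ω)
    (y : (Spec (CommRingCat.of A) : Scheme.{u})) (i : ℤ)
    (h : Module.IsReflexive ((Spec (CommRingCat.of A)).presheaf.stalk y)
      ((ModuleCat.extendScalars.{u, u, u} (toRing (R := CommRingCat.of A) y)).obj
        ((DerivedCategory.homologyFunctor (ModuleCat.{u} A) i).obj ω))) :
    Module.IsReflexive (X.presheaf.stalk (j.base y)) ((DCoh.HD K i).presheaf.stalk (j.base y)) := by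
  let S : Scheme.{u} := Spec (CommRingCat.of A)
  let G := (Scheme.Modules.restrictFunctor j).obj (DCoh.HD K i)
  let eG : (DerSch.stalkFunctor S y).obj G ≅ (ModuleCat.extendScalars.{u, u, u} (toRing (R := CommRingCat.of A) y)).obj
      ((DerivedCategory.homologyFunctor (ModuleCat.{u} A) i).obj ω) :=
    (DerSch.stalkFunctor S y).mapIso ((H4DualSch.hdRestrict j K i).symm ≪≫
      (DerivedCategory.homologyFunctor _ i).mapIso e ≪≫ H16Derived.KFlat.Stalk.hdTilde ω i) ≪≫
      (tildeStalkNatIso y).app _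
  haveI := h
  haveI hG : Module.IsReflexive (S.presheaf.stalk y) ((DerSch.stalkFunctor S y).obj G) :=
    Module.equiv eG.toLinearEquiv.symm
  let σ : X.presheaf.stalk (j.base y) ≃+* S.presheaf.stalk y :=
    RingEquiv.ofBijective (j.stalkMap y).hom (ConcreteCategory.bijective_of_isIso (j.stalkMap y))
  let E := H8Props.NilThick.rsE j (DCoh.HD K i) y
  refine @H29Ref.isReflexive_of_semilinear _ _ _ _ _ _ _ _ _ _ σ E.symm (fun r m => ?_) hG
  refine E.injective ?_
  rw [E.apply_symm_apply]
  exact ((H8Props.NilThick.rsE_smul j (DCoh.HD K i) y r (E.symm m)).trans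
    (congrArg (r • ·) (E.apply_symm_apply m))).symm

/-- **The dualizing sheaf of a normal connected Noetherian scheme is reflexive.** -/
theorem isReflexive_dualizingSheaf [IsNoetherian X] [ConnectedSpace X] (hX : Pi1.IsNormalScheme X)
    [∀ (U : Scheme.{u}) (j : U ⟶ X) [IsOpenImmersion j], PreservesFiniteLimits (Scheme.Modules.restrictFunctor j)]
    [∀ (R : CommRingCat.{u}), PreservesFiniteLimits (tilde.functor R)]
    (K : DCoh.D X) (hK : Dual2.IsDualizingSch X K) (n : ℤ)
    (hlt : ∀ i : ℤ, i < n → IsZero (DCoh.HD K i)) (hn : ¬ IsZero (DCoh.HD K n)) (x : X) :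
    Module.IsReflexive (X.presheaf.stalk x) ((DCoh.HD K n).presheaf.stalk x) := by
  haveI : IsIntegral X := S7862.isIntegral_of_connected X fun t => (hX t).1
  let η := genericPoint X
  have key : ∀ z : X, ∃ m : ℤ, Nontrivial ((DCoh.HD K m).presheaf.stalk η) ∧
      Nontrivial ((DCoh.HD K m).presheaf.stalk z) ∧
      (∀ i, i < m → ¬ Nontrivial ((DCoh.HD K i).presheaf.stalk z)) ∧
      (∀ i, Nontrivial ((DCoh.HD K i).presheaf.stalk η) → i = m) ∧
      Module.IsReflexive (X.presheaf.stalk z) ((DCoh.HD K m).presheaf.stalk z) := fun z => by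
    obtain ⟨B, j, hj, p, rfl⟩ := exists_affine_chart z
    obtain ⟨ω, hω, ⟨e⟩⟩ := hK B j
    haveI := hω.isNoetherianRing
    haveI : Nonempty (Spec (CommRingCat.of B)) := ⟨p⟩
    haveI : IsIntegral (Spec (CommRingCat.of B)) := isIntegral_of_isOpenImmersion j
    haveI : IsDomain B := (affine_isIntegral_iff (CommRingCat.of B)).1 inferInstance
    have hbot : j.base (⊥ : PrimeSpectrum B) = η := by
      rw [← genericPoint_eq_bot_of_affine (CommRingCat.of B)]
      exact genericPoint_eq_of_isOpenImmersion j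
    have hsη : ∀ i, Nontrivial ((DCoh.HD K i).presheaf.stalk η) ↔
        (⊥ : PrimeSpectrum B) ∈ Module.support B (Dual.HD B ω i) := fun i => by
      rw [← hbot]; exact H4DualSch.nontrivial_stalk_HD_iff j K ω e ⊥ i
    let q : PrimeSpectrum B := p
    let C := (Spec (CommRingCat.of B)).presheaf.stalk p
    letI : Algebra B C := (toRing (R := CommRingCat.of B) p).toAlgebra
    haveI : IsLocalization.AtPrime C q.asIdeal := StructureSheaf.IsLocalization.to_stalk (R := B) q
    haveI : Module.Flat B C := IsLocalization.flat C q.asIdeal.primeCompl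
    haveI : IsNoetherianRing C := IsLocalization.isNoetherianRing q.asIdeal.primeCompl C ‹_›
    let σ : X.presheaf.stalk (j.base p) ≃+* C :=
      RingEquiv.ofBijective (j.stalkMap p).hom (ConcreteCategory.bijective_of_isIso (j.stalkMap p))
    haveI := (hX (j.base p)).1
    haveI := (hX (j.base p)).2
    haveI : IsDomain C := σ.symm.toMulEquiv.isDomain
    haveI : IsIntegrallyClosed C := IsIntegrallyClosed.of_equiv σ
    obtain ⟨m, hlow, hrefl, y, hy⟩ := exists_lowest
      (H4DR.FlatBC.isDualizing_localization (B := C) q.asIdeal.primeCompl hω)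
    have hinj : Function.Injective (algebraMap B C) :=
      IsLocalization.injective C q.asIdeal.primeCompl_le_nonZeroDivisors
    haveI := hrefl
    have hrefl' : Module.IsReflexive C (C ⊗[B] Dual.HD B ω m) :=
      Module.equiv (H4DR.FlatBC.hBC C m ω)
    have hm : (⊥ : PrimeSpectrum B) ∈ Module.support B (Dual.HD B ω m) := by
      by_contra hcon
      refine hy 1 one_ne_zero ?_
      rw [one_smul]
      apply (H4DR.FlatBC.hBC C m ω).injective
      rw [map_zero]
      haveI := hω.finite_cohomology m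
      rw [Module.mem_support_iff_of_finite] at hcon
      obtain ⟨g, hg, hg0⟩ := Set.not_subset.1 hcon
      have hg0' : algebraMap B C g ≠ 0 := fun h => hg0 ((map_eq_zero_iff _ hinj).1 h)
      have : algebraMap B C g • H4DR.FlatBC.hBC C m ω y = 0 := by
        generalize H4DR.FlatBC.hBC C m ω y = t
        rw [algebraMap_smul]
        induction t using TensorProduct.induction_on with
        | zero => simp
        | add a b ha hb => rw [smul_add, ha, hb, add_zero]
        | tmul b w => rw [← TensorProduct.tmul_smul, Module.mem_annihilator.1 hg, TensorProduct.tmul_zero]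
      rw [← map_smul, LinearEquiv.map_eq_zero_iff] at this
      exact absurd this (hy _ hg0')
    have hiff : ∀ i, Nontrivial ((DCoh.HD K i).presheaf.stalk (j.base p)) ↔ q ∈ Module.support B (Dual.HD B ω i) :=
      fun i => H4DualSch.nontrivial_stalk_HD_iff j K ω e q i
    refine ⟨m, (hsη m).2 hm, (hiff m).2 (Module.mem_support_mono bot_le hm), fun i hi hnt => ?_,
      fun i hi => ?_, exists_semilinear_stalk j K ω e p m hrefl'⟩
    · haveI : Nontrivial (Loc q ⊗[B] Dual.HD B ω i) := (mem_support_iff_nontrivial q _).1 ((hiff i).1 hnt)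
      haveI : Subsingleton (C ⊗[B] Dual.HD B ω i) :=
        haveI := hlow i hi; (H4DR.FlatBC.hBC C i ω).symm.injective.subsingleton
      exact not_subsingleton _ ((TensorProduct.congr ((IsLocalization.algEquiv q.asIdeal.primeCompl (Loc q) C).toLinearEquiv)
        (LinearEquiv.refl B (Dual.HD B ω i))).injective.subsingleton : Subsingleton (Loc q ⊗[B] Dual.HD B ω i))
    · obtain ⟨i₀, -, huniq⟩ := S1762.result B ω hω ⊥ (by simp [IsDomain.minimalPrimes_eq_singleton_bot])
      exact (huniq i (Module.mem_support_iff.1 ((hsη i).1 hi))).trans (huniq m (Module.mem_support_iff.1 hm)).symm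
  obtain ⟨z, hz⟩ : ∃ z : X, Nontrivial ((DCoh.HD K n).presheaf.stalk z) := by
    by_contra hcon
    exact hn ((Thomason.isZero_hd_iff K n).2 (Set.eq_empty_iff_forall_notMem.2 fun z hz => hcon ⟨z, not_subsingleton_iff_nontrivial.1 hz⟩))
  have hge : ∀ i : ℤ, ∀ w : X, Nontrivial ((DCoh.HD K i).presheaf.stalk w) → n ≤ i := fun i w hw => by
    by_contra hlt'
    haveI := hw
    have h0 := (Thomason.isZero_hd_iff K i).1 (hlt i (not_le.1 hlt'))
    exact Set.eq_empty_iff_forall_notMem.1 h0 w (not_subsingleton _)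
  obtain ⟨m, hmη, hm, hlo, huniq, hrefl⟩ := key x
  obtain ⟨m', hmη', hm', hlo', -, -⟩ := key z
  obtain rfl : n = m := by
    have h1 : m' ≤ n := not_lt.1 fun h => hlo' n h hz
    have h2 := hge m' z hm'
    have h3 := huniq m' hmη'
    omega
  exact hrefl

end Groth.Agent.H4RSH
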