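import Groth.Agent.H10Coh.TensorTilde
import Groth.Agent.H16Derived.KFlat.TotCompare
import Groth.Agent.H4DR.RHom.TensHom

/-!
# The tilde of a tensor product of complexes
-/

set_option autoImplicit false
set_option linter.style.haveILetI false
set_option backward.isDefEq.respectTransparency false
set_option maxHeartbeats 1000000

universe u

open CategoryTheory CategoryTheory.Limits AlgebraicGeometry MonoidalCategory
open Groth.Agent.H16Derived Groth.Agent.H16Derived.KFlat Groth.Agent.H16Derived.KFlat.Stalk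
open Groth.Agent.H4DR (KFlatMod.bi)

attribute [local instance] HasDerivedCategory.standard

namespace Groth.Agent.H4RSH

namespace TotNat

universe v₁ v₂ v₃ v₄ v₅ v₆ u₁ u₂ u₃ u₄ u₅ u₆

variable {A₁ : Type u₁} [Category.{v₁} A₁] [Abelian A₁] {B₁ : Type u₂} [Category.{v₂} B₁] [Abelian B₁]
  {C₁ : Type u₃} [Category.{v₃} C₁] [Abelian C₁] [HasCountableCoproducts C₁]
  {F₁ : A₁ ⥤ B₁ ⥤ C₁} [F₁.Additive] [∀ a, (F₁.obj a).Additive]
  {A₂ : Type u₄} [Category.{v₄} A₂] [Abelian A₂] {B₂ : Type u₅} [Category.{v₅} B₂] [Abelian B₂]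
  {C₂ : Type u₆} [Category.{v₆} C₂] [Abelian C₂] [HasCountableCoproducts C₂]
  {F₂ : A₂ ⥤ B₂ ⥤ C₂} [F₂.Additive] [∀ a, (F₂.obj a).Additive]
  {G₁ : C₁ ⥤ C₂} [G₁.Additive]
  [∀ J : Type, PreservesColimitsOfShape (Discrete J) G₁]

/-- `G Tot F₁ ≅ Tot F₂`. -/
noncomputable def iso' (L₁ : CochainComplex A₁ ℤ) (E₁ : CochainComplex B₁ ℤ) (L₂ : CochainComplex A₂ ℤ)
    (E₂ : CochainComplex B₂ ℤ)
    (β : ∀ p q : ℤ, G₁.obj ((F₁.obj (L₁.X p)).obj (E₁.X q)) ≅ (𝟭 C₂).obj ((F₂.obj (L₂.X p)).obj (E₂.X q)))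
    (h₁ : ∀ p q : ℤ, G₁.map ((F₁.map (L₁.d p (p + 1))).app (E₁.X q)) ≫ (β (p + 1) q).hom =
      (β p q).hom ≫ (𝟭 C₂).map ((F₂.map (L₂.d p (p + 1))).app (E₂.X q)))
    (h₂ : ∀ p q : ℤ, G₁.map ((F₁.obj (L₁.X p)).map (E₁.d q (q + 1))) ≫ (β p (q + 1)).hom =
      (β p q).hom ≫ (𝟭 C₂).map ((F₂.obj (L₂.X p)).map (E₂.d q (q + 1)))) :
    (G₁.mapHomologicalComplex (ComplexShape.up ℤ)).obj ((tot F₁ L₁).obj E₁) ≅ (tot F₂ L₂).obj E₂ :=
  TotCompare.iso L₁ E₁ L₂ E₂ β h₁ h₂ ≪≫ (Functor.mapHomologicalComplexIdIso C₂ (ComplexShape.up ℤ)).app _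

/-- Comparisons of total complexes are natural in the first variable. -/
theorem iso_naturality {L₁ L₁' : CochainComplex A₁ ℤ} {L₂ L₂' : CochainComplex A₂ ℤ} (φ₁ : L₁ ⟶ L₁')
    (φ₂ : L₂ ⟶ L₂') (E₁ : CochainComplex B₁ ℤ) (E₂ : CochainComplex B₂ ℤ)
    (β : ∀ p q : ℤ, G₁.obj ((F₁.obj (L₁.X p)).obj (E₁.X q)) ≅ (𝟭 C₂).obj ((F₂.obj (L₂.X p)).obj (E₂.X q)))
    (β' : ∀ p q : ℤ, G₁.obj ((F₁.obj (L₁'.X p)).obj (E₁.X q)) ≅ (𝟭 C₂).obj ((F₂.obj (L₂'.X p)).obj (E₂.X q)))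
    (hφ : ∀ p q : ℤ, G₁.map ((F₁.map (φ₁.f p)).app (E₁.X q)) ≫ (β' p q).hom =
      (β p q).hom ≫ (𝟭 C₂).map ((F₂.map (φ₂.f p)).app (E₂.X q)))
    (h₁ : ∀ p q : ℤ, G₁.map ((F₁.map (L₁.d p (p + 1))).app (E₁.X q)) ≫ (β (p + 1) q).hom =
      (β p q).hom ≫ (𝟭 C₂).map ((F₂.map (L₂.d p (p + 1))).app (E₂.X q)))
    (h₂ : ∀ p q : ℤ, G₁.map ((F₁.obj (L₁.X p)).map (E₁.d q (q + 1))) ≫ (β p (q + 1)).hom =
      (β p q).hom ≫ (𝟭 C₂).map ((F₂.obj (L₂.X p)).map (E₂.d q (q + 1))))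
    (h₁' : ∀ p q : ℤ, G₁.map ((F₁.map (L₁'.d p (p + 1))).app (E₁.X q)) ≫ (β' (p + 1) q).hom =
      (β' p q).hom ≫ (𝟭 C₂).map ((F₂.map (L₂'.d p (p + 1))).app (E₂.X q)))
    (h₂' : ∀ p q : ℤ, G₁.map ((F₁.obj (L₁'.X p)).map (E₁.d q (q + 1))) ≫ (β' p (q + 1)).hom =
      (β' p q).hom ≫ (𝟭 C₂).map ((F₂.obj (L₂'.X p)).map (E₂.d q (q + 1)))) :
    (G₁.mapHomologicalComplex (ComplexShape.up ℤ)).map ((F₁.map₂CochainComplex.map φ₁).app E₁) ≫
        (iso' L₁' E₁ L₂' E₂ β' h₁' h₂').hom =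
      (iso' L₁ E₁ L₂ E₂ β h₁ h₂).hom ≫ (F₂.map₂CochainComplex.map φ₂).app E₂ := by
  refine HomologicalComplex.hom_ext _ _ fun n => TotCompare.hom_ext F₁ G₁ L₁ E₁ fun p q h => ?_
  show _ ≫ G₁.map ((HomologicalComplex.mapBifunctorMap φ₁ (𝟙 E₁) F₁ (ComplexShape.up ℤ)).f n) ≫
      (TotCompare.isoX (G₂ := 𝟭 C₂) L₁' E₁ L₂' E₂ β' n).hom ≫ 𝟙 _ =
    _ ≫ ((TotCompare.isoX (G₂ := 𝟭 C₂) L₁ E₁ L₂ E₂ β n).hom ≫ 𝟙 _) ≫
      (HomologicalComplex.mapBifunctorMap φ₂ (𝟙 E₂) F₂ (ComplexShape.up ℤ)).f n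
  rw [Category.assoc, reassoc_of% (TotCompare.map_ι_isoX (G₂ := 𝟭 C₂) L₁ E₁ L₂ E₂ β p q n h)]
  erw [← Category.assoc, ← G₁.map_comp, HomologicalComplex.ι_mapBifunctorMap, Category.id_comp,
    HomologicalComplex.ι_mapBifunctorMap]
  simp only [HomologicalComplex.id_f, CategoryTheory.Functor.map_id, Category.id_comp, Functor.map_comp, Category.assoc]
  erw [Category.comp_id]
  erw [TotCompare.map_ι_isoX (G₂ := 𝟭 C₂) L₁' E₁ L₂' E₂ β' p q n h, ← Category.assoc, hφ, Category.assoc]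
  rfl

section Nat

variable (T : A₁ ⥤ A₂) [T.Additive] (S : B₁ ⥤ B₂) [S.Additive] (F₁ F₂) (G₁)
  (α : ∀ a b, G₁.obj ((F₁.obj a).obj b) ≅ (F₂.obj (T.obj a)).obj (S.obj b))
  (ha : ∀ {a a' : A₁} (f : a ⟶ a') (b : B₁),
    G₁.map ((F₁.map f).app b) ≫ (α a' b).hom = (α a b).hom ≫ (F₂.map (T.map f)).app (S.obj b))
  (hb : ∀ (a : A₁) {b b' : B₁} (g : b ⟶ b'),
    G₁.map ((F₁.obj a).map g) ≫ (α a b').hom = (α a b).hom ≫ (F₂.obj (T.obj a)).map (S.map g))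

/-- `G Tot F₁(-, E) ≅ Tot F₂(T -, S E)`. -/
noncomputable def natIso (E : CochainComplex B₁ ℤ) :
    F₁.map₂CochainComplex.flip.obj E ⋙ G₁.mapHomologicalComplex (ComplexShape.up ℤ) ≅
      T.mapHomologicalComplex (ComplexShape.up ℤ) ⋙
        F₂.map₂CochainComplex.flip.obj ((S.mapHomologicalComplex (ComplexShape.up ℤ)).obj E) :=
  NatIso.ofComponents
    (fun L => iso' (F₁ := F₁) (F₂ := F₂) (G₁ := G₁) L E ((T.mapHomologicalComplex (ComplexShape.up ℤ)).obj L)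
      ((S.mapHomologicalComplex (ComplexShape.up ℤ)).obj E) (fun p q => α (L.X p) (E.X q))
      (fun p q => ha (L.d p (p + 1)) (E.X q)) (fun p q => hb (L.X p) (E.d q (q + 1))))
    fun {_ _} φ => iso_naturality φ ((T.mapHomologicalComplex (ComplexShape.up ℤ)).map φ) E _ _ _
      (fun p q => ha (φ.f p) (E.X q)) _ _ _ _

end Nat

end TotNat

open Groth.Agent.H10Coh (TT.cmp TT.cmp_toG TT.mulG TT.mulG_tmul TT.toG TT.toG_naturality TT.GT TT.tL)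

variable {A : Type u} [CommRing A]

theorem cmp_naturality_left {R : CommRingCat.{u}} {M M' : ModuleCat.{u} R} (g : M ⟶ M') (N : ModuleCat.{u} R) :
    (tilde.functor R).map (g ▷ N) ≫ TT.cmp M' N =
      TT.cmp M N ≫ ((DCoh.tensorBi (X := Spec R)).map ((tilde.functor R).map g)).app ((tilde.functor R).obj N) := by
  refine ((tilde.adjunction (R := R)).homEquiv _ _).injective ?_
  rw [Adjunction.homEquiv_unit, Adjunction.homEquiv_unit]
  refine ModuleCat.hom_ext (TensorProduct.ext' fun m n => ?_)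
  change (TT.cmp M' N).app ⊤ (((tilde.functor R).map (g ▷ N)).app ⊤ (TT.toG ((TT.tL M).obj N) (m ⊗ₜ n))) =
    (((DCoh.tensorBi (X := Spec R)).map ((tilde.functor R).map g)).app ((tilde.functor R).obj N)).app ⊤
      ((TT.cmp M N).app ⊤ (TT.toG ((TT.tL M).obj N) (m ⊗ₜ n)))
  refine (congrArg ((TT.cmp M' N).app ⊤) (TT.toG_naturality (g ▷ N) (m ⊗ₜ n))).trans ?_
  refine ((TT.cmp_toG M' N (g m ⊗ₜ n)).trans (TT.mulG_tmul M' N (g m) n)).trans ?_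
  refine Eq.trans ?_ (congrArg _ ((TT.cmp_toG M N (m ⊗ₜ n)).trans (TT.mulG_tmul M N m n))).symm
  have h := KoszTw.tensorMap_tmul ((tilde.functor R).map g) (𝟙 ((tilde.functor R).obj N)) ⊤ (TT.toG M m) (TT.toG N n)
  have e : KoszTw.tensorMap ((tilde.functor R).map g) (𝟙 ((tilde.functor R).obj N)) =
      ((DCoh.tensorBi (X := Spec R)).map ((tilde.functor R).map g)).app ((tilde.functor R).obj N) := by
    simp [KoszTw.tensorMap]
    try rfl
  rw [e, TT.toG_naturality] at h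
  exact h.symm

/-- `M~ ⊗ N~ = (M ⊗ N)~`, in the order used for total complexes. -/
noncomputable def β (M N : ModuleCat.{u} A) :
    (tilde.functor (CommRingCat.of A)).obj (((KFlatMod.bi (R := A)).obj M).obj N) ≅
      ((DCoh.tensorBi (X := Spec (CommRingCat.of A))).obj ((tilde.functor (CommRingCat.of A)).obj M)).obj
        ((tilde.functor (CommRingCat.of A)).obj N) :=
  haveI := H10Coh.TT.isIso_cmp (A := CommRingCat.of A) M N
  asIso (TT.cmp (A := CommRingCat.of A) M N)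

instance (J : Type) : PreservesColimitsOfShape (Discrete J) (tilde.functor (CommRingCat.of A)) :=
  haveI : PreservesColimitsOfSize.{u, u} (tilde.functor (CommRingCat.of A)) :=
    (tilde.adjunction (R := CommRingCat.of A)).leftAdjoint_preservesColimits
  haveI := preservesColimitsOfSize_shrink.{0, u, 0, u} (tilde.functor (CommRingCat.of A))
  inferInstance

/-- Tilde of complexes. -/
noncomputable abbrev tf' (C : DRing.Cx A) : CochainComplex (Spec (CommRingCat.of A)).Modules ℤ :=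
  ((tilde.functor (CommRingCat.of A)).mapHomologicalComplex (ComplexShape.up ℤ)).obj C

/-- `(C ⊗ P)~ ≅ C~ ⊗ P~`. -/
noncomputable def totNat (P : DRing.Cx A) :=
  TotNat.natIso (A₁ := ModuleCat.{u} A) (B₁ := ModuleCat.{u} A) (C₁ := ModuleCat.{u} A)
    (A₂ := (Spec (CommRingCat.of A)).Modules) (B₂ := (Spec (CommRingCat.of A)).Modules)
    (C₂ := (Spec (CommRingCat.of A)).Modules) (KFlatMod.bi (R := A)) (DCoh.tensorBi (X := Spec (CommRingCat.of A)))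
    (tilde.functor (CommRingCat.of A)) (tilde.functor (CommRingCat.of A)) (tilde.functor (CommRingCat.of A))
    (fun M N => β M N) (fun f b => cmp_naturality_left (R := CommRingCat.of A) f b)
    (fun a _ _ g => (H10Coh.TT.cmpNat (A := CommRingCat.of A) a).naturality g) P

end Groth.Agent.H4RSH
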