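import Groth.Agent.H4RSH.ProperLocal
import Groth.Agent.H8Props.FlatDepth
import Groth.Agent.H13CInt.FibreDepth
import Groth.Agent.S0365

/-!
# The dualizing complex of a proper scheme over a field
-/

set_option autoImplicit false
set_option linter.style.haveILetI false
set_option linter.unusedSectionVars false
set_option backward.isDefEq.respectTransparency false
set_option maxHeartbeats 1000000
set_option synthInstance.maxHeartbeats 400000

universe u

open CategoryTheory CategoryTheory.Limits AlgebraicGeometry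
open Groth.Agent.H4DR.Dualizing (Loc loc)

attribute [local instance] HasDerivedCategory.standard

namespace Groth.Agent.H4RSH.ProperLocal

/-- The dimension is attained on components. -/
theorem dim_le_of_components {X : Scheme.{u}} {c : WithBot ℕ∞}
    (h : ∀ Z ∈ irreducibleComponents X, topologicalKrullDim ↥Z ≤ c) : topologicalKrullDim X ≤ c := by
  refine iSup_le fun l => ?_
  obtain ⟨η, hη⟩ : ∃ η : X, η ∈ (l.last : Set X) := l.last.2.nonempty
  obtain ⟨Z, hZ, hlast⟩ : ∃ Z ∈ irreducibleComponents X, (l.last : Set X) ⊆ Z := by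
    obtain ⟨Z, hZi, hsub, hmax⟩ := exists_preirreducible (l.last : Set X) l.last.2.isPreirreducible
    exact ⟨Z, ⟨⟨⟨η, hsub hη⟩, hZi⟩, fun T hT hle => (hmax T hT.2 hle).le⟩, hsub⟩
  have hmem : ∀ k, (l k).2.genericPoint ∈ Z := fun k => hlast (l.monotone (Fin.le_last k) (by
    have h1 := subset_closure (Set.mem_singleton (l k).2.genericPoint)
    rwa [IsIrreducible.genericPoint_closure_eq, (l k).3.closure_eq] at h1))
  let g : Fin (l.length + 1) → TopologicalSpace.IrreducibleCloseds ↥Z := fun k =>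
    ⟨closure {⟨_, hmem k⟩}, isIrreducible_singleton.closure, isClosed_closure⟩
  have hiff : ∀ k k', g k ≤ g k' ↔ l k ≤ l k' := fun k k' => by
    show closure ({⟨_, hmem k⟩} : Set ↥Z) ⊆ closure {⟨_, hmem k'⟩} ↔ (l k : Set X) ⊆ l k'
    rw [← specializes_iff_closure_subset, ← Topology.IsInducing.subtypeVal.specializes_iff,
      specializes_iff_closure_subset, IsIrreducible.genericPoint_closure_eq, IsIrreducible.genericPoint_closure_eq,
      (l k).3.closure_eq, (l k').3.closure_eq]
    rfl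
  refine le_trans ?_ (h Z hZ)
  exact Order.LTSeries.length_le_krullDim (LTSeries.mk l.length g fun k k' hk =>
    lt_of_le_not_ge ((hiff k k').2 (l.strictMono hk).le) fun hle => (l.strictMono hk).not_ge ((hiff k' k).1 hle))

/-- `a(O)` over a field satisfies the chart-wise hypotheses. -/
theorem exists_setup_field {k : Type u} [Field k] {X : Scheme.{u}} (f : X ⟶ Spec (CommRingCat.of k)) [IsProper f]
    [DCoh.HasRpush f] {hf : DCoh.RpushPreservesQCoh f}
    {a : DCoh.DQCoh (Spec (CommRingCat.of k)) ⥤ DCoh.DQCoh X} (adj : DCoh.RpushQ f hf ⊣ a)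
    (O : DCoh.DQCoh (Spec (CommRingCat.of k)))
    (hO : Nonempty (O.obj ≅ DCoh.inD (Spec (CommRingCat.of k)) (Coh.structureModule (Spec (CommRingCat.of k))))) :
    CompactSpace X ∧ IsLocallyNoetherian X ∧
      (∀ x₀ : X, IsClosed ({x₀} : Set X) → Nonempty (PtChart (a.obj O).obj x₀)) ∧
      DCoh.IsCohD (a.obj O).obj ∧ ∃ c₀ : ℤ, (a.obj O).obj.IsGE c₀ := by
  obtain ⟨e⟩ := hO
  exact exists_setup H4RepDual.isDualizing_field H4RepDual.isNormalized_field f adj O
    (e ≪≫ ((DerivedCategory.singleFunctor (Spec (CommRingCat.of k)).Modules 0).mapIso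
      (AlgebraicGeometry.tildeSelf (R := CommRingCat.of k))).symm ≪≫
      (((tilde.functor (CommRingCat.of k)).mapDerivedCategorySingleFunctor 0).app (ModuleCat.of k k)).symm)

variable {X : Scheme.{u}} {E : DCoh.D X}

theorem transport {P : X → Prop} {x y : X} (h : x = y) (hx : P x) : P y := h ▸ hx

/-- Stalks at the centre of a chart. -/
theorem PtChart.nontrivial_centre_iff {x₀ : X} (c : PtChart E x₀) (i : ℤ) :
    Nontrivial ((DCoh.HD E i).presheaf.stalk x₀) ↔ Nontrivial (Dual.HD (Loc c.m) (loc c.ω c.m) i) := by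
  have h : Nontrivial ((DCoh.HD E i).presheaf.stalk (c.j.base c.m)) ↔
      Nontrivial (Dual.HD (Loc c.m) (loc c.ω c.m) i) := by
    rw [c.nontrivial_iff, Module.mem_support_iff]
    exact (locHD c.ω c.m i).toEquiv.nontrivial_congr
  rwa [c.pt] at h

/-- Depth of the local ring at the centre of a chart. -/
theorem PtChart.depth_iff {x₀ : X} (c : PtChart E x₀) {n : ℕ} (hX : topologicalKrullDim X ≤ (n : WithBot ℕ∞)) (i : ℤ) :
    (∃ j : ℤ, i ≤ j ∧ j ≤ 0 ∧ Nontrivial ((DCoh.HD E j).presheaf.stalk x₀)) ↔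
      (LocCoh.depth (X.presheaf.stalk x₀) (X.presheaf.stalk x₀) : ℕ∞) ≤ ((-i).toNat : ℕ∞) ∧ i ≤ 0 := by
  haveI : IsNoetherianRing (Loc c.m) := c.dual.isNoetherianRing
  obtain ⟨σ⟩ : Nonempty (Loc c.m ≃+* X.presheaf.stalk x₀) := by
    exact transport (P := fun y => Nonempty (Loc c.m ≃+* X.presheaf.stalk y)) c.pt
      (H4DualSch.exists_stalk_ringEquiv c.j c.m)
  obtain ⟨δ, hδ⟩ : ∃ δ : ℕ, LocCoh.depth (Loc c.m) (Loc c.m) = δ := by
    obtain ⟨δ, hδ⟩ := WithTop.ne_top_iff_exists.1 (H8Props.FlatDepth.depth_ne_top (Loc c.m) (Loc c.m))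
    exact ⟨δ, hδ.symm⟩
  obtain ⟨h1, h2⟩ := (S0365.result (Loc c.m) (loc c.ω c.m) c.dual c.norm δ).1 hδ
  rw [show (LocCoh.depth (X.presheaf.stalk x₀) (X.presheaf.stalk x₀)) = (δ : ℕ∞) from
    (H13CInt.depth_eq_of_ringEquiv σ).trans hδ, Nat.cast_le]
  simp only [c.nontrivial_centre_iff]
  refine ⟨fun ⟨j, hij, hj0, hj⟩ => ⟨?_, hij.trans hj0⟩, fun ⟨hle, hi⟩ => ⟨-(δ : ℤ), by omega, by omega, h2⟩⟩
  by_contra hlt
  have h3 := h1 (-j).toNat (by omega)
  rw [show -(((-j).toNat : ℕ) : ℤ) = j by omega] at h3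
  exact not_subsingleton_iff_nontrivial.2 hj h3

/-- Cohen–Macaulay: a single degree at the centre. -/
theorem PtChart.degree_unique {x₀ : X} (c : PtChart E x₀)
    (hCM : LocCoh.IsCohenMacaulayLocalRing (X.presheaf.stalk x₀)) {i j : ℤ}
    (hi : Nontrivial (Dual.HD (Loc c.m) (loc c.ω c.m) i))
    (hj : Nontrivial (Dual.HD (Loc c.m) (loc c.ω c.m) j)) : i = j := by
  haveI : IsNoetherianRing (Loc c.m) := c.dual.isNoetherianRing
  haveI : LocCoh.IsCohenMacaulayLocalRing (Loc c.m) := by
    haveI : LocCoh.IsCohenMacaulayLocalRing (X.presheaf.stalk (c.j.base c.m)) :=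
      transport (P := fun y => LocCoh.IsCohenMacaulayLocalRing (X.presheaf.stalk y)) c.pt.symm hCM
    exact (H4DualSch.isCM_stalk_iff c.j c.m).1 inferInstance
  let R := Loc c.m
  haveI := c.dual.finite_cohomology i
  haveI := c.dual.finite_cohomology j
  have hcm : LocCoh.IsCohenMacaulayLocalRing (Localization.AtPrime (IsLocalRing.closedPoint R).asIdeal) :=
    H8Props.CMAt.isCohenMacaulayLocalRing_of_ringEquiv
      (IsLocalization.atUnits R (IsLocalRing.closedPoint R).asIdeal.primeCompl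
        (S := Localization.AtPrime (IsLocalRing.closedPoint R).asIdeal) fun x hx =>
          not_not.1 fun h => hx ((IsLocalRing.mem_maximalIdeal x).2 h)).toRingEquiv
  exact ((H4DualSch.cm_iff_existsUnique c.dual (IsLocalRing.closedPoint R)).1 hcm).unique
    (IsLocalRing.closedPoint_mem_support R _) (IsLocalRing.closedPoint_mem_support R _)

end Groth.Agent.H4RSH.ProperLocal
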