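import Groth.Agent.H4RSH.HomToInjective
import Groth.Agent.H4RSH.ProperField
import Groth.Agent.H4RepDual.Field
import Groth.Agent.LeadBrown.TwMu

/-!
# Serre duality over a field from the right adjoint
-/

set_option autoImplicit false
set_option linter.style.haveILetI false
set_option linter.unusedSectionVars false
set_option backward.isDefEq.respectTransparency false
set_option synthInstance.maxHeartbeats 400000
set_option maxHeartbeats 1000000

universe u

open CategoryTheory CategoryTheory.Limits AlgebraicGeometry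
open Groth.Agent.H16Derived.KFlat.Stalk
open Groth.Agent.LeadBrown (mu homEquivD rpush_mu mu_naturality)
open Groth.Agent.H17.ExtRegVanish (mulEnd)
open Groth.Agent.H4DR.PCoh (hm hm_comp_apply)
open Groth.Agent.H4RepDual

attribute [local instance] HasDerivedCategory.standard

namespace Groth.Agent.H4RSH.SerreDual

attribute [local instance 10000] H10Coh.hasSheafifyAb H10Coh.hasWeakSheafifyAb H10Coh.hasExtAb H10Coh.enoughInjAb

theorem injective_self (k : Type u) [Field k] : Injective (ModuleCat.of k k) := by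
  haveI : Module.Injective k k := Module.Baer.injective fun J g => by
    rcases Ideal.eq_bot_or_top J with rfl | rfl
    · refine ⟨0, fun x hx => ?_⟩
      obtain rfl := (Submodule.mem_bot k).1 hx
      exact (map_zero g).symm
    · exact ⟨g ∘ₗ Submodule.topEquiv.symm.toLinearMap, fun x hx => rfl⟩
  exact Module.injective_object_of_injective_module k k

variable {k : Type u} [Field k] {X : Scheme.{u}} [X.Over (Spec (CommRingCat.of k))]
  [DCoh.HasRpush (X ↘ Spec (CommRingCat.of k))] {hf : DCoh.RpushPreservesQCoh (X ↘ Spec (CommRingCat.of k))}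
  [HasExt.{u} X.Modules]
  {a : DCoh.DQCoh (Spec (CommRingCat.of k)) ⥤ DCoh.DQCoh X}
  (adj : DCoh.RpushQ (X ↘ Spec (CommRingCat.of k)) hf ⊣ a)
  (O : DCoh.DQCoh (Spec (CommRingCat.of k)))
  (eO : O.obj ≅ (DCoh.tildeD (CommRingCat.of k)).obj (Dual.inD k k))

/-- `H^0(k) = k`. -/
noncomputable def sEquiv : Dual.HD k (Dual.inD k k) 0 ≃ₗ[k] k :=
  ((DerivedCategory.singleFunctorCompHomologyFunctorIso (ModuleCat.{u} k) 0).app (ModuleCat.of k k)).toLinearEquiv

variable {M : X.Modules} {n : ℕ} {R : Dual.D k}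
  (ε : (DCoh.tildeD (CommRingCat.of k)).obj R ≅ (DCoh.Rpush (X ↘ Spec (CommRingCat.of k))).obj (shObj M n))

/-- `eta`, linearly. -/
noncomputable def etaLin : Dual.HD k R 0 ≃ₗ[k] Coh.HH X M n :=
  (eta (X ↘ Spec (CommRingCat.of k)) ε).toLinearEquiv fun r m => by
    rw [eta_smul (X ↘ Spec (CommRingCat.of k)) ε r m]
    rfl

variable (hM : Coh.IsQCoh M)

/-- Morphisms to `a(O)` as maps of models. -/
noncomputable def toModel (φ : shObj M n ⟶ (a.obj O).obj) : R ⟶ Dual.inD k k :=
  haveI := (H16Derived.QCohD.full_faithful (CommRingCat.of k)).1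
  (DCoh.tildeD (CommRingCat.of k)).preimage
    (ε.hom ≫ homEquivD adj (shObj M n) (isQCohD_shObj hM n) O φ ≫ eO.hom)

theorem map_toModel (φ : shObj M n ⟶ (a.obj O).obj) :
    (DCoh.tildeD (CommRingCat.of k)).map (toModel adj O eO ε hM φ) =
      ε.hom ≫ homEquivD adj (shObj M n) (isQCohD_shObj hM n) O φ ≫ eO.hom :=
  haveI := (H16Derived.QCohD.full_faithful (CommRingCat.of k)).1
  (DCoh.tildeD (CommRingCat.of k)).map_preimage _

/-- The form on `H^n(X, M)` of a morphism `M[n] → a(O)`. -/
noncomputable def pairR (φ : shObj M n ⟶ (a.obj O).obj) : Coh.HH X M n →ₗ[k] k :=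
  (sEquiv.toLinearMap ∘ₗ hm 0 (toModel adj O eO ε hM φ)) ∘ₗ (etaLin ε).symm.toLinearMap

theorem bijective_pairR : Function.Bijective (pairR adj O eO ε hM) := by
  haveI := (H16Derived.QCohD.full_faithful (CommRingCat.of k)).1
  haveI := (H16Derived.QCohD.full_faithful (CommRingCat.of k)).2
  haveI := injective_self k
  have h1 : Function.Bijective (toModel adj O eO ε hM) := by
    refine ⟨fun φ φ' h => ?_, fun v => ?_⟩
    · have h' := congrArg (DCoh.tildeD (CommRingCat.of k)).map h
      rw [map_toModel, map_toModel] at h'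
      exact (homEquivD adj (shObj M n) (isQCohD_shObj hM n) O).injective
        ((cancel_mono eO.hom).1 ((cancel_epi ε.hom).1 h'))
    · refine ⟨(homEquivD adj (shObj M n) (isQCohD_shObj hM n) O).symm
        (ε.inv ≫ (DCoh.tildeD (CommRingCat.of k)).map v ≫ eO.inv), (DCoh.tildeD (CommRingCat.of k)).map_injective ?_⟩
      rw [map_toModel, Equiv.apply_symm_apply]
      simp
  have h2 := H4RSH.bijective_map_homology_injective (ModuleCat.of k k) R
  refine ⟨fun φ φ' h => h1.1 (h2.1 (ModuleCat.hom_ext (LinearMap.ext fun m => ?_))), fun ψ => ?_⟩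
  · have h' := LinearMap.congr_fun h (etaLin ε m)
    simp only [pairR, LinearMap.comp_apply, LinearEquiv.coe_coe, LinearEquiv.symm_apply_apply] at h'
    exact sEquiv.injective h'
  · obtain ⟨v, hv⟩ := h2.2 (ModuleCat.ofHom ((sEquiv.symm.toLinearMap ∘ₗ ψ) ∘ₗ (etaLin ε).toLinearMap))
    obtain ⟨φ, rfl⟩ := h1.2 v
    refine ⟨φ, LinearMap.ext fun x => ?_⟩
    show sEquiv (hm 0 (toModel adj O eO ε hM φ) ((etaLin ε).symm x)) = ψ x
    rw [show hm 0 (toModel adj O eO ε hM φ) ((etaLin ε).symm x) = sEquiv.symm (ψ (etaLin ε ((etaLin ε).symm x))) from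
      congr($(hv).hom ((etaLin ε).symm x)), LinearEquiv.apply_symm_apply, LinearEquiv.apply_symm_apply]

include hf in
theorem exists_pair (hM : Coh.IsQCoh M) :
    ∃ R : Dual.D k, Nonempty ((DCoh.tildeD (CommRingCat.of k)).obj R ≅ (DCoh.Rpush (X ↘ Spec (CommRingCat.of k))).obj (shObj M n)) :=
  exists_model (X ↘ Spec (CommRingCat.of k)) hf hM n

/-- The form, for a chosen model. -/
noncomputable def pair (hM : Coh.IsQCoh M) (φ : shObj M n ⟶ (a.obj O).obj) : Coh.HH X M n →ₗ[k] k :=
  pairR adj O eO (exists_pair (hf := hf) hM).choose_spec.some hM φ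

theorem bijective_pair : Function.Bijective (pair adj O eO (n := n) hM) :=
  bijective_pairR adj O eO _ hM

theorem pair_natural {M' : X.Modules} (hM' : Coh.IsQCoh M') (u : M' ⟶ M) (φ : shObj M n ⟶ (a.obj O).obj)
    (x : Coh.HH X M' n) :
    pair adj O eO hM' (shHom u n ≫ φ) x =
      pair adj O eO hM φ (Sheaf.H.map ((SheafOfModules.toSheaf X.ringCatSheaf).map u) n x) := by
  haveI := (H16Derived.QCohD.full_faithful (CommRingCat.of k)).1
  haveI := (H16Derived.QCohD.full_faithful (CommRingCat.of k)).2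
  let ε := (exists_pair (n := n) (hf := hf) hM).choose_spec.some
  let ε' := (exists_pair (n := n) (hf := hf) hM').choose_spec.some
  let T := DCoh.tildeD (CommRingCat.of k)
  let v := T.preimage (ε'.hom ≫ (DCoh.Rpush (X ↘ Spec (CommRingCat.of k))).map (shHom u n) ≫ ε.inv)
  have hv : T.map v ≫ ε.hom = ε'.hom ≫ (DCoh.Rpush (X ↘ Spec (CommRingCat.of k))).map (shHom u n) := by simp [v]
  have hcomp : toModel adj O eO ε' hM' (shHom u n ≫ φ) = v ≫ toModel adj O eO ε hM φ := by
    refine T.map_injective ?_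
    rw [map_toModel, Functor.map_comp, map_toModel,
      LeadBrown.homEquivD_comp adj (isQCohD_shObj hM n) (isQCohD_shObj hM' n)]
    simp [v, T]
  obtain ⟨m, rfl⟩ := (etaLin ε').surjective x
  show sEquiv (hm 0 (toModel adj O eO ε' hM' (shHom u n ≫ φ)) ((etaLin ε').symm (etaLin ε' m))) =
    sEquiv (hm 0 (toModel adj O eO ε hM φ) ((etaLin ε).symm
      (Sheaf.H.map ((SheafOfModules.toSheaf X.ringCatSheaf).map u) n (etaLin ε' m))))
  rw [LinearEquiv.symm_apply_apply, hcomp, hm_comp_apply,
    show Sheaf.H.map ((SheafOfModules.toSheaf X.ringCatSheaf).map u) n (etaLin ε' m) = etaLin ε (hm 0 v m) from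
      (eta_naturality (X ↘ Spec (CommRingCat.of k)) ε' ε v u hv m).symm, LinearEquiv.symm_apply_apply]

/-- Scalars act on both sides in the same way. -/
theorem pair_smul (r : k) (φ : shObj M n ⟶ (a.obj O).obj) :
    pair adj O eO hM ((mu ((X ↘ Spec (CommRingCat.of k)).appTop (rhoS k r))).app (shObj M n) ≫ φ) = r • pair adj O eO hM φ := by
  refine LinearMap.ext fun x => ?_
  have h1 : (mu ((X ↘ Spec (CommRingCat.of k)).appTop (rhoS k r))).app (shObj M n) = shHom (mulEnd ((X ↘ Spec (CommRingCat.of k)).appTop (rhoS k r)) M) n :=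
    mu_inD_shift _ M n
  rw [h1, pair_natural adj O eO hM hM]
  have h2 : Sheaf.H.map ((SheafOfModules.toSheaf X.ringCatSheaf).map (mulEnd ((X ↘ Spec (CommRingCat.of k)).appTop (rhoS k r)) M)) n x =
      r • x := rfl
  rw [h2, map_smul]
  rfl

theorem toHH_smul (r : k) (g : DCoh.inD X (Coh.structureModule X) ⟶ shObj M n) :
    toHH M n ((mu ((X ↘ Spec (CommRingCat.of k)).appTop (rhoS k r))).app (DCoh.inD X (Coh.structureModule X)) ≫ g) = r • toHH M n g := by
  rw [← mu_naturality ((X ↘ Spec (CommRingCat.of k)).appTop (rhoS k r)) g,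
    show (mu ((X ↘ Spec (CommRingCat.of k)).appTop (rhoS k r))).app (shObj M n) = shHom (mulEnd ((X ↘ Spec (CommRingCat.of k)).appTop (rhoS k r)) M) n from
      mu_inD_shift _ M n]
  exact toHH_naturality _ n g

theorem additive_rpush : (DCoh.Rpush (X ↘ Spec (CommRingCat.of k))).Additive :=
  letI := rpushCommShift (X ↘ Spec (CommRingCat.of k))
  haveI := rpush_isTriangulated (X ↘ Spec (CommRingCat.of k))
  inferInstance

theorem pair_add (φ φ' : shObj M n ⟶ (a.obj O).obj) :
    pair adj O eO hM (φ + φ') = pair adj O eO hM φ + pair adj O eO hM φ' := by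
  haveI := (H16Derived.QCohD.full_faithful (CommRingCat.of k)).1
  haveI := (H16Derived.QCohD.full_faithful (CommRingCat.of k)).2
  haveI := additive_rpush (k := k) (X := X)
  haveI : PreservesFiniteColimits (tilde.functor (CommRingCat.of k)) :=
    @PreservesColimitsOfSize.preservesFiniteColimits.{0, 0} _ _ _ _ (tilde.functor (CommRingCat.of k))
      ((tilde.adjunction (R := CommRingCat.of k)).leftAdjoint_preservesColimits)
  let ε := (exists_pair (n := n) (hf := hf) hM).choose_spec.some
  have h : toModel adj O eO ε hM (φ + φ') = toModel adj O eO ε hM φ + toModel adj O eO ε hM φ' := by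
    refine (DCoh.tildeD (CommRingCat.of k)).map_injective ?_
    rw [Functor.map_add, map_toModel, map_toModel, map_toModel, LeadBrown.homEquivD_add]
    simp only [Preadditive.add_comp, Preadditive.comp_add]
  refine LinearMap.ext fun x => ?_
  show sEquiv (hm 0 (toModel adj O eO ε hM (φ + φ')) ((etaLin ε).symm x)) =
    sEquiv (hm 0 (toModel adj O eO ε hM φ) ((etaLin ε).symm x)) +
      sEquiv (hm 0 (toModel adj O eO ε hM φ') ((etaLin ε).symm x))
  rw [← map_add]
  congr 1
  show ((H4DR.PCoh.H k 0).map _).hom _ = ((H4DR.PCoh.H k 0).map _).hom _ + ((H4DR.PCoh.H k 0).map _).hom _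
  rw [h, Functor.map_add]
  rfl

/-- From a map `ω[d] → a(O)`: classes in `H^p(X, ω)` give forms on `H^q(X, O)`. -/
noncomputable def toDual (hO : Coh.IsQCoh (Coh.structureModule X)) (W : X.Modules) {p q d : ℕ} (hpq : p + q = d)
    (j : shObj W d ⟶ (a.obj O).obj) : Coh.HH X W p →ₗ[k] Module.Dual k (Coh.HH X (Coh.structureModule X) q) :=
  let τ := (shiftFunctorAdd' (DCoh.D X) (p : ℤ) (q : ℤ) (d : ℤ) (by omega)).inv.app (DCoh.inD X W)
  let E := AddEquiv.ofBijective (toHH W p) (bijective_toHH W p)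
  { toFun := fun x => pair adj O eO (n := q) hO ((shiftFunctor (DCoh.D X) (q : ℤ)).map (E.symm x) ≫ τ ≫ j)
    map_add' := fun x y => by rw [map_add, Functor.map_add, Preadditive.add_comp, pair_add]
    map_smul' := fun r x => by
      obtain ⟨g, rfl⟩ := E.surjective x
      rw [show r • E g = E ((mu ((X ↘ Spec (CommRingCat.of k)).appTop (rhoS k r))).app
          (DCoh.inD X (Coh.structureModule X)) ≫ g) from (toHH_smul r g).symm,
        AddEquiv.symm_apply_apply, AddEquiv.symm_apply_apply, Functor.map_comp, Category.assoc, ← LeadBrown.mu_shift]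
      exact pair_smul adj O eO hO r _ }

theorem bijective_toDual (hO : Coh.IsQCoh (Coh.structureModule X)) (W : X.Modules) {p q d : ℕ} (hpq : p + q = d)
    (j : shObj W d ⟶ (a.obj O).obj) [IsIso j] : Function.Bijective (toDual adj O eO hO W hpq j) := by
  let τ := (shiftFunctorAdd' (DCoh.D X) (p : ℤ) (q : ℤ) (d : ℤ) (by omega)).app (DCoh.inD X W)
  exact (bijective_pair adj O eO hO).comp (((τ.symm ≪≫ asIso j).homToEquiv.bijective.comp
    ⟨(shiftFunctor (DCoh.D X) (q : ℤ)).map_injective, (shiftFunctor (DCoh.D X) (q : ℤ)).map_surjective⟩).comp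
    (AddEquiv.ofBijective (toHH W p) (bijective_toHH W p)).symm.bijective)

end Groth.Agent.H4RSH.SerreDual
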