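import Groth.Agent.H4RSH.Invertible
import Groth.Agent.H10Inj.Sections

/-!
# `RHom(-, K)` for `K` coherent of finite injective dimension
-/

set_option autoImplicit false
set_option linter.style.haveILetI false
set_option linter.unusedSectionVars false
set_option backward.isDefEq.respectTransparency false
set_option synthInstance.maxHeartbeats 400000
set_option maxHeartbeats 1000000

universe u

open CategoryTheory CategoryTheory.Limits AlgebraicGeometry
open DerivedCategory.TStructure (t)

attribute [local instance] HasDerivedCategory.standard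

namespace Groth.Agent.H4RSH

open Groth.Agent.H16Derived Groth.Agent.H16Derived.QCohD Groth.Agent.H16Derived.Dual
open Groth.Agent.H16Derived.KFlat.Stalk (rd rdComp rdQ homologyRdIso)
open Groth.Agent.LeadBrown (wR)

/-- Maps into a K-injective complex vanish for degree reasons. -/
theorem subsingleton_hom_inj {C : Type*} [Category C] [Abelian C] [HasDerivedCategory C] (P J : CochainComplex C ℤ)
    [J.IsKInjective] (h : ∀ n, IsZero (P.X n) ∨ IsZero (J.X n)) :
    Subsingleton (DerivedCategory.Q.obj P ⟶ DerivedCategory.Q.obj J) := by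
  refine subsingleton_of_forall_eq 0 fun f => ?_
  obtain ⟨g, rfl⟩ := KInjRes.exists_Q_map_eq (K := P) (I := J) f
  rw [show g = 0 from HomologicalComplex.hom_ext _ _ fun n => (h n).elim (fun h => h.eq_of_src _ _)
    fun h => h.eq_of_tgt _ _, Functor.map_zero]

theorem injective_restrictFunctor {U X : Scheme.{u}} (j : U ⟶ X) [IsOpenImmersion j] (I : X.Modules) [Injective I] :
    Injective ((Scheme.Modules.restrictFunctor j).obj I) := by
  haveI := KFlat.Stalk.preservesFiniteLimits_extZero j.opensRange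
  haveI h0 : Injective (I.restrict j.opensRange.ι) := Injective.injective_of_adjoint (CxOX.extZeroAdj j.opensRange.ι) I
  have h1 : Injective ((I.restrict j.opensRange.ι).restrict j.isoOpensRange.hom) :=
    ((H10Inj.restrictEquiv j.isoOpensRange).map_injective_iff (I.restrict j.opensRange.ι)).2 h0
  exact Injective.of_iso ((Scheme.Modules.restrictFunctorComp j.isoOpensRange.hom j.opensRange.ι).symm.app I ≪≫
    (Scheme.Modules.restrictFunctorCongr j.isoOpensRange_hom_ι).app I) h1

variable {X : Scheme.{u}} (I : CochainComplex X.Modules ℤ) (hI : ∀ i : ℤ, Injective (I.X i)) {a b : ℤ}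
  (hab : ∀ i : ℤ, (i < a ∨ b < i) → IsZero (I.X i))
include hI hab

/-- Vanishing of maps to shifts of a restricted bounded injective complex. -/
theorem subsingleton_hom_rd {U : Scheme.{u}} (j : U ⟶ X) [IsOpenImmersion j] {c i : ℤ} (P : DCoh.D U)
    (hP : P.IsGE c) (hi : b < c + i) : Subsingleton (P ⟶ (rd j).obj ((DerivedCategory.Q.obj I)⟦i⟧)) := by
  haveI : PreservesFiniteLimits (Scheme.Modules.restrictFunctor j) := inferInstance
  haveI : I.IsStrictlyGE a := (CochainComplex.isStrictlyGE_iff I a).2 fun n hn => hab n (Or.inl hn)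
  let J : CochainComplex _ ℤ := ((Scheme.Modules.restrictFunctor j).mapHomologicalComplex (ComplexShape.up ℤ)).obj (I⟦i⟧)
  have hJ0 : ∀ n, IsZero (I.X (n + i)) → IsZero (J.X n) := fun n h => (Scheme.Modules.restrictFunctor j).map_isZero h
  haveI : J.IsStrictlyGE (a - i) := (CochainComplex.isStrictlyGE_iff J _).2 fun n hn =>
    hJ0 n (hab _ (Or.inl (by omega)))
  haveI : ∀ n, Injective (J.X n) := fun n => haveI := hI (n + i); injective_restrictFunctor j (I.X (n + i))
  haveI := CochainComplex.isKInjective_of_injective J (a - i)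
  haveI := hP
  obtain ⟨C, hC, ⟨eC⟩⟩ := DerivedCategory.exists_iso_Q_obj_of_isGE P c
  haveI := hC
  have h := subsingleton_hom_inj C J fun n => by
    rcases lt_or_ge n c with hn | hn
    · exact Or.inl (CochainComplex.isZero_of_isStrictlyGE C c n hn)
    · exact Or.inr (hJ0 n (hab _ (Or.inr (by omega))))
  let e : (rd j).obj ((DerivedCategory.Q.obj I)⟦i⟧) ≅ DerivedCategory.Q.obj J :=
    (rd j).mapIso ((DerivedCategory.Q.commShiftIso i).app I).symm ≪≫ (rdQ j).app (I⟦i⟧)
  exact (eC.homCongr e).injective.subsingleton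

variable {K : DCoh.D X} (eK : DCoh.toD X I ≅ K)
include eK

/-- The local models have finite injective dimension. -/
theorem fid_of_chart {A : Type u} [CommRing A] (j : Spec (CommRingCat.of A) ⟶ X) [IsOpenImmersion j]
    (ω : Dual.D A) (e : (rd j).obj K ≅ (DCoh.tildeD (CommRingCat.of A)).obj ω) :
    DRing.HasFiniteInjDim A ω := by
  refine H4DR.Ext.fid_iff.1 ⟨a, b, fun N _ _ i hi => ?_⟩
  haveI := (QCohD.full_faithful (CommRingCat.of A)).1
  haveI := (QCohD.full_faithful (CommRingCat.of A)).2
  haveI : PreservesFiniteLimits (tilde.functor (CommRingCat.of A)) := QCohD.preservesFiniteLimits_tilde_of _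
  let S := Spec (CommRingCat.of A)
  let P : DCoh.D S := (DCoh.tildeD (CommRingCat.of A)).obj (Dual.inD A N)
  let eP : P ≅ DCoh.inD S (tilde (R := CommRingCat.of A) (ModuleCat.of A N)) :=
    ((tilde.functor (CommRingCat.of A)).mapDerivedCategorySingleFunctor 0).app (ModuleCat.of A N)
  let eR : (DCoh.tildeD (CommRingCat.of A)).obj (ω⟦i⟧) ≅ (rd j).obj ((DerivedCategory.Q.obj I)⟦i⟧) :=
    ((DCoh.tildeD (CommRingCat.of A)).commShiftIso i).app ω ≪≫ (shiftFunctor _ i).mapIso e.symm ≪≫
      (((rd j).commShiftIso i).app K).symm ≪≫ (rd j).mapIso ((shiftFunctor _ i).mapIso eK.symm)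
  suffices h : Subsingleton (P ⟶ (rd j).obj ((DerivedCategory.Q.obj I)⟦i⟧)) by
    haveI : Subsingleton (P ⟶ (DCoh.tildeD (CommRingCat.of A)).obj (ω⟦i⟧)) :=
      ((Iso.refl P).homCongr eR).injective.subsingleton
    exact (DCoh.tildeD (CommRingCat.of A)).map_injective.subsingleton
  rcases hi with hi | hi
  · haveI : I.IsStrictlyGE a := (CochainComplex.isStrictlyGE_iff I a).2 fun n hn => hab n (Or.inl hn)
    let J : CochainComplex _ ℤ := ((Scheme.Modules.restrictFunctor j).mapHomologicalComplex (ComplexShape.up ℤ)).obj (I⟦i⟧)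
    have hJ0 : ∀ n, IsZero (I.X (n + i)) → IsZero (J.X n) := fun n h => (Scheme.Modules.restrictFunctor j).map_isZero h
    haveI : J.IsStrictlyGE (a - i) := (CochainComplex.isStrictlyGE_iff J _).2 fun n hn =>
      hJ0 n (hab _ (Or.inl (by omega)))
    haveI : ∀ n, Injective (J.X n) := fun n => haveI := hI (n + i); injective_restrictFunctor j (I.X (n + i))
    haveI := CochainComplex.isKInjective_of_injective J (a - i)
    let C := (HomologicalComplex.single S.Modules (ComplexShape.up ℤ) 0).obj
      (tilde (R := CommRingCat.of A) (ModuleCat.of A N))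
    have h := subsingleton_hom_inj C J fun n => by
      by_cases hn : n = 0
      · exact Or.inr (hJ0 n (hab _ (Or.inl (by omega))))
      · exact Or.inl (HomologicalComplex.isZero_single_obj_X (ComplexShape.up ℤ) 0 _ n hn)
    let e' : (rd j).obj ((DerivedCategory.Q.obj I)⟦i⟧) ≅ DerivedCategory.Q.obj J :=
      (rd j).mapIso ((DerivedCategory.Q.commShiftIso i).app I).symm ≪≫ (rdQ j).app (I⟦i⟧)
    let e1 : P ≅ DerivedCategory.Q.obj C := eP ≪≫ (DerivedCategory.singleFunctorIsoCompQ S.Modules 0).app _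
    exact (e1.homCongr e').injective.subsingleton
  · haveI : (DCoh.inD S (tilde (R := CommRingCat.of A) (ModuleCat.of A N))).IsGE 0 := inferInstance
    exact subsingleton_hom_rd I hI hab j P (t.isGE_of_iso eP.symm 0) (by omega)

/-- `RHom(L, K)` lives below `b - c`. -/
theorem isZero_hd_R_bounded {k : DCoh.D X} {c : ℤ} (hk : k.IsGE c) {i : ℤ} (hi : b < c + i) :
    IsZero (DCoh.HD ((R k).obj K) i) := by
  refine isZero_hd_R k K i Set.univ (fun W x hx => ⟨W, trivial, hx, le_rfl⟩) fun V _ => ?_
  haveI := hk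
  haveI : ((rA V).obj k).IsGE c := LeadBrown.isGE_rd' V.ι k c hk
  haveI := subsingleton_hom_rd I hI hab V.ι (i := i) _ this hi
  exact ((Iso.refl ((rA V).obj k)).homCongr ((rA V).mapIso ((shiftFunctor _ i).mapIso eK.symm))).injective.subsingleton

/-- `RHom(L, K)` lives above `a - c`. -/
theorem isGE_R_bounded {k : DCoh.D X} {c : ℤ} (hk : k.IsLE c) : ((R k).obj K).IsGE (a - c) := by
  haveI : I.IsStrictlyGE a := (CochainComplex.isStrictlyGE_iff I a).2 fun n hn => hab n (Or.inl hn)
  haveI : K.IsGE a := t.isGE_of_iso eK a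
  haveI := hk
  exact isGE_R c K a

variable [IsLocallyNoetherian X] (hK : DCoh.IsCohD K)
include hK

/-- `RHom(L, K)` is coherent for coherent `L`. -/
theorem isCohD_R_bounded {k : DCoh.D X} (hk : DCoh.IsCohD k) : DCoh.IsCohD ((R k).obj K) := by
  haveI : ∀ R : CommRingCat.{u}, PreservesFiniteLimits (tilde.functor R) := fun R =>
    QCohD.preservesFiniteLimits_tilde_of R
  refine isCohD_of_tilde_charts _ fun x => ?_
  obtain ⟨B, j, hj, hx⟩ := exists_affine_chart x
  obtain ⟨ω, hω, ⟨eω⟩⟩ := exists_finite_model j hK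
  obtain ⟨M, hM, ⟨eM⟩⟩ := exists_finite_model j hk
  haveI : IsNoetherianRing B := isLocallyNoetherian_Spec.1 (isLocallyNoetherian_of_isOpenImmersion j)
  have hfid := fid_of_chart I hI hab eK j ω eω
  obtain ⟨F, hF, ⟨eF⟩⟩ := exists_dual_ex M ω hM hfid
  haveI := QCohD.hasRpush j
  haveI := KFlat.Stalk.hasLpull j
  let ρ := LeadBrown.rdIsoLpull j
  haveI := isIso_wR j k K
  refine ⟨B, inferInstance, j, hj, hx, F, inferInstance, fun i => ?_, ⟨ρ.app _ ≪≫ asIso (wR j k K) ≪≫
    (Dual.RIso ((ρ.app k).symm ≪≫ eM)).app _ ≪≫ (R _).mapIso ((ρ.app K).symm ≪≫ eω) ≪≫ eF⟩⟩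
  haveI := H4DR.Ext.finite_ex_of_finiteInjDim hM hω hfid i
  exact Module.Finite.equiv (hF i).some.symm

end Groth.Agent.H4RSH
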