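import Groth.Agent.H4RSH.ProperLocalAlg
import Groth.Agent.H4RepDual.FieldVan
import Groth.Agent.H16Derived.TorTest.TildeAmp
import Groth.Agent.H8Props.NilThickStalk
import Groth.Agent.H15Site.LocCohQCoh

/-!
# The dualizing complex of a proper scheme over a local ring with a normalized dualizing complex
-/

set_option autoImplicit false
set_option linter.style.haveILetI false
set_option linter.unusedSectionVars false
set_option backward.isDefEq.respectTransparency false
set_option maxHeartbeats 1000000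
set_option synthInstance.maxHeartbeats 400000

universe u

open CategoryTheory CategoryTheory.Limits AlgebraicGeometry
open DerivedCategory.TStructure (t)
open scoped TensorProduct
open Groth.Agent.H4DR.Dualizing (Loc loc)

attribute [local instance] HasDerivedCategory.standard

namespace Groth.Agent.H4RSH.ProperLocal

open Groth.Agent.H16Derived Groth.Agent.H16Derived.KFlat.Stalk
open Groth.Agent.H16Derived.KFlat.TildeStalk (toRing stalkEquiv)

section Stalk

variable {X : Scheme.{u}}

/-- Stalks of cohomology sheaves on a chart are the localisations. -/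
theorem exists_semilinear_HD_stalk {B : Type u} [CommRing B] (j : Spec (CommRingCat.of B) ⟶ X) [IsOpenImmersion j]
    (K : DCoh.D X) (ω : Dual.D B) (e : (rd j).obj K ≅ (DCoh.tildeD (CommRingCat.of B)).obj ω)
    (q : PrimeSpectrum B) (i : ℤ) :
    ∃ φ : Loc q →+* X.presheaf.stalk (j.base q), Function.Surjective φ ∧
      ∃ T : LocalizedModule q.asIdeal.primeCompl (Dual.HD B ω i) ≃+ (DCoh.HD K i).presheaf.stalk (j.base q),
        ∀ (r : Loc q) (v : LocalizedModule q.asIdeal.primeCompl (Dual.HD B ω i)), T (r • v) = φ r • T v := by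
  let S : Scheme.{u} := Spec (CommRingCat.of B)
  let y : S := q
  let N : ModuleCat.{u} B := (DerivedCategory.homologyFunctor (ModuleCat.{u} B) i).obj ω
  let C := S.presheaf.stalk y
  letI : Algebra B C := (toRing (R := CommRingCat.of B) y).toAlgebra
  haveI : IsLocalization.AtPrime C q.asIdeal := StructureSheaf.IsLocalization.to_stalk (R := B) q
  let ψ := IsLocalization.algEquiv q.asIdeal.primeCompl (Loc q) C
  obtain ⟨l, hl⟩ := H06EGA12.exists_semilinear
    (IsLocalizedModule.isBaseChange q.asIdeal.primeCompl (Loc q) (LocalizedModule.mkLinearMap q.asIdeal.primeCompl N))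
    (TensorProduct.isBaseChange B N C) ψ.toAlgHom ψ.surjective
    (fun a ha v => by rw [show a = 0 from (map_eq_zero_iff _ ψ.injective).1 ha, zero_smul])
  let w : (DerSch.stalkFunctor S y).obj ((Scheme.Modules.restrictFunctor j).obj (DCoh.HD K i)) ≅
      (DerSch.stalkFunctor S y).obj (tilde (R := CommRingCat.of B) N) :=
    (DerSch.stalkFunctor S y).mapIso ((H4DualSch.hdRestrict j K i).symm ≪≫
      (DerivedCategory.homologyFunctor _ i).mapIso e ≪≫ hdTilde ω i)
  let v : C ⊗[B] N ≃ₗ[C] (DerSch.stalkFunctor S y).obj ((Scheme.Modules.restrictFunctor j).obj (DCoh.HD K i)) :=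
    (show C ⊗[B] N ≃ₗ[C] (DerSch.stalkFunctor S y).obj (tilde (R := CommRingCat.of B) N) from
      stalkEquiv (R := CommRingCat.of B) N y).trans w.symm.toLinearEquiv
  let σ : X.presheaf.stalk (j.base y) ≃+* C :=
    RingEquiv.ofBijective (j.stalkMap y).hom (ConcreteCategory.bijective_of_isIso (j.stalkMap y))
  let E := H8Props.NilThick.rsE j (DCoh.HD K i) y
  refine ⟨σ.symm.toRingHom.comp ψ.toAlgHom.toRingHom, σ.symm.surjective.comp ψ.surjective,
    (l.trans v.toAddEquiv).trans E, fun r x => ?_⟩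
  show E (v (l (r • x))) = σ.symm (ψ r) • E (v (l x))
  rw [hl r x, show v (ψ.toAlgHom r • l x) = ψ r • v (l x) from map_smul v _ _]
  exact (congrArg E (congrArg (· • v (l x)) (σ.apply_symm_apply (ψ r)).symm)).trans
    (H8Props.NilThick.rsE_smul j (DCoh.HD K i) y (σ.symm (ψ r)) (v (l x)))

/-- Every point specialises to a closed point. -/
theorem exists_closed_specialization [CompactSpace X] (x : X) : ∃ x₀ : X, IsClosed ({x₀} : Set X) ∧ x ⤳ x₀ := by
  obtain ⟨x₀, hx, hxc⟩ := (isClosed_closure (s := ({x} : Set X))).exists_closed_singleton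
    ((Set.singleton_nonempty _).mono subset_closure)
  exact ⟨x₀, hxc, specializes_iff_mem_closure.2 hx⟩

/-- Generizations of a point of a chart lie on the chart. -/
theorem exists_lift {B : Type u} [CommRing B] (j : Spec (CommRingCat.of B) ⟶ X) [IsOpenImmersion j]
    {m : PrimeSpectrum B} {y : X} (h : y ⤳ j.base m) : ∃ q : PrimeSpectrum B, j.base q = y ∧ q ≤ m := by
  obtain ⟨q, rfl⟩ : y ∈ Set.range j.base := h.mem_open j.isOpenEmbedding.isOpen_range ⟨m, rfl⟩
  exact ⟨q, rfl, (PrimeSpectrum.le_iff_specializes (show PrimeSpectrum B from q) m).2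
    ((j.isOpenEmbedding.isInducing.specializes_iff).1 h)⟩

theorem specializes_of_le {B : Type u} [CommRing B] (j : Spec (CommRingCat.of B) ⟶ X)
    {p q : PrimeSpectrum B} (h : p ≤ q) : j.base p ⤳ j.base q :=
  ((PrimeSpectrum.le_iff_specializes p q).1 h).map j.continuous

/-- A chain of points below the dimension. -/
theorem exists_point_chain {T : Type u} [TopologicalSpace T] [QuasiSober T] {n : ℕ}
    (h : topologicalKrullDim T = (n : WithBot ℕ∞)) :
    ∃ p : Fin (n + 1) → T, ∀ k k', k < k' → p k' ⤳ p k ∧ ¬ p k ⤳ p k' := by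
  obtain ⟨l, hl⟩ := Order.le_krullDim_iff.1 (le_of_eq h.symm)
  refine ⟨fun k => (l (k.cast (by omega))).2.genericPoint, fun k k' hk => ?_⟩
  have h0 : l (k.cast (by omega)) < l (k'.cast (by omega)) := l.strictMono (by simpa using hk)
  refine ⟨specializes_iff_closure_subset.2 ?_, fun hs => h0.not_ge ?_⟩
  · rw [IsIrreducible.genericPoint_closure_eq, IsIrreducible.genericPoint_closure_eq]
    exact closure_mono h0.le
  · have h1 := specializes_iff_closure_subset.1 hs
    rw [IsIrreducible.genericPoint_closure_eq, IsIrreducible.genericPoint_closure_eq,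
      (l _).3.closure_eq, (l _).3.closure_eq] at h1
    exact h1

/-- The local ring at a point is no larger than the space. -/
theorem dim_loc_le {B : Type u} [CommRing B] (j : Spec (CommRingCat.of B) ⟶ X) [IsOpenImmersion j]
    (m : PrimeSpectrum B) {c : WithBot ℕ∞} (hX : topologicalKrullDim X ≤ c) : ringKrullDim (Loc m) ≤ c := by
  rw [← PrimeSpectrum.topologicalKrullDim_eq_ringKrullDim]
  have h := j.isOpenEmbedding.isInducing.comp
    (PrimeSpectrum.localization_comap_isInducing (Loc m) m.asIdeal.primeCompl)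
  exact h.topologicalKrullDim_le.trans hX

end Stalk

variable {A : Type u} [CommRing A] [IsLocalRing A] [IsNoetherianRing A] {ωA : Dual.D A}
  (hωA : Dual.IsDualizing A ωA) (hnA : Dual.IsNormalized A ωA)
  {X : Scheme.{u}} (f : X ⟶ Spec (CommRingCat.of A)) [IsProper f] [DCoh.HasRpush f]
  {hf : DCoh.RpushPreservesQCoh f} {a : DCoh.DQCoh (Spec (CommRingCat.of A)) ⥤ DCoh.DQCoh X}
  (adj : DCoh.RpushQ f hf ⊣ a) (W : DCoh.DQCoh (Spec (CommRingCat.of A)))
  (eW : W.obj ≅ (DCoh.tildeD (CommRingCat.of A)).obj ωA)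

include hωA eW in
theorem exists_bound_base : ∃ c : ℤ, W.obj.IsGE c ∧ DCoh.IsCohD W.obj := by
  obtain ⟨lo, hi, hlo⟩ := H4DR.Dualizing.exists_bounds hωA
  refine ⟨lo, ?_, fun i => ?_⟩
  · haveI : ωA.IsGE lo := (DerivedCategory.isGE_iff _ _).2 fun i hi' => by
      haveI := hlo i (Or.inl hi')
      exact ModuleCat.isZero_of_subsingleton ((DerivedCategory.homologyFunctor (ModuleCat.{u} A) i).obj ωA)
    haveI := (isGE_tilde_iff (A := A) ωA lo).2 inferInstance
    exact t.isGE_of_iso eW.symm lo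
  · haveI : Module.Finite A ((DerivedCategory.homologyFunctor (ModuleCat.{u} A) i).obj ωA) :=
      hωA.finite_cohomology i
    exact H10Coh.isCoh_of_iso ((show tilde (R := CommRingCat.of A) _ ≅ _ from (hdTilde ωA i).symm) ≪≫
        (DerivedCategory.homologyFunctor _ i).mapIso eW.symm)
      (@H10Coh.isCoh_tilde (CommRingCat.of A) ((DerivedCategory.homologyFunctor (ModuleCat.{u} A) i).obj ωA) ‹_›)

/-- A chart at a closed point with the local information. -/
structure PtChart (E : DCoh.D X) (x₀ : X) where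
  B : Type u
  [ring : CommRing B]
  [noeth : IsNoetherianRing B]
  j : Spec (CommRingCat.of B) ⟶ X
  [imm : IsOpenImmersion j]
  ω : Dual.D B
  e : (rd j).obj E ≅ (DCoh.tildeD (CommRingCat.of B)).obj ω
  fin : ∀ i : ℤ, Module.Finite B (Dual.HD B ω i)
  m : PrimeSpectrum B
  pt : j.base m = x₀
  dual : Dual.IsDualizing (Loc m) (loc ω m)
  norm : Dual.IsNormalized (Loc m) (loc ω m)

attribute [instance] PtChart.ring PtChart.noeth PtChart.imm

include hωA hnA adj eW in
theorem exists_ptChart {x₀ : X} (hx : IsClosed ({x₀} : Set X)) : Nonempty (PtChart (a.obj W).obj x₀) := by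
  haveI : CompactSpace X := QuasiCompact.compactSpace_of_compactSpace f
  haveI : QuasiSeparatedSpace X := quasiSeparatedSpace_of_quasiSeparated f
  haveI : IsLocallyNoetherian X := LocallyOfFiniteType.isLocallyNoetherian f
  obtain ⟨c, hc, hWcoh⟩ := exists_bound_base hωA W eW
  have hcoh : DCoh.IsCohD (a.obj W).obj := LeadBrown.isCohD_rightAdjoint f adj W c hc hWcoh
  obtain ⟨c₀, hc₀⟩ := LeadBrown.exists_isGE adj W c hc
  obtain ⟨B, iB, j, hj, m, hm⟩ : ∃ (B : Type u) (_ : CommRing B) (j : Spec (CommRingCat.of B) ⟶ X)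
      (_ : IsOpenImmersion j) (m : PrimeSpectrum B), j.base m = x₀ := by
    obtain ⟨q, hq⟩ := X.affineCover.covers x₀
    exact ⟨_, inferInstance, X.affineCover.f (X.affineCover.idx x₀),
      inferInstanceAs (IsOpenImmersion (X.affineCover.f (X.affineCover.idx x₀))), q, hq⟩
  haveI : IsNoetherianRing B := isLocallyNoetherian_Spec.1 (isLocallyNoetherian_of_isOpenImmersion j)
  obtain ⟨ω, ⟨e⟩, hfin, hlow⟩ := H4RepDual.exists_chart_model j (a.obj W).obj hcoh c₀ hc₀
  obtain ⟨e₀⟩ := H4RepDual.nonempty_rd_id W.obj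
  obtain ⟨ψ', n, hvan, hd, hn⟩ := H4RepDual.exists_point_residue f adj W j ω e m (hm.symm ▸ hx)
    (𝟙 (Spec (CommRingCat.of A))) (f.base (j.base m)) rfl ωA hωA (eW.symm ≪≫ e₀.symm)
  obtain rfl := hn hnA
  haveI : m.asIdeal.IsMaximal := by
    refine (PrimeSpectrum.isClosed_singleton_iff_isMaximal m).1 ?_
    have h1 := (show IsClosed ({j.base m} : Set X) from hm.symm ▸ hx).preimage j.continuous
    rwa [show (j.base ⁻¹' {j.base m}) = {m} from Set.ext fun w => j.isOpenEmbedding.injective.eq_iff] at h1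
  obtain ⟨hdual, hres⟩ := H4RepDual.isDualizing_loc_of_residue m hfin hlow 0 hvan hd
  exact ⟨{ B := B, j := j, ω := ω, e := e.symm, fin := hfin, m := m, pt := hm, dual := hdual, norm := hres }⟩

variable {E : DCoh.D X}

theorem PtChart.nontrivial_iff {x₀ : X} (c : PtChart E x₀) (q : PrimeSpectrum c.B) (i : ℤ) :
    Nontrivial ((DCoh.HD E i).presheaf.stalk (c.j.base q)) ↔ q ∈ Module.support c.B (Dual.HD c.B c.ω i) :=
  H4DualSch.nontrivial_stalk_HD_iff c.j E c.ω c.e q i

theorem PtChart.exists_lift {x₀ : X} (c : PtChart E x₀) {y : X} (h : y ⤳ x₀) :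
    ∃ q : PrimeSpectrum c.B, c.j.base q = y ∧ q ≤ c.m :=
  ProperLocal.exists_lift c.j (c.pt.symm ▸ h)

variable (hE : ∀ x₀ : X, IsClosed ({x₀} : Set X) → Nonempty (PtChart E x₀)) [CompactSpace X]

include hE in
theorem exists_ptChart_over (x : X) :
    ∃ (x₀ : X) (c : PtChart E x₀) (q : PrimeSpectrum c.B), c.j.base q = x ∧ q ≤ c.m := by
  obtain ⟨x₀, hc, hx⟩ := exists_closed_specialization x
  obtain ⟨c⟩ := hE x₀ hc
  obtain ⟨q, hq⟩ := c.exists_lift hx
  exact ⟨x₀, c, q, hq⟩

include hE in
theorem range_of_stalk {n : ℕ} (hX : topologicalKrullDim X ≤ (n : WithBot ℕ∞)) {x : X} {i : ℤ}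
    (h : Nontrivial ((DCoh.HD E i).presheaf.stalk x)) : -(n : ℤ) ≤ i ∧ i ≤ 0 := by
  obtain ⟨x₀, c, q, rfl, hq⟩ := exists_ptChart_over hE x
  exact ⟨(range_of_mem c.ω c.m c.dual c.norm (dim_loc_le c.j c.m hX) hq ((c.nontrivial_iff q i).1 h)).1,
    (range_of_mem c.ω c.m c.dual c.norm (dim_loc_le c.j c.m hX) hq ((c.nontrivial_iff q i).1 h)).2.1⟩

include hE in
theorem isZero_HD {n : ℕ} (hX : topologicalKrullDim X ≤ (n : WithBot ℕ∞)) (i : ℤ)
    (hi : i < -(n : ℤ) ∨ 0 < i) : IsZero (DCoh.HD E i) :=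
  H17.FPExt.isZero_of_stalk _ fun x => not_nontrivial_iff_subsingleton.1 fun hne => by
    have := range_of_stalk hE hX hne
    omega

include hE in
theorem hasSk_two_stalk {n : ℕ} (hX : topologicalKrullDim X ≤ (n : WithBot ℕ∞)) (x : X) :
    LocCoh.HasSk 2 (X.presheaf.stalk x) ((DCoh.HD E (-(n : ℤ))).presheaf.stalk x) := by
  obtain ⟨x₀, c, q, rfl, hq⟩ := exists_ptChart_over hE x
  obtain ⟨φ, hφ, T, hT⟩ := exists_semilinear_HD_stalk c.j E c.ω c.e q (-(n : ℤ))
  exact (H06EGA12.hasSk_iff_of_semilinear φ hφ T hT 2).2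
    (hasSk_two_loc c.ω c.m c.dual c.norm (dim_loc_le c.j c.m hX) hq)

include hE in
theorem supportDim_le {C : Type u} [CommRing C] [IsNoetherianRing C] (j : Spec (CommRingCat.of C) ⟶ X)
    [IsOpenImmersion j] (ω : Dual.D C) (e : (rd j).obj E ≅ (DCoh.tildeD (CommRingCat.of C)).obj ω) (i : ℤ) :
    Module.supportDim C (Dual.HD C ω i) ≤ ((-i).toNat : WithBot ℕ∞) := by
  refine iSup_le fun l => ?_
  obtain ⟨x₀, c, q, hq, hqm⟩ := exists_ptChart_over hE (j.base (l.last).1)
  have hspec : ∀ k, j.base (l k).1 ⤳ x₀ := fun k =>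
    ((specializes_of_le j (show (l k).1 ≤ (l.last).1 from l.monotone (Fin.le_last k))).trans
      ((specializes_of_eq hq.symm).trans ((specializes_of_le c.j hqm).trans (specializes_of_eq c.pt))))
  choose Q hQ hQm using fun k => c.exists_lift (hspec k)
  have hmem : ∀ k, Q k ∈ Module.support c.B (Dual.HD c.B c.ω i) := fun k => by
    rw [← c.nontrivial_iff, hQ k]
    exact (H4DualSch.nontrivial_stalk_HD_iff j E ω e (l k).1 i).2 (l k).2
  have hmono : StrictMono Q := fun k k' hk => by
    have h0 : (l k).1 < (l k').1 := l.strictMono hk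
    refine lt_of_le_of_ne ((PrimeSpectrum.le_iff_specializes (Q k) (Q k')).2
      ((c.j.isOpenEmbedding.isInducing.specializes_iff).1 (by rw [hQ, hQ]; exact specializes_of_le j h0.le))) ?_
    intro h
    exact h0.ne (j.isOpenEmbedding.injective ((hQ k).symm.trans ((congrArg c.j.base h).trans (hQ k'))))
  exact (H05EGA4.FiniteModule.le_supportDim_localization c.m.asIdeal
    (LTSeries.mk l.length Q hmono) hmem (hQm _)).trans (supportDim_loc_le c.ω c.m c.dual c.norm i)

include hE in
theorem dim_support_le [IsLocallyNoetherian X] (hcoh : DCoh.IsCohD E) {c₀ : ℤ} (hc₀ : E.IsGE c₀) (i : ℤ) (k : ℕ)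
    (hk : (k : ℤ) = -i) :
    topologicalKrullDim {x : X | Nontrivial ((DCoh.HD E i).presheaf.stalk x)} ≤ (k : WithBot ℕ∞) := by
  refine S1416.dim_le_of_cover _ fun x => ?_
  obtain ⟨C, iC, j, hj, q₀, hq₀⟩ : ∃ (C : Type u) (_ : CommRing C) (j : Spec (CommRingCat.of C) ⟶ X)
      (_ : IsOpenImmersion j) (q : PrimeSpectrum C), j.base q = x.1 := by
    obtain ⟨q, hq⟩ := X.affineCover.covers x.1
    exact ⟨_, inferInstance, X.affineCover.f (X.affineCover.idx x.1),
      inferInstanceAs (IsOpenImmersion (X.affineCover.f (X.affineCover.idx x.1))), q, hq⟩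
  haveI : IsNoetherianRing C := isLocallyNoetherian_Spec.1 (isLocallyNoetherian_of_isOpenImmersion j)
  obtain ⟨ω, ⟨e⟩, hfin, -⟩ := H4RepDual.exists_chart_model j E hcoh c₀ hc₀
  refine ⟨Subtype.val ⁻¹' Set.range j.base, j.isOpenEmbedding.isOpen_range.preimage continuous_subtype_val,
    ⟨q₀, hq₀⟩, ?_⟩
  haveI := hfin i
  choose q hq using fun w : (Subtype.val ⁻¹' Set.range j.base :
    Set {x : X | Nontrivial ((DCoh.HD E i).presheaf.stalk x)}) => w.2
  let g : _ → Module.support C (Dual.HD C ω i) := fun w => ⟨q w,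
    (H4DualSch.nontrivial_stalk_HD_iff j E ω e.symm (q w) i).1 (by rw [hq w]; exact w.1.2)⟩
  have hcomp : (fun v : Module.support C (Dual.HD C ω i) => j.base v.1) ∘ g = fun w => w.1.1 := funext hq
  have hj' : Topology.IsInducing (fun v : Module.support C (Dual.HD C ω i) => j.base v.1) :=
    j.isOpenEmbedding.isInducing.comp Topology.IsInducing.subtypeVal
  have hval : Topology.IsInducing ((fun v : Module.support C (Dual.HD C ω i) => j.base v.1) ∘ g) := by
    rw [hcomp]; exact Topology.IsInducing.subtypeVal.comp Topology.IsInducing.subtypeVal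
  have hg : Topology.IsInducing g :=
    Topology.IsInducing.of_comp (hj'.continuous_iff.2 hval.continuous) hj'.continuous hval
  refine hg.topologicalKrullDim_le.trans ?_
  rw [← H8Props.Devissage.supportDim_eq_topologicalKrullDim]
  refine (supportDim_le hE j ω e.symm i).trans (le_of_eq ?_)
  rw [show (-i).toNat = k by omega]

include hE in
/-- The support of the top cohomology. -/
theorem support_top_eq {n : ℕ} (hX : topologicalKrullDim X ≤ (n : WithBot ℕ∞)) :
    {x : X | Nontrivial ((DCoh.HD E (-(n : ℤ))).presheaf.stalk x)} =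
      ⋃ Z ∈ {Z : Set X | Z ∈ irreducibleComponents X ∧ topologicalKrullDim ↥Z = (n : WithBot ℕ∞)}, Z := by
  ext x
  constructor
  · intro hx
    obtain ⟨x₀, c, q, rfl, hq⟩ := exists_ptChart_over hE x
    obtain ⟨P, hPq, hP⟩ := exists_dim_of_mem_top c.ω c.m c.dual c.norm (dim_loc_le c.j c.m hX) hq
      ((c.nontrivial_iff q _).1 hx)
    let y : X := c.j.base (PrimeSpectrum.comap (algebraMap c.B (Loc c.m)) P)
    have hZc := isClosed_irreducibleComponent (x := y)
    refine Set.mem_iUnion₂.2 ⟨irreducibleComponent y, ⟨irreducibleComponent_mem_irreducibleComponents y,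
      le_antisymm (Topology.IsInducing.subtypeVal.topologicalKrullDim_le.trans hX) ?_⟩,
      (specializes_of_le c.j hPq).mem_closed hZc mem_irreducibleComponent⟩
    rw [← hP, ← PrimeSpectrum.topologicalKrullDim_eq_ringKrullDim]
    have h0 : Topology.IsInducing fun z : PrimeSpectrum (Loc c.m ⧸ P.asIdeal) =>
        c.j.base (PrimeSpectrum.comap (algebraMap c.B (Loc c.m))
          (PrimeSpectrum.comap (Ideal.Quotient.mk P.asIdeal) z)) :=
      (c.j.isOpenEmbedding.isInducing.comp
        (PrimeSpectrum.localization_comap_isInducing (Loc c.m) c.m.asIdeal.primeCompl)).comp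
        (PrimeSpectrum.isClosedEmbedding_comap_of_surjective _ _ Ideal.Quotient.mk_surjective).isInducing
    exact (h0.codRestrict (s := irreducibleComponent y) fun z =>
      (specializes_of_le c.j (Ideal.comap_mono (f := algebraMap c.B (Loc c.m))
        (show P.asIdeal ≤ (PrimeSpectrum.comap (Ideal.Quotient.mk P.asIdeal) z).asIdeal from fun r hr => by
          show Ideal.Quotient.mk P.asIdeal r ∈ z.asIdeal
          rw [Ideal.Quotient.eq_zero_iff_mem.2 hr]
          exact zero_mem _))).mem_closed hZc mem_irreducibleComponent).topologicalKrullDim_le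
  · intro hx
    obtain ⟨Z, ⟨hZ, hdZ⟩, hxZ⟩ := Set.mem_iUnion₂.1 hx
    have hZc : IsClosed Z := isClosed_of_mem_irreducibleComponents Z hZ
    haveI : QuasiSober ↥Z := hZc.isClosedEmbedding_subtypeVal.quasiSober
    obtain ⟨l, hl⟩ := exists_point_chain (T := ↥Z) hdZ
    obtain ⟨x₀, hx₀, hl₀⟩ := exists_closed_specialization (l 0).1
    obtain ⟨c⟩ := hE x₀ hx₀
    let η : X := hZ.1.genericPoint
    have hη : ∀ z ∈ Z, η ⤳ z := fun z hz => by
      rw [specializes_iff_mem_closure, show closure ({η} : Set X) = Z from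
        hZ.1.genericPoint_closure_eq.trans hZc.closure_eq]
      exact hz
    have hspec : ∀ k, (l k).1 ⤳ x₀ := fun k => by
      rcases (Fin.zero_le k).eq_or_lt with h | h
      · rw [← h]; exact hl₀
      · exact ((hl 0 k h).1.map continuous_subtype_val).trans hl₀
    choose Q hQ hQm using fun k => c.exists_lift (hspec k)
    obtain ⟨Qη, hQη, hQηm⟩ := c.exists_lift ((hη _ (l 0).2).trans hl₀)
    choose P hP using fun k => exists_over (hQm k)
    obtain ⟨Pη, rfl⟩ := exists_over hQηm
    have hle : ∀ k, Pη ≤ P k := fun k => by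
      rw [← over_le_iff, hP, PrimeSpectrum.le_iff_specializes]
      refine (c.j.isOpenEmbedding.isInducing.specializes_iff).1 ?_
      rw [hQη, hQ]
      exact hη _ (l k).2
    have hanti : StrictAnti P := fun k k' hk => by
      obtain ⟨h1, h2⟩ := hl k k' hk
      refine lt_of_le_of_ne ?_ fun h => ?_
      · rw [← over_le_iff, hP, hP, PrimeSpectrum.le_iff_specializes]
        refine (c.j.isOpenEmbedding.isInducing.specializes_iff).1 ?_
        rw [hQ, hQ]
        exact h1.map continuous_subtype_val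
      · exact h2 (specializes_of_eq (Subtype.ext (((hQ k).symm.trans (congrArg c.j.base ((hP k).symm.trans
          ((congrArg (PrimeSpectrum.comap (algebraMap c.B (Loc c.m))) h.symm).trans (hP k'))))).trans (hQ k'))))
    let s : LTSeries ↥(PrimeSpectrum.zeroLocus (Pη.asIdeal : Set (Loc c.m))) :=
      LTSeries.mk n (fun k => ⟨P (Fin.rev k), hle _⟩) fun k k' hk => hanti (Fin.rev_lt_rev.2 hk)
    have hdim : (n : WithBot ℕ∞) ≤ ringKrullDim (Loc c.m ⧸ Pη.asIdeal) := by
      rw [ringKrullDim_quotient]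
      exact Order.LTSeries.length_le_krullDim s
    have hηS := (c.nontrivial_iff _ _).2 (mem_top_of_dim c.ω c.m c.dual c.norm (dim_loc_le c.j c.m hX) Pη hdim)
    rw [hQη] at hηS
    obtain ⟨x₁, c₁, q, hq, -⟩ := exists_ptChart_over hE x
    obtain ⟨qη, hqη, hle'⟩ := ProperLocal.exists_lift c₁.j (show η ⤳ c₁.j.base q from hq.symm ▸ hη x hxZ)
    rw [← hqη, c₁.nontrivial_iff] at hηS
    show Nontrivial _
    rw [← hq, c₁.nontrivial_iff]
    exact Module.mem_support_mono hle' hηS

end Groth.Agent.H4RSH.ProperLocal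

namespace Groth.Agent.H4RSH.ProperLocal

open Groth.Agent.H16Derived Groth.Agent.H16Derived.KFlat.Stalk

/-- The hypotheses of the chart-wise results hold for `a(W)`. -/
theorem exists_setup {A : Type u} [CommRing A] [IsLocalRing A] [IsNoetherianRing A] {ωA : Dual.D A}
    (hωA : Dual.IsDualizing A ωA) (hnA : Dual.IsNormalized A ωA)
    {X : Scheme.{u}} (f : X ⟶ Spec (CommRingCat.of A)) [IsProper f] [DCoh.HasRpush f]
    {hf : DCoh.RpushPreservesQCoh f} {a : DCoh.DQCoh (Spec (CommRingCat.of A)) ⥤ DCoh.DQCoh X}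
    (adj : DCoh.RpushQ f hf ⊣ a) (W : DCoh.DQCoh (Spec (CommRingCat.of A)))
    (eW : W.obj ≅ (DCoh.tildeD (CommRingCat.of A)).obj ωA) :
    CompactSpace X ∧ IsLocallyNoetherian X ∧
      (∀ x₀ : X, IsClosed ({x₀} : Set X) → Nonempty (PtChart (a.obj W).obj x₀)) ∧
      DCoh.IsCohD (a.obj W).obj ∧ ∃ c₀ : ℤ, (a.obj W).obj.IsGE c₀ := by
  haveI : CompactSpace X := QuasiCompact.compactSpace_of_compactSpace f
  haveI : QuasiSeparatedSpace X := quasiSeparatedSpace_of_quasiSeparated f
  obtain ⟨c, hc, hWcoh⟩ := exists_bound_base hωA W eW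
  exact ⟨inferInstance, LocallyOfFiniteType.isLocallyNoetherian f,
    fun x₀ hx₀ => exists_ptChart hωA hnA f adj W eW hx₀,
    LeadBrown.isCohD_rightAdjoint f adj W c hc hWcoh, LeadBrown.exists_isGE adj W c hc⟩

end Groth.Agent.H4RSH.ProperLocal
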