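import Groth.Agent.H16Derived.Dual.PseudoQCoh
import Groth.Agent.H16Derived.Dual.Symm

/-!
# Vanishing of cohomology sheaves of `RHom(k, L)` tested on opens
-/

set_option autoImplicit false
set_option linter.style.haveILetI false

universe u

open CategoryTheory CategoryTheory.Limits AlgebraicGeometry Opposite TopologicalSpace

attribute [local instance] HasDerivedCategory.standard

namespace Groth.Agent.H4RSH

open Groth.Agent.H10Coh Groth.Agent.H16Derived Groth.Agent.H16Derived.QCohD Groth.Agent.H16Derived.KFlat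
  Groth.Agent.H16Derived.KFlat.Stalk Groth.Agent.H16Derived.Dual

variable {X : Scheme.{u}}

/-- A cohomology sheaf vanishes when no nonzero map out of a shifted `O_V` hits it. -/
theorem isZero_hd_of_tests (Z : DCoh.D X) (i : ℤ) (Bs : Set X.Opens)
    (hBs : ∀ (W : X.Opens) (x : X), x ∈ W → ∃ V ∈ Bs, x ∈ V ∧ V ≤ W)
    (h : ∀ V ∈ Bs, ∀ f : (DerivedCategory.singleFunctor X.Modules i).obj (freeSh V) ⟶ Z, f = 0) :
    IsZero (DCoh.HD Z i) := by
  let C := DerivedCategory.Q.objPreimage Z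
  let e : DerivedCategory.Q.obj C ≅ Z := DerivedCategory.Q.objObjPreimageIso Z
  let H := DCoh.HD Z i
  let i' : C.homology i ≅ H :=
    ((DerivedCategory.homologyFunctorFactors X.Modules i).app C).symm ≪≫
      (DerivedCategory.homologyFunctor X.Modules i).mapIso e
  haveI : Epi (C.homologyπ i ≫ i'.hom) := @epi_comp _ _ _ _ _ _ inferInstance i'.hom inferInstance
  rw [IsZero.iff_id_eq_zero]
  refine Scheme.Modules.hom_ext _ _ fun U => AddCommGrpCat.hom_ext (AddMonoidHom.ext fun s => ?_)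
  refine TopCat.Presheaf.section_ext (sh H) U _ _ fun x hx => ?_
  obtain ⟨W, hW, hxW, z, hz⟩ := exists_nhds_lift_of_epi (C.homologyπ i ≫ i'.hom) U s x hx
  obtain ⟨V, hV, hxV, hle⟩ := hBs W x hxW
  have hVU : V ≤ U := le_trans hle hW
  let φ : freeSh V ⟶ C.cycles i := (freeShEquiv V _).symm ((C.cycles i).presheaf.map (homOfLE hle).op z)
  obtain ⟨a, ha⟩ := comp_homologyπ_mem_range C i e φ
  rw [h V hV a, θ_zero] at ha
  have h2 : freeShEquiv V H (φ ≫ C.homologyπ i ≫ i'.hom) = 0 := by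
    have h3 := freeShEquiv_comp V (0 : freeSh V ⟶ H) (0 : H ⟶ H)
    rw [comp_zero] at h3
    exact (congrArg (freeShEquiv V H) ha.symm).trans h3
  rw [freeShEquiv_comp, Equiv.apply_symm_apply] at h2
  show H.presheaf.germ U x hx s = H.presheaf.germ U x hx 0
  rw [map_zero]
  refine germ_eq_zero_of_le H hVU hxV _ ?_
  refine Eq.trans ?_ h2
  refine ((H11Tilde.app_map_apply (C.homologyπ i ≫ i'.hom) hle z).trans ?_).symm
  exact (congrArg _ hz).trans (mres_mres H hW hle _)

/-- `c ⊗^L O[-i] = c[-i]`. -/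
theorem nonempty_tensor_single (c : DCoh.D X) (i : ℤ) :
    Nonempty (((T X).obj c).obj ((DerivedCategory.singleFunctor X.Modules i).obj (Coh.structureModule X)) ≅
      c⟦-i⟧) := by
  let C := DerivedCategory.Q.objPreimage c
  let e : DerivedCategory.Q.obj C ≅ c := DerivedCategory.Q.objObjPreimageIso c
  haveI := isIso_ε C (S X (-i)) (Or.inr (isKFlat_S X (-i)))
  let o' : (DerivedCategory.singleFunctor X.Modules i).obj (Coh.structureModule X) ≅ o X (-i) :=
    ((DerivedCategory.Q.commShiftIso (-i)).app (S₀ X) ≪≫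
      ((DerivedCategory.singleFunctors X.Modules).shiftIso (-i) i 0 (by omega)).app _).symm
  exact ⟨((T X).obj c).mapIso o' ≪≫ ((T X).mapIso e.symm).app _ ≪≫
    @asIso _ _ _ _ ((ε X).app (C, S X (-i))) ‹_› ≪≫
    DerivedCategory.Q.mapIso (CochainComplex.mapBifunctorShift₂Iso C (S₀ X) (DCoh.tensorBi (X := X)) (-i) ≪≫
      (shiftFunctor (Cx X) (-i)).mapIso ((tensorS₀Iso X).app C)) ≪≫
    (DerivedCategory.Q.commShiftIso (-i)).app C ≪≫ (shiftFunctor _ (-i)).mapIso e⟩

/-- The counit `j_! j^* ⟶ 1` is invertible on the open. -/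
theorem isoOn_cutAdj_counit (V : X.Opens) (k : DCoh.D X) : IsoOn V ((cutAdj V).counit.app k) := by
  haveI := MV.isIso_extZero_unit V
  haveI : IsIso (cutAdj V).unit := Thomason.isIso_extZeroRdAdj_unit V
  show IsIso ((rA V).map ((cutAdj V).counit.app k))
  haveI : IsIso ((cutAdj V).unit.app ((rA V).obj k)) := NatIso.isIso_app_of_isIso _ _
  exact IsIso.of_isIso_fac_left ((cutAdj V).right_triangle_components k)

/-- `O_V[-i]` is `O[-i]` cut down to `V`. -/
theorem nonempty_cut_single (V : X.Opens) (i : ℤ) :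
    Nonempty (cut V ((DerivedCategory.singleFunctor X.Modules i).obj (Coh.structureModule X)) ≅
      (DerivedCategory.singleFunctor X.Modules i).obj (freeSh V)) := by
  refine ⟨(CxOX.extZeroD V.ι).mapIso
      (((Scheme.Modules.restrictFunctor V.ι).mapDerivedCategorySingleFunctor i).app _ ≪≫
        (DerivedCategory.singleFunctor _ i).mapIso (Scheme.Modules.restrictUnitIso V.ι ≪≫ freeShTopIso.symm)) ≪≫
    ((CxOX.extZero V.ι).mapDerivedCategorySingleFunctor i).app _ ≪≫
    (DerivedCategory.singleFunctor X.Modules i).mapIso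
      (extZeroFreeIso V.ι ≪≫ eqToIso (congrArg freeSh V.ι_image_top))⟩

/-- No maps `O_V[-i] ⟶ RHom(k, L)` if there are no maps `k|_V ⟶ L[i]|_V`. -/
theorem subsingleton_test (k L : DCoh.D X) (i : ℤ) (V : X.Opens)
    (hV : Subsingleton ((rA V).obj k ⟶ (rA V).obj (L⟦i⟧))) :
    Subsingleton ((DerivedCategory.singleFunctor X.Modules i).obj (freeSh V) ⟶ (R k).obj L) := by
  obtain ⟨eG⟩ := nonempty_cut_single V i
  let O' := (DerivedCategory.singleFunctor X.Modules i).obj (Coh.structureModule X)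
  let G := cut V O'
  obtain ⟨eS⟩ := nonempty_tensor_single (cut V k) i
  haveI := isIso_TObj_cut V O' (isoOn_cutAdj_counit V k)
  haveI := isIso_TObj_cut V k (isoOn_cutAdj_counit V O')
  let e : ((T X).obj G).obj k ≅ (cut V k)⟦-i⟧ :=
    (asIso (((T X).obj G).map ((cutAdj V).counit.app k))).symm ≪≫ σ G (cut V k) ≪≫
      asIso (((T X).obj (cut V k)).map ((cutAdj V).counit.app O')) ≪≫ eS
  let sh := (shiftEquiv (DCoh.D X) (-i)).toAdjunction
  haveI : Subsingleton ((cut V k)⟦-i⟧ ⟶ L) := by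
    haveI : Subsingleton (cut V k ⟶ L⟦i⟧) :=
      haveI := hV
      ((cutAdj V).homEquiv _ _).injective.subsingleton
    haveI : Subsingleton (cut V k ⟶ L⟦-(-i)⟧) := by rwa [neg_neg]
    exact @Function.Injective.subsingleton _ _ _ (sh.homEquiv (cut V k) L).injective ‹Subsingleton (cut V k ⟶ L⟦-(-i)⟧)›
  haveI : Subsingleton (((T X).obj G).obj k ⟶ L) := (e.homCongr (Iso.refl L)).injective.subsingleton
  haveI : Subsingleton (G ⟶ (R k).obj L) := @Function.Injective.subsingleton _ _ _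
    ((adjR k).homEquiv G L).symm.injective ‹Subsingleton (((T X).obj G).obj k ⟶ L)›
  exact (eG.symm.homCongr (Iso.refl ((R k).obj L))).injective.subsingleton

/-- `H^i RHom(k, L) = 0` if there are no maps `k|_V ⟶ L[i]|_V`. -/
theorem isZero_hd_R (k L : DCoh.D X) (i : ℤ) (Bs : Set X.Opens)
    (hBs : ∀ (W : X.Opens) (x : X), x ∈ W → ∃ V ∈ Bs, x ∈ V ∧ V ≤ W)
    (h : ∀ V ∈ Bs, Subsingleton ((rA V).obj k ⟶ (rA V).obj (L⟦i⟧))) :
    IsZero (DCoh.HD ((R k).obj L) i) :=
  isZero_hd_of_tests _ i Bs hBs fun V hV f =>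
    haveI := subsingleton_test k L i V (h V hV)
    Subsingleton.elim _ _

end Groth.Agent.H4RSH
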