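import Groth.Agent.H4RepDual.Heart
import Mathlib.Algebra.Homology.DerivedCategory.KInjective
import Mathlib.CategoryTheory.Abelian.Injective.Basic

/-!
# Morphisms into an injective object placed in degree zero
-/

set_option autoImplicit false
set_option linter.style.haveILetI false

universe w v u

open CategoryTheory CategoryTheory.Limits CategoryTheory.Pretriangulated
open DerivedCategory DerivedCategory.TStructure

namespace Groth.Agent.H4RSH

variable {C : Type u} [Category.{v} C] [Abelian C] [HasDerivedCategory.{w} C] (I : C) [Injective I]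

instance injective_single_X (i : ℤ) : Injective (((CochainComplex.singleFunctor C 0).obj I).X i) := by
  by_cases hi : i = 0
  · subst hi
    exact Injective.of_iso (HomologicalComplex.singleObjXSelf (ComplexShape.up ℤ) 0 I).symm ‹_›
  · haveI : HasZeroObject C := inferInstance
    exact Injective.of_iso
      ((HomologicalComplex.isZero_single_obj_X (ComplexShape.up ℤ) 0 I i hi).isoZero).symm inferInstance

/-- Nothing maps from positive degrees to an injective in degree zero. -/
theorem eq_zero_of_isGE {L : DerivedCategory C} (n : ℤ) (hn : 1 ≤ n) [L.IsGE n]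
    (g : L ⟶ (singleFunctor C 0).obj I) : g = 0 := by
  obtain ⟨E, hE, ⟨e⟩⟩ := L.exists_iso_Q_obj_of_isGE n
  let S : CochainComplex C ℤ := (CochainComplex.singleFunctor C 0).obj I
  haveI : S.IsStrictlyGE 0 := inferInstance
  haveI : CochainComplex.IsKInjective S := CochainComplex.isKInjective_of_injective S 0
  let e' : (singleFunctor C 0).obj I ≅ Q.obj S := (singleFunctorIsoCompQ C 0).app I
  let q := quotientCompQhIso C
  obtain ⟨u, hu⟩ := (CochainComplex.IsKInjective.Qh_map_bijective
      ((HomotopyCategory.quotient C (ComplexShape.up ℤ)).obj E) S).2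
    (q.hom.app E ≫ e.inv ≫ g ≫ e'.hom ≫ q.inv.app S)
  obtain ⟨u, rfl⟩ := (HomotopyCategory.quotient C (ComplexShape.up ℤ)).map_surjective u
  have h0 : u = 0 := by
    ext i
    by_cases hi : i = 0
    · subst hi
      exact (CochainComplex.isZero_of_isStrictlyGE E n 0 (by omega)).eq_of_src _ _
    · exact (HomologicalComplex.isZero_single_obj_X (ComplexShape.up ℤ) 0 I i hi).eq_of_tgt _ _
  rw [h0, Functor.map_zero, Functor.map_zero] at hu
  rw [← cancel_epi e.inv, comp_zero, ← cancel_mono e'.hom, zero_comp, Category.assoc,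
    ← cancel_mono (q.inv.app S), zero_comp, Category.assoc, Category.assoc, ← cancel_epi (q.hom.app E), comp_zero]
  exact hu.symm

/-- Morphisms to an injective in degree zero are the forms on the zeroth homology. -/
theorem bijective_map_homology_injective (K : DerivedCategory C) :
    Function.Bijective fun g : K ⟶ (singleFunctor C 0).obj I => (homologyFunctor C 0).map g := by
  obtain ⟨X₁, X₃, hX₁, hX₃, f₁, f₂, f₃, hT⟩ := t.exists_triangle K 0 1 (by omega)
  let T := Triangle.mk f₁ f₂ f₃
  change T ∈ distTriang _ at hT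
  haveI : DerivedCategory.IsLE X₁ 0 := ⟨hX₁⟩
  haveI : DerivedCategory.IsGE X₃ 1 := ⟨hX₃⟩
  haveI : DerivedCategory.IsGE T.obj₃ 1 := ⟨hX₃⟩
  haveI : DerivedCategory.IsGE (X₃⟦(-1 : ℤ)⟧) 2 := t.isGE_shift X₃ 1 (-1) 2 (by omega)
  have hiso : IsIso ((homologyFunctor C 0).map f₁) := by
    show IsIso ((homologyFunctor C 0).map T.mor₁)
    haveI : Epi ((homologyFunctor C 0).map T.mor₁) :=
      (HomologySequence.exact₂ _ hT 0).epi_f ((isZero_of_isGE T.obj₃ 1 0 (by omega)).eq_of_tgt _ _)
    haveI : Mono ((homologyFunctor C 0).map T.mor₁) :=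
      (HomologySequence.exact₁ _ hT (-1) 0 (by omega)).mono_g
        ((isZero_of_isGE T.obj₃ 1 (-1) (by omega)).eq_of_src _ _)
    exact isIso_of_mono_of_epi _
  have hb : Function.Bijective fun g : K ⟶ (singleFunctor C 0).obj I => f₁ ≫ g := by
    refine ⟨fun g g' h => sub_eq_zero.1 ?_, fun g => ?_⟩
    · obtain ⟨φ, hφ⟩ := T.yoneda_exact₂ hT (g - g') (by
        show f₁ ≫ (g - g') = 0
        rw [Preadditive.comp_sub]; exact sub_eq_zero.2 h)
      rw [hφ, show φ = 0 from eq_zero_of_isGE I 1 le_rfl φ, comp_zero]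
      rfl
    · obtain ⟨g', hg'⟩ := (T.invRotate).yoneda_exact₂ (inv_rot_of_distTriang _ hT) g
        (eq_zero_of_isGE I 2 (by omega) (L := X₃⟦(-1 : ℤ)⟧) _)
      exact ⟨g', hg'.symm⟩
  have h2 := H4RepDual.bijective_map_homology X₁ ((singleFunctor C 0).obj I) 0
  have hcomp := h2.comp hb
  have : (fun g : K ⟶ (singleFunctor C 0).obj I => (homologyFunctor C 0).map f₁ ≫ (homologyFunctor C 0).map g) =
      (fun g => (homologyFunctor C 0).map g) ∘ fun g : K ⟶ (singleFunctor C 0).obj I => f₁ ≫ g :=
    funext fun g => ((homologyFunctor C 0).map_comp f₁ g).symm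
  rw [← this] at hcomp
  haveI := hiso
  exact ⟨fun g g' h => hcomp.1 (congrArg ((homologyFunctor C 0).map f₁ ≫ ·) h), fun v => by
    obtain ⟨g, hg⟩ := hcomp.2 ((homologyFunctor C 0).map f₁ ≫ v)
    exact ⟨g, (cancel_epi ((homologyFunctor C 0).map f₁)).1 hg⟩⟩

end Groth.Agent.H4RSH
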