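import Groth.Agent.H4RSH.SerreDual
import Groth.Agent.H10Coh.Proper
import Groth.Agent.LeadAff.Chevalley
import Groth.Prelude.Def_Canon

/-!
# Serre duality for the dualizing module of a proper scheme over a field
-/

set_option autoImplicit false
set_option linter.style.haveILetI false
set_option linter.unusedSectionVars false
set_option backward.isDefEq.respectTransparency false
set_option synthInstance.maxHeartbeats 400000
set_option maxHeartbeats 1000000

universe u

open CategoryTheory CategoryTheory.Limits AlgebraicGeometry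
open DerivedCategory.TStructure
open Groth.Agent.H16Derived.KFlat.Stalk
open Groth.Agent.H4RepDual

attribute [local instance] HasDerivedCategory.standard

namespace Groth.Agent.H4RSH.SerreDual

attribute [local instance 10000] H10Coh.hasSheafifyAb H10Coh.hasWeakSheafifyAb H10Coh.hasExtAb H10Coh.enoughInjAb

variable {k : Type u} [Field k] {X : Scheme.{u}} [X.Over (Spec (CommRingCat.of k))]
  [IsProper (X ↘ Spec (CommRingCat.of k))]
  [DCoh.HasRpush (X ↘ Spec (CommRingCat.of k))] {hf : DCoh.RpushPreservesQCoh (X ↘ Spec (CommRingCat.of k))}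
  {a : DCoh.DQCoh (Spec (CommRingCat.of k)) ⥤ DCoh.DQCoh X}
  (adj : DCoh.RpushQ (X ↘ Spec (CommRingCat.of k)) hf ⊣ a)
  (O : DCoh.DQCoh (Spec (CommRingCat.of k)))
  (hO : Nonempty (O.obj ≅ DCoh.inD (Spec (CommRingCat.of k)) (Coh.structureModule (Spec (CommRingCat.of k)))))

include hO in
theorem nonempty_tilde_iso : Nonempty (O.obj ≅ (DCoh.tildeD (CommRingCat.of k)).obj (Dual.inD k k)) := by
  obtain ⟨e⟩ := hO
  exact ⟨e ≪≫ ((DerivedCategory.singleFunctor (Spec (CommRingCat.of k)).Modules 0).mapIso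
      (AlgebraicGeometry.tildeSelf (R := CommRingCat.of k))).symm ≪≫
      (((tilde.functor (CommRingCat.of k)).mapDerivedCategorySingleFunctor 0).app (ModuleCat.of k k)).symm⟩

theorem bound (d : ℕ) (hd : topologicalKrullDim X ≤ (d : WithBot ℕ∞)) (M : X.Modules) (hM : Coh.IsQCoh M) :
    ((DCoh.Rpush (X ↘ Spec (CommRingCat.of k))).obj (DCoh.inD X M)).IsLE d :=
  isLE_rpush_inD (X ↘ Spec (CommRingCat.of k)) d
    (fun y => ((X ↘ Spec (CommRingCat.of k)).fiberι y).isEmbedding.isInducing.topologicalKrullDim_le.trans hd) M hM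

include adj hO in
theorem isGE_rightAdjoint (d : ℕ) (hd : topologicalKrullDim X ≤ (d : WithBot ℕ∞)) :
    (a.obj O).obj.IsGE (-(d : ℤ)) := by
  haveI : CompactSpace X := QuasiCompact.compactSpace_of_compactSpace (X ↘ Spec (CommRingCat.of k))
  haveI : QuasiSeparatedSpace X := quasiSeparatedSpace_of_quasiSeparated (X ↘ Spec (CommRingCat.of k))
  obtain ⟨e⟩ := hO
  simpa using isGE_of_bound (X ↘ Spec (CommRingCat.of k)) hf adj d (bound d hd) O 0
    (t.isGE_of_iso e.symm 0)

/-- `ω[d] → a(O)`, inducing `H^{-d}`. -/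
theorem exists_incl {E : DCoh.D X} (d : ℕ) (hE : E.IsGE (-(d : ℤ))) :
    ∃ j : shObj (DCoh.HD E (-(d : ℤ))) d ⟶ E,
      (∀ K : DCoh.D X, K.IsLE (-(d : ℤ)) → Function.Bijective
        fun g : K ⟶ shObj (DCoh.HD E (-(d : ℤ))) d => g ≫ j) ∧
      ((∀ i : ℤ, i ≠ -(d : ℤ) → IsZero (DCoh.HD E i)) → IsIso j) := by
  obtain ⟨N, j₀, hj, hj'⟩ := exists_single_incl E (-(d : ℤ))
  haveI := hj
  let eN : N ≅ DCoh.HD E (-(d : ℤ)) :=
    ((DerivedCategory.singleFunctorCompHomologyFunctorIso X.Modules (-(d : ℤ))).app N).symm ≪≫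
      asIso ((DerivedCategory.homologyFunctor X.Modules (-(d : ℤ))).map j₀)
  let σ : shObj (DCoh.HD E (-(d : ℤ))) d ≅ (DerivedCategory.singleFunctor X.Modules (-(d : ℤ))).obj N :=
    ((DerivedCategory.singleFunctors X.Modules).shiftIso (d : ℤ) (-(d : ℤ)) 0 (by omega)).app _ ≪≫
      (DerivedCategory.singleFunctor X.Modules (-(d : ℤ))).mapIso eN.symm
  refine ⟨σ.hom ≫ j₀, fun K hK => ?_, fun hz => ?_⟩
  · simpa [Function.comp_def] using (hj' K hK).comp σ.homToEquiv.bijective
  · haveI : IsIso j₀ := by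
      rw [DerivedCategory.isIso_iff]
      intro i
      rcases eq_or_ne i (-(d : ℤ)) with rfl | hi
      · exact hj
      · have h0 : IsZero ((DerivedCategory.homologyFunctor X.Modules i).obj
            ((DerivedCategory.singleFunctor X.Modules (-(d : ℤ))).obj N)) := by
          rcases lt_or_gt_of_ne hi with h | h
          · exact DerivedCategory.isZero_of_isGE _ (-(d : ℤ)) i h
          · exact DerivedCategory.isZero_of_isLE _ (-(d : ℤ)) i h
        exact ⟨0, h0.eq_of_src _ _, (hz i hi).eq_of_src _ _⟩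
    infer_instance

section Duality

variable [HasExt.{u} X.Modules]

include adj hO in
/-- Serre duality when `a(O)` is a module in one degree. -/
theorem nonempty_serre_equiv {d : ℕ} (hz : ∀ i : ℤ, i ≠ -(d : ℤ) → IsZero (DCoh.HD (a.obj O).obj i))
    (hd : topologicalKrullDim X ≤ (d : WithBot ℕ∞)) {p q : ℕ} (hpq : p + q = d) :
    Nonempty (Coh.HH X (DCoh.HD (a.obj O).obj (-(d : ℤ))) p ≃ₗ[k]
      Module.Dual k (Coh.HH X (Coh.structureModule X) q)) := by
  obtain ⟨eO⟩ := nonempty_tilde_iso O hO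
  obtain ⟨j, -, hj⟩ := exists_incl d (isGE_rightAdjoint adj O hO d hd)
  haveI := hj hz
  exact ⟨LinearEquiv.ofBijective _ (bijective_toDual adj O eO H10Coh.isQuasicoherent_unit _ hpq j)⟩

include adj hO in
/-- For curves `H¹(X, ω)` injects into the dual of `H⁰(X, O)`. -/
theorem exists_injective_top (hd : topologicalKrullDim X ≤ ((1 : ℕ) : WithBot ℕ∞)) :
    ∃ t : Coh.HH X (DCoh.HD (a.obj O).obj (-((1 : ℕ) : ℤ))) 1 →ₗ[k]
      Module.Dual k (Coh.HH X (Coh.structureModule X) 0), Function.Injective t := by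
  obtain ⟨eO⟩ := nonempty_tilde_iso O hO
  have hE := isGE_rightAdjoint adj O hO 1 hd
  haveI := hE
  obtain ⟨N, j₀, hj, hj'⟩ := exists_single_incl (a.obj O).obj (-((1 : ℕ) : ℤ))
  haveI := hj
  let eN : N ≅ DCoh.HD (a.obj O).obj (-((1 : ℕ) : ℤ)) :=
    ((DerivedCategory.singleFunctorCompHomologyFunctorIso X.Modules (-((1 : ℕ) : ℤ))).app N).symm ≪≫
      asIso ((DerivedCategory.homologyFunctor X.Modules (-((1 : ℕ) : ℤ))).map j₀)
  let σ : shObj (DCoh.HD (a.obj O).obj (-((1 : ℕ) : ℤ))) 1 ≅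
      (DerivedCategory.singleFunctor X.Modules (-((1 : ℕ) : ℤ))).obj N :=
    ((DerivedCategory.singleFunctors X.Modules).shiftIso ((1 : ℕ) : ℤ) (-((1 : ℕ) : ℤ)) 0 (by omega)).app _ ≪≫
      (DerivedCategory.singleFunctor X.Modules (-((1 : ℕ) : ℤ))).mapIso eN.symm
  obtain ⟨X₃, f₂, f₃, hT⟩ := Pretriangulated.distinguished_cocone_triangle j₀
  have h3 : DerivedCategory.IsGE X₃ 0 := by
    rw [DerivedCategory.isGE_iff]
    intro i hi
    have hex := DerivedCategory.HomologySequence.exact₃ _ hT i (i + 1) rfl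
    have hsrc : IsZero ((DerivedCategory.homologyFunctor X.Modules i).obj (a.obj O).obj) ∨ i = -((1 : ℕ) : ℤ) := by
      rcases eq_or_ne i (-((1 : ℕ) : ℤ)) with h | h
      · exact Or.inr h
      · exact Or.inl (DerivedCategory.isZero_of_isGE _ (-((1 : ℕ) : ℤ)) i (by omega))
    refine hex.isZero_of_both_zeros ?_ ?_
    · rcases hsrc with h | rfl
      · exact h.eq_of_src _ _
      · have hex2 := DerivedCategory.HomologySequence.exact₂ _ hT (-((1 : ℕ) : ℤ))
        haveI : Epi ((DerivedCategory.homologyFunctor X.Modules (-((1 : ℕ) : ℤ))).map j₀) := inferInstance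
        exact (cancel_epi ((DerivedCategory.homologyFunctor X.Modules (-((1 : ℕ) : ℤ))).map j₀)).1
          ((by rw [← Functor.map_comp, show j₀ ≫ f₂ = 0 from Pretriangulated.comp_distTriang_mor_zero₁₂ _ hT,
            Functor.map_zero, comp_zero] : _ ≫ (DerivedCategory.homologyFunctor X.Modules (-((1 : ℕ) : ℤ))).map f₂ =
              _ ≫ 0))
    · rcases lt_trichotomy (i + 1) (-((1 : ℕ) : ℤ)) with h' | h' | h'
      · exact (DerivedCategory.isZero_of_isGE ((DerivedCategory.singleFunctor X.Modules (-((1 : ℕ) : ℤ))).obj N)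
          (-((1 : ℕ) : ℤ)) (i + 1) h').eq_of_tgt _ _
      · haveI : Mono ((DerivedCategory.homologyFunctor X.Modules (i + 1)).map j₀) := by
          rw [h']; infer_instance
        exact (cancel_mono ((DerivedCategory.homologyFunctor X.Modules (i + 1)).map j₀)).1
          ((DerivedCategory.HomologySequence.δ_comp _ hT i (i + 1) rfl).trans zero_comp.symm)
      · exact (DerivedCategory.isZero_of_isLE ((DerivedCategory.singleFunctor X.Modules (-((1 : ℕ) : ℤ))).obj N)
          (-((1 : ℕ) : ℤ)) (i + 1) h').eq_of_tgt _ _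
  let T0 := toDual adj O eO H10Coh.isQuasicoherent_unit (DCoh.HD (a.obj O).obj (-((1 : ℕ) : ℤ)))
    (p := 1) (q := 0) (d := 1) rfl (σ.hom ≫ j₀)
  refine ⟨T0, (injective_iff_map_eq_zero T0).2 fun x hx => ?_⟩
  have hinj : ∀ K : DCoh.D X, K.IsLE 0 → ∀ g : K ⟶ (DerivedCategory.singleFunctor X.Modules (-((1 : ℕ) : ℤ))).obj N,
      g ≫ j₀ = 0 → g = 0 := fun K hK g hg => by
    obtain ⟨φ, hφ⟩ := Pretriangulated.Triangle.coyoneda_exact₁ _ hT
      ((shiftFunctor (DCoh.D X) (1 : ℤ)).map g) (by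
        show (shiftFunctor (DCoh.D X) (1 : ℤ)).map g ≫ (shiftFunctor (DCoh.D X) (1 : ℤ)).map j₀ = 0
        rw [← Functor.map_comp, hg, Functor.map_zero])
    haveI : DerivedCategory.IsLE (K⟦(1 : ℤ)⟧) (-1) := t.isLE_shift K 0 1 (-1) (by omega)
    haveI := h3
    haveI : DerivedCategory.IsGE (Pretriangulated.Triangle.mk j₀ f₂ f₃).obj₃ 0 := h3
    refine (shiftFunctor (DCoh.D X) (1 : ℤ)).map_injective ?_
    rw [hφ, show φ = 0 from DerivedCategory.TStructure.t.zero φ (-1) 0 (by omega), zero_comp, Functor.map_zero]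
  have h0 := (bijective_pair adj O eO (n := 0) H10Coh.isQuasicoherent_unit).1 (hx.trans
    (show (0 : Module.Dual k _) = pair adj O eO (n := 0) H10Coh.isQuasicoherent_unit 0 by
      have h := pair_add adj O eO (n := 0) (M := Coh.structureModule X) H10Coh.isQuasicoherent_unit 0 0
      rw [add_zero] at h
      exact (add_left_cancel ((add_zero _).trans h))))
  haveI : DerivedCategory.IsLE (shObj (Coh.structureModule X) 0) 0 :=
    DerivedCategory.TStructure.t.isLE_shift _ 0 ((0 : ℕ) : ℤ) 0 (by omega)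
  simp only [← Category.assoc] at h0
  have h1 := hinj _ inferInstance _ h0
  rw [← cancel_mono σ.inv, Category.assoc, σ.hom_inv_id, Category.comp_id, zero_comp,
    ← cancel_mono ((shiftFunctorAdd' (DCoh.D X) ((1 : ℕ) : ℤ) ((0 : ℕ) : ℤ) ((1 : ℕ) : ℤ) (by omega)).hom.app _),
    Category.assoc, Iso.inv_hom_id_app, zero_comp] at h1
  erw [Category.comp_id] at h1
  refine (AddEquiv.ofBijective (toHH _ 1) (bijective_toHH _ 1)).symm.injective ?_
  rw [map_zero]
  exact (shiftFunctor (DCoh.D X) ((0 : ℕ) : ℤ)).map_injective (h1.trans (Functor.map_zero _ _ _).symm)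

include hf in
/-- Cohomology vanishes above the dimension. -/
theorem subsingleton_HH_gt {d : ℕ} (hd : topologicalKrullDim X ≤ (d : WithBot ℕ∞)) {M : X.Modules} (hM : Coh.IsQCoh M)
    {p : ℕ} (hp : d < p) : Subsingleton (Coh.HH X M p) := by
  letI := rpushCommShift (X ↘ Spec (CommRingCat.of k))
  obtain ⟨R, ⟨ε⟩⟩ := exists_pair (n := p) (hf := hf) hM
  haveI := bound (k := k) d hd M hM
  haveI : DerivedCategory.IsLE (((DCoh.Rpush (X ↘ Spec (CommRingCat.of k))).obj (DCoh.inD X M))⟦(p : ℤ)⟧) (-1) :=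
    haveI : DerivedCategory.IsLE (((DCoh.Rpush (X ↘ Spec (CommRingCat.of k))).obj (DCoh.inD X M))⟦(p : ℤ)⟧) ((d : ℤ) - p) :=
      DerivedCategory.TStructure.t.isLE_shift _ (d : ℤ) (p : ℤ) _ (by omega)
    DerivedCategory.TStructure.t.isLE_of_le _ ((d : ℤ) - p) (-1) (by omega)
  haveI : DerivedCategory.IsLE ((DCoh.Rpush (X ↘ Spec (CommRingCat.of k)) ⋙
      shiftFunctor (DCoh.D (Spec (CommRingCat.of k))) (p : ℤ)).obj (DCoh.inD X M)) (-1) := ‹_›
  haveI : R.IsLE (-1) := (isLE_tilde_iff R (-1)).1 (DerivedCategory.TStructure.t.isLE_of_iso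
    ((((DCoh.Rpush (X ↘ Spec (CommRingCat.of k))).commShiftIso (p : ℤ)).app (DCoh.inD X M)).symm ≪≫ ε.symm) (-1))
  haveI : Subsingleton (Dual.HD k R 0) :=
    ModuleCat.subsingleton_of_isZero (DerivedCategory.isZero_of_isLE R (-1) 0 (by omega))
  exact (eta (X ↘ Spec (CommRingCat.of k)) ε).symm.injective.subsingleton

include hf in
/-- The Euler characteristic on a curve. -/
theorem euler_eq (hd : topologicalKrullDim X ≤ ((1 : ℕ) : WithBot ℕ∞)) {M : X.Modules} (hM : Coh.IsQCoh M) :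
    Curv2.euler k X M = (Module.finrank k (Coh.HH X M 0) : ℤ) - Module.finrank k (Coh.HH X M 1) := by
  rw [Curv2.euler, finsum_eq_sum_of_support_subset _ (s := Finset.range 2)]
  · simp [Finset.sum_range_succ, sub_eq_add_neg]
  · intro i hi
    by_contra h
    simp only [Finset.coe_range, Set.mem_Iio, not_lt] at h
    haveI := subsingleton_HH_gt (hf := hf) hd hM (p := i) (by omega)
    exact hi (by simp [Module.finrank_zero_of_subsingleton])

include adj hO in
/-- The universal form on the top cohomology of the dualizing module. -/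
theorem exists_trace {d : ℕ} (hd : topologicalKrullDim X ≤ (d : WithBot ℕ∞)) :
    ∃ t : Coh.HH X (DCoh.HD (a.obj O).obj (-(d : ℤ))) d →ₗ[k] k,
      ∀ F : X.Modules, Coh.IsQCoh F → ∀ ψ : Coh.HH X F d →ₗ[k] k,
        ∃! φ : F ⟶ DCoh.HD (a.obj O).obj (-(d : ℤ)), t ∘ₗ Canon.HHlin k φ d = ψ := by
  obtain ⟨eO⟩ := nonempty_tilde_iso O hO
  obtain ⟨j, hj, -⟩ := exists_incl d (isGE_rightAdjoint adj O hO d hd)
  refine ⟨pair adj O eO ((a.obj O).property _) j, fun F hF ψ => ?_⟩
  have hb : Function.Bijective fun φ : F ⟶ DCoh.HD (a.obj O).obj (-(d : ℤ)) => pair adj O eO hF (shHom φ d ≫ j) := by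
    refine (bijective_pair adj O eO hF).comp ((hj _ ?_).comp ?_)
    · exact DerivedCategory.TStructure.t.isLE_shift (DCoh.inD X F) 0 (d : ℤ) (-(d : ℤ)) (by omega)
    · exact Function.Bijective.comp ⟨(shiftFunctor (DCoh.D X) (d : ℤ)).map_injective,
        (shiftFunctor (DCoh.D X) (d : ℤ)).map_surjective⟩
        ⟨(DerivedCategory.singleFunctor X.Modules 0).map_injective,
          (DerivedCategory.singleFunctor X.Modules 0).map_surjective⟩
  have key : ∀ φ : F ⟶ DCoh.HD (a.obj O).obj (-(d : ℤ)),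
      pair adj O eO ((a.obj O).property _) j ∘ₗ Canon.HHlin k φ d = pair adj O eO hF (shHom φ d ≫ j) := fun φ =>
    LinearMap.ext fun x => (pair_natural adj O eO ((a.obj O).property _) hF φ j x).symm
  obtain ⟨φ, hφ⟩ := hb.2 ψ
  exact ⟨φ, (key φ).trans hφ, fun φ' h' => hb.1 (((key φ').symm.trans h').trans hφ.symm)⟩

end Duality

end Groth.Agent.H4RSH.SerreDual
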