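import Groth.Agent.H4RSH.GenericRank
import Groth.Agent.H4RSH.SerreCurve
import Groth.Agent.H10Coh.CurveTwist.Step
import Groth.Agent.H10Coh.FinType2
import Groth.Agent.H25Par.FiniteSupport
import Groth.Agent.H29Ref.Rational
import Groth.Agent.H29RR.FiniteSupport
import Groth.Agent.H11Ample.Global
import Groth.Agent.LeadVan.Vanishing
import Groth.Agent.H10Coh.FibreLift.MonoEpi

/-!
# Sub-modules containing all global sections on a curve
-/

set_option autoImplicit false
set_option linter.style.haveILetI false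
set_option linter.unusedSectionVars false
set_option backward.isDefEq.respectTransparency false
set_option maxHeartbeats 1000000
set_option synthInstance.maxHeartbeats 400000

universe u

open CategoryTheory CategoryTheory.Limits AlgebraicGeometry TopologicalSpace Opposite

namespace Groth.Agent.H4RSH.CurveGen

attribute [local instance 10000] H10Coh.hasSheafifyAb H10Coh.hasWeakSheafifyAb H10Coh.hasExtAb H10Coh.enoughInjAb

variable {X : Scheme.{u}} {L M N F : X.Modules}

/-- Modules with finitely many supporting closed points. -/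
def FinSupp (M : X.Modules) : Prop :=
  (CohB1.support M).Finite ∧ ∀ z ∈ CohB1.support M, IsClosed ({z} : Set X)

theorem FinSupp.of_subset (h : FinSupp M) (hs : CohB1.support N ⊆ CohB1.support M) : FinSupp N :=
  ⟨h.1.subset hs, fun z hz => h.2 z (hs hz)⟩

theorem finSupp_of_dim [AlgebraicGeometry.IsNoetherian X] (hM : Coh.IsCoh M)
    (hd : topologicalKrullDim (CohB1.support M) ≤ 0) : FinSupp M := by
  have hcl : IsClosed (CohB1.support M) := H10Coh.isClosed_support M hM.2
  haveI : QuasiSober (CohB1.support M) := hcl.isClosedEmbedding_subtypeVal.quasiSober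
  haveI : CompactSpace (CohB1.support M) := isCompact_iff_compactSpace.mp hcl.isCompact
  haveI : NoetherianSpace (CohB1.support M) := Topology.IsInducing.subtypeVal.noetherianSpace
  haveI := (H28Top.finite_discrete_of_dim_le_zero (X := CohB1.support M) hd).1
  refine ⟨Set.toFinite _, fun z hz => ?_⟩
  have h2 := (hcl.isClosedEmbedding_subtypeVal.isClosed_iff_image_isClosed).1
    (H28Top.isClosed_singleton_of_dim_le_zero hd (⟨z, hz⟩ : CohB1.support M))
  simpa using h2

theorem FinSupp.subsingleton_HH (h : FinSupp M) {p : ℕ} (hp : 0 < p) : Subsingleton (Coh.HH X M p) :=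
  H25Par.subsingleton_HH_of_finite_support M h.1 h.2 (fun _ hy => not_not.1 hy) hp

/-- A module with finite support and no global sections vanishes. -/
theorem FinSupp.isZero (h : FinSupp M) (h0 : Subsingleton Γ(M, ⊤)) : IsZero M := by
  refine H17.FPExt.isZero_of_stalk M fun x => subsingleton_of_forall_eq 0 fun v => ?_
  obtain ⟨U, hU, t, rfl⟩ := M.presheaf.exists_germ_eq v
  have hfl := H25Par.flasque_of_finite_support (H10Coh.sh M) h.1 h.2 fun y hy => not_not.1 hy
  obtain ⟨g, hg⟩ := hfl (le_top : U ≤ ⊤) t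
  rw [← hg, Subsingleton.elim (α := Γ(M, ⊤)) g 0]
  exact (congrArg _ (map_zero _)).trans (map_zero _)

theorem subsingleton_stalk_of_surjective (φ : M ⟶ N) (x : X) [Subsingleton (M.presheaf.stalk x)]
    (h : Function.Surjective (H06Mod.stalkLin φ x)) : Subsingleton (N.presheaf.stalk x) := h.subsingleton

theorem support_subset_of_epi (φ : M ⟶ N) [Epi φ] : CohB1.support N ⊆ CohB1.support M := by
  intro x hx
  by_contra h
  haveI : Subsingleton (M.presheaf.stalk x) := not_not.1 h
  exact hx (subsingleton_stalk_of_surjective φ x (H06Mod.surjective_stalk_of_epi φ x))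

theorem support_subset_of_mono (φ : M ⟶ N) [Mono φ] : CohB1.support M ⊆ CohB1.support N := by
  intro x hx
  by_contra h
  haveI : Subsingleton (N.presheaf.stalk x) := not_not.1 h
  exact hx (H10Coh.FibreLift.injective_stalkLin_of_mono φ x).subsingleton

/-- Left composite of an epimorphism by a vanishing map. -/
theorem epi_desc_of_epi (g : M ⟶ N) [Epi g] (q : M ⟶ L) [Epi q] (h : ∀ x : X, x ∉ CohB1.support N →
    ∀ v, H06Mod.stalkLin q x v = 0) : CohB1.support L ⊆ CohB1.support N := by
  intro x hx
  by_contra hN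
  refine hx (subsingleton_of_forall_eq 0 fun w => ?_)
  obtain ⟨v, rfl⟩ := H06Mod.surjective_stalk_of_epi q x w
  exact h x hN v

/-- The evaluation map on all global sections. -/
theorem exists_eval (F : X.Modules) :
    ∃ a : H10Coh.freeMod X Γ(F, ⊤) ⟶ F, ∀ g : Γ(F, ⊤),
      H10Coh.freeIncl (Γ(F, ⊤) : Type u) g ≫ a = H11Tilde.homOfGlobal F g :=
  H10Coh.exists_free_desc fun g => H11Tilde.homOfGlobal F g

theorem app_top_homOfGlobal (g : Γ(F, ⊤)) : (H11Tilde.homOfGlobal F g).app ⊤ (H11Ample.one ⊤) = g := by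
  refine (H11Tilde.homOfGlobal_app F g ⊤ _).trans ?_
  rw [show (show Γ(X, ⊤) from H11Ample.one ⊤) = 1 from rfl, one_smul]
  exact H10Coh.mres_self F _ _

/-- A sub-module through which evaluation factors contains all sections. -/
theorem surjective_app_top_of_factors {a : H10Coh.freeMod X Γ(F, ⊤) ⟶ F}
    (ha : ∀ g : Γ(F, ⊤), H10Coh.freeIncl (Γ(F, ⊤) : Type u) g ≫ a = H11Tilde.homOfGlobal F g)
    (i : M ⟶ F) (b : H10Coh.freeMod X Γ(F, ⊤) ⟶ M) (hb : b ≫ i = a) : Function.Surjective (i.app ⊤) := fun g => by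
  refine ⟨(H10Coh.freeIncl (Γ(F, ⊤) : Type u) g ≫ b).app ⊤ (H11Ample.one ⊤), ?_⟩
  have h : (H10Coh.freeIncl (Γ(F, ⊤) : Type u) g ≫ b) ≫ i = H11Tilde.homOfGlobal F g := by
    rw [Category.assoc, hb, ha]
  exact congr($(congrArg (fun k => Scheme.Modules.Hom.app k ⊤) h) _).trans (app_top_homOfGlobal g)

variable {k : Type u} [Field k] [X.Over (Spec (CommRingCat.of k))] [IsProper (X ↘ Spec (CommRingCat.of k))]

/-- Epimorphisms are surjective on the first cohomology of a curve. -/
theorem surjective_H1_of_epi [AlgebraicGeometry.IsNoetherian X] (hX : topologicalKrullDim X ≤ ((1 : ℕ) : WithBot ℕ∞))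
    (φ : M ⟶ N) [Epi φ] : Function.Surjective (Canon.HHlin k φ 1) := fun y => by
  haveI : Subsingleton (Coh.HH X (kernel φ) 2) :=
    LeadVan.subsingleton_H_of_dim_le 1 (by exact_mod_cast hX) _ 2 one_lt_two
  have hK : (ShortComplex.mk (kernel.ι φ) φ (kernel.condition φ)).ShortExact :=
    { exact := ShortComplex.exact_kernel _ }
  exact Abelian.Ext.covariant_sequence_exact₃ _ (H10Coh.shortExact_sh hK) y (n₁ := 2) rfl
    (Subsingleton.elim (α := Coh.HH X (kernel φ) 2) _ _)

/-- The image of the sections in those of a quotient has bounded codimension. -/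
theorem finrank_le_range_add (hX : topologicalKrullDim X ≤ 1) {S : ShortComplex X.Modules} (hS : S.ShortExact)
    (h₁ : Coh.IsCoh S.X₁) (h₂ : Coh.IsCoh S.X₂) (h₃ : Coh.IsCoh S.X₃) (h31 : Subsingleton (Coh.HH X S.X₃ 1)) :
    Module.finrank k (Coh.HH X S.X₃ 0) ≤
      Module.finrank k (LinearMap.range (Canon.HHlin k S.g 0)) + Module.finrank k (Coh.HH X S.X₁ 1) := by
  haveI := H29RR.isNoetherian_of_proper (k := k) (X := X)
  haveI := H10Coh.finite_HH_proper k X _ h₁ 0
  haveI := H10Coh.finite_HH_proper k X _ h₂ 0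
  have hadd := H25Euler.euler_add (k := k) hS h₁ h₂ h₃
  rw [H29RR.euler_eq_sub (k := k) hX, H29RR.euler_eq_sub (k := k) hX, H29RR.euler_eq_sub (k := k) hX,
    Module.finrank_zero_of_subsingleton (R := k) (M := Coh.HH X S.X₃ 1)] at hadd
  have h1 := LinearMap.finrank_range_add_finrank_ker (Canon.HHlin k S.g 0)
  haveI := hS.mono_f
  rw [H25Par.hhlin_exact (k := k) hS, LinearMap.finrank_range_of_inj (H29RR.hhlin_zero_injective (k := k) S.f)] at h1
  omega

/-- A sub-module with no first cohomology, containing all sections, with finitely supported quotient is everything. -/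
theorem isIso_of_sections [IsNoetherian X] (i : M ⟶ F) [Mono i] (hs : Function.Surjective (i.app ⊤))
    (h1 : Subsingleton (Coh.HH X M 1)) (hR : FinSupp (cokernel i)) : IsIso i := by
  have hS : (ShortComplex.mk i (cokernel.π i) (cokernel.condition i)).ShortExact :=
    { exact := ShortComplex.exact_cokernel _ }
  haveI : Epi i := by
    refine Abelian.epi_of_cokernel_π_eq_zero i ((hR.isZero ?_).eq_of_tgt _ _)
    refine subsingleton_of_forall_eq 0 fun r => ?_
    let x : Coh.HH X (cokernel i) 0 := (H10Coh.HH0Equiv (cokernel i)).symm r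
    obtain ⟨y, hy⟩ : ∃ y : Coh.HH X F 0, LeadFF.Hm (cokernel.π i) 0 y = x :=
      Abelian.Ext.covariant_sequence_exact₃ _ (H10Coh.shortExact_sh hS) x (n₁ := 1) rfl
        (Subsingleton.elim (α := Coh.HH X M 1) _ _)
    obtain ⟨m, hm⟩ := hs (H10Coh.HH0Equiv F y)
    rw [← (H10Coh.HH0Equiv (cokernel i)).apply_symm_apply r, show (H10Coh.HH0Equiv (cokernel i)).symm r = x from rfl,
      ← hy]
    refine (H28NT.HH0Equiv_map (cokernel.π i) _).trans ?_
    rw [← hm]
    exact congr($(congrArg (fun k => Scheme.Modules.Hom.app k ⊤) (cokernel.condition i)) m)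
  exact isIso_of_mono_of_epi i

end Groth.Agent.H4RSH.CurveGen
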