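import Groth.Agent.H4RSH.ProperField
import Groth.Agent.H29Fitt.Sheaf

/-!
# No sections of the dualizing module supported at closed points (curves)
-/

set_option autoImplicit false
set_option linter.style.haveILetI false
set_option linter.unusedSectionVars false
set_option backward.isDefEq.respectTransparency false
set_option maxHeartbeats 1000000
set_option synthInstance.maxHeartbeats 400000

universe u

open CategoryTheory CategoryTheory.Limits AlgebraicGeometry TopologicalSpace Opposite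
open Groth.Agent.H4DR.Dualizing (Loc loc)
open Groth.Agent.H4DR.Ext (Ex)

attribute [local instance] HasDerivedCategory.standard

namespace Groth.Agent.H4RSH.ProperLocal

/-- The maximal ideal is not associated to the top cohomology, in dimension at most one. -/
theorem eq_zero_of_annihilated {B : Type u} [CommRing B] [IsNoetherianRing B] (ω : Dual.D B) (m : PrimeSpectrum B)
    (hd : Dual.IsDualizing (Loc m) (loc ω m)) (hn : Dual.IsNormalized (Loc m) (loc ω m))
    (hdim : ringKrullDim (Loc m) ≤ ((1 : ℕ) : WithBot ℕ∞))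
    (v : LocalizedModule m.asIdeal.primeCompl (Dual.HD B ω (-((1 : ℕ) : ℤ))))
    (hv : ∀ P : Ideal (Loc m), P.IsPrime → P ≠ IsLocalRing.maximalIdeal (Loc m) → ∃ u ∉ P, u • v = 0) : v = 0 := by
  haveI : IsNoetherianRing (Loc m) := hd.isNoetherianRing
  haveI := hd.finite_cohomology (-((1 : ℕ) : ℤ))
  by_contra hv0
  have hne : Nontrivial (LocalizedModule m.asIdeal.primeCompl (Dual.HD B ω (-((1 : ℕ) : ℤ)))) :=
    nontrivial_of_ne v 0 hv0
  have hn' := (range_of_mem ω m hd hn hdim le_rfl (Module.mem_support_iff.2 hne)).2.2 rfl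
  have hM : Module.supportDim (Loc m) (Loc m) = ((1 : ℕ) : WithBot ℕ∞) :=
    (Module.supportDim_self_eq_ringKrullDim (R := Loc m)).trans hn'
  have hw : locHD ω m (-((1 : ℕ) : ℤ)) v ≠ 0 := fun h =>
    hv0 ((locHD ω m (-((1 : ℕ) : ℤ))).injective (h.trans (map_zero _).symm))
  obtain ⟨P, hP, hle⟩ := exists_le_isAssociatedPrime_of_isNoetherianRing (Loc m)
    (locHD ω m (-((1 : ℕ) : ℤ)) v) hw
  have hmem : P ∈ associatedPrimes (Loc m) (Dual.HD (Loc m) (loc ω m) (-((1 : ℕ) : ℤ))) := hP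
  rw [H4DR.Dualizing.associatedPrimes_top hd hn (Loc m) hM
    (H4DR.Ext.evalEquiv (loc ω m) (-((1 : ℕ) : ℤ))).symm] at hmem
  by_cases hmax : P = IsLocalRing.maximalIdeal (Loc m)
  · letI := Ideal.Quotient.field (IsLocalRing.maximalIdeal (Loc m))
    have h1 := hmem.2
    rw [hmax, ringKrullDim_eq_zero_of_field] at h1
    exact absurd (show ((0 : ℕ) : WithBot ℕ∞) = ((1 : ℕ) : WithBot ℕ∞) from h1) (by simp)
  · obtain ⟨u, hu, hu0⟩ := hv P hmem.1.isPrime hmax
    refine hu (hle (Submodule.mem_colon_singleton.2 ?_))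
    rw [Submodule.mem_bot, ← map_smul, hu0, map_zero]

variable {X : Scheme.{u}} {E : DCoh.D X}
  (hE : ∀ x₀ : X, IsClosed ({x₀} : Set X) → Nonempty (PtChart E x₀))
  (hX : topologicalKrullDim X ≤ ((1 : ℕ) : WithBot ℕ∞))

include hE hX in
theorem stalk_eq_zero_of_annihilated {x : X} (hx : IsClosed ({x} : Set X))
    (v : (DCoh.HD E (-((1 : ℕ) : ℤ))).presheaf.stalk x)
    (hv : ∀ P : Ideal (X.presheaf.stalk x), P.IsPrime → P ≠ IsLocalRing.maximalIdeal (X.presheaf.stalk x) →
      ∃ u ∉ P, u • v = 0) : v = 0 := by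
  obtain ⟨c⟩ := hE x hx
  have key : ∀ y : X, c.j.base c.m = y → ∀ v : (DCoh.HD E (-((1 : ℕ) : ℤ))).presheaf.stalk y,
      (∀ P : Ideal (X.presheaf.stalk y), P.IsPrime → P ≠ IsLocalRing.maximalIdeal (X.presheaf.stalk y) →
        ∃ u ∉ P, u • v = 0) → v = 0 := by
    rintro _ rfl v hv
    obtain ⟨φ, hφ, T, hT⟩ := exists_semilinear_HD_stalk c.j E c.ω c.e c.m (-((1 : ℕ) : ℤ))
    obtain ⟨v, rfl⟩ := T.surjective v
    refine (map_eq_zero_iff T T.injective).2
      (eq_zero_of_annihilated c.ω c.m c.dual c.norm (dim_loc_le c.j c.m hX) v fun P hP hPm => ?_)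
    by_cases hker : RingHom.ker φ ≤ P
    · haveI := hP
      obtain ⟨u, hu, hu0⟩ := hv (P.map φ) (Ideal.map_isPrime_of_surjective hφ hker) fun h => hPm <| by
        have h1 := Ideal.comap_map_of_surjective' φ hφ P
        rw [h, sup_eq_left.2 hker] at h1
        haveI : (IsLocalRing.maximalIdeal (X.presheaf.stalk (c.j.base c.m))).IsMaximal :=
          IsLocalRing.maximalIdeal.isMaximal _
        exact h1 ▸ IsLocalRing.eq_maximalIdeal (Ideal.comap_isMaximal_of_surjective φ hφ)
      obtain ⟨u', rfl⟩ := hφ u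
      refine ⟨u', fun h => hu (Ideal.mem_map_of_mem φ h), T.injective ?_⟩
      rw [hT, hu0, map_zero]
    · obtain ⟨z, hz, hzP⟩ := SetLike.not_le_iff_exists.1 hker
      refine ⟨z, hzP, T.injective ?_⟩
      rw [hT, show φ z = 0 from hz, zero_smul, map_zero]
  exact key x c.pt v hv

include hE hX in
/-- Sections of `H^{-1}` are determined away from closed points. -/
theorem injective_res (hq : Coh.IsQCoh (DCoh.HD E (-((1 : ℕ) : ℤ)))) (U : X.Opens)
    (hU : ∀ x : X, ¬ IsClosed ({x} : Set X) → x ∈ U) (V : X.Opens) :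
    Function.Injective
      ((DCoh.HD E (-((1 : ℕ) : ℤ))).presheaf.map (homOfLE (inf_le_left : V ⊓ U ≤ V)).op) := by
  intro s t hst
  let M := DCoh.HD E (-((1 : ℕ) : ℤ))
  have hgerm : ∀ (y : X) (hy : y ∈ V) (hyU : y ∈ U), M.presheaf.germ V y hy (s - t) = 0 := fun y hy hyU => by
    rw [map_sub, sub_eq_zero,
      ← TopCat.Presheaf.germ_res_apply M.presheaf (homOfLE (inf_le_left : V ⊓ U ≤ V)) y ⟨hy, hyU⟩ s,
      ← TopCat.Presheaf.germ_res_apply M.presheaf (homOfLE (inf_le_left : V ⊓ U ≤ V)) y ⟨hy, hyU⟩ t]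
    exact congrArg _ hst
  refine sub_eq_zero.1 (TopCat.Presheaf.section_ext ⟨M.presheaf, M.isSheaf⟩ V _ 0 fun x hx => ?_)
  show M.presheaf.germ V x hx (s - t) = M.presheaf.germ V x hx 0
  rw [map_zero]
  by_cases hxc : IsClosed ({x} : Set X)
  · obtain ⟨W, hW, hxW, hWV⟩ := exists_isAffineOpen_mem_and_subset (x := x) (U := V) hx
    let r : Γ(M, W) := M.presheaf.map (homOfLE hWV).op (s - t)
    letI := TopCat.Presheaf.algebra_section_stalk X.presheaf (⟨x, hxW⟩ : W)
    haveI := hW.isLocalization_stalk ⟨x, hxW⟩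
    rw [← TopCat.Presheaf.germ_res_apply M.presheaf (homOfLE hWV) x hxW (s - t)]
    refine stalk_eq_zero_of_annihilated hE hX hxc _ fun P hP hPm => ?_
    let q : PrimeSpectrum Γ(X, W) := PrimeSpectrum.comap (algebraMap Γ(X, W) (X.presheaf.stalk x)) ⟨P, hP⟩
    have hyW : hW.fromSpec.base q ∈ W := by
      have h : hW.fromSpec.base q ∈ Set.range hW.fromSpec.base := ⟨_, rfl⟩
      rwa [hW.range_fromSpec] at h
    have hqx : hW.primeIdealOf ⟨_, hyW⟩ = q :=
      hW.fromSpec.isOpenEmbedding.injective (hW.fromSpec_primeIdealOf _)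
    have hmax : (IsLocalRing.maximalIdeal (X.presheaf.stalk x)).comap (algebraMap Γ(X, W) (X.presheaf.stalk x)) =
        (hW.primeIdealOf ⟨x, hxW⟩).asIdeal :=
      IsLocalization.AtPrime.under_maximalIdeal (X.presheaf.stalk x) (hW.primeIdealOf ⟨x, hxW⟩).asIdeal
    have hne : hW.fromSpec.base q ≠ x := fun h => hPm <| by
      have h1 : q = hW.primeIdealOf ⟨x, hxW⟩ :=
        hqx.symm.trans (congrArg hW.primeIdealOf (Subtype.ext h))
      rw [← IsLocalization.map_under (hW.primeIdealOf ⟨x, hxW⟩).asIdeal.primeCompl (X.presheaf.stalk x) P,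
        ← IsLocalization.map_under (hW.primeIdealOf ⟨x, hxW⟩).asIdeal.primeCompl (X.presheaf.stalk x)
          (IsLocalRing.maximalIdeal (X.presheaf.stalk x))]
      exact congrArg (Ideal.map _) ((congrArg PrimeSpectrum.asIdeal h1).trans hmax.symm)
    have hspec : hW.fromSpec.base q ⤳ x := by
      have hle : q ≤ hW.primeIdealOf ⟨x, hxW⟩ :=
        (Ideal.comap_mono (IsLocalRing.le_maximalIdeal hP.ne_top)).trans_eq hmax
      have h := ((PrimeSpectrum.le_iff_specializes q (hW.primeIdealOf ⟨x, hxW⟩)).1 hle).map hW.fromSpec.continuous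
      rwa [hW.fromSpec_primeIdealOf] at h
    have hyU : hW.fromSpec.base q ∈ U := hU _ fun hc => hne (by
      have h := hspec.mem_closed hc rfl
      exact h.symm)
    have hr0 : M.presheaf.germ W _ hyW r = 0 := by
      show M.presheaf.germ W _ hyW (M.presheaf.map (homOfLE hWV).op (s - t)) = 0
      exact (TopCat.Presheaf.germ_res_apply M.presheaf (homOfLE hWV) _ hyW (s - t)).trans (hgerm _ (hWV hyW) hyU)
    obtain ⟨u, hu, hu0⟩ := H29Blow.exists_smul_eq_zero_of_germ M hq hW ⟨_, hyW⟩ r hr0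
    refine ⟨algebraMap Γ(X, W) (X.presheaf.stalk x) u, fun h => hu (by rw [hqx]; exact h), ?_⟩
    letI := Module.compHom (M.presheaf.stalk x) (algebraMap Γ(X, W) (X.presheaf.stalk x))
    exact ((H29Fitt.germLin M (⟨x, hxW⟩ : W)).map_smul u r).symm.trans
      ((congrArg _ hu0).trans (map_zero _))
  · exact hgerm x hx (hU x hxc)

end Groth.Agent.H4RSH.ProperLocal
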