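import Groth.Agent.H4RSH.SerreCurve
import Groth.Agent.H4RSH.ProperCurve
import Groth.Agent.H22Alg.SectionCut
import Groth.Agent.H22Alg.ESZConn
import Groth.Agent.H22Alg.GlobalFunctions
import Groth.Agent.H10Coh.Pn.Results
import Groth.Agent.H10Coh.FibreLift.MonoEpi
import Groth.Agent.H11Aff.GGNonvanish
import Groth.Agent.H17.PushColim
import Groth.Agent.H25Euler.Additive

/-!
# Sections of invertible modules and maps to the dualizing module
-/

set_option autoImplicit false
set_option linter.style.haveILetI false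
set_option linter.unusedSectionVars false
set_option backward.isDefEq.respectTransparency false
set_option maxHeartbeats 1000000
set_option synthInstance.maxHeartbeats 400000

universe u

open CategoryTheory CategoryTheory.Limits AlgebraicGeometry TopologicalSpace Opposite

namespace Groth.Agent.H4RSH.LineSection

variable {X : Scheme.{u}} {L M N : X.Modules}

theorem isIso_of_stalkLin (φ : M ⟶ N) (h : ∀ x : X, Function.Bijective (H06Mod.stalkLin φ x)) : IsIso φ :=
  H17.PushColim.isIso_of_stalkAb φ fun x => (ConcreteCategory.isIso_iff_bijective _).2 (h x)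

theorem eq_zero_of_stalkLin (φ : M ⟶ N) (h : ∀ (x : X) v, H06Mod.stalkLin φ x v = 0) : φ = 0 := by
  refine Scheme.Modules.hom_ext _ _ fun W => ?_
  ext t
  refine TopCat.Presheaf.section_ext ⟨N.presheaf, N.isSheaf⟩ W _ _ fun x hx => ?_
  show N.presheaf.germ W x hx (φ.app W t) = N.presheaf.germ W x hx ((0 : M ⟶ N).app W t)
  rw [← H06Mod.stalkLin_germ, h]
  exact (map_zero _).symm

/-- A retraction of a map between modules with isomorphic finite stalks is bijective. -/
theorem bijective_of_retraction {R P Q : Type*} [CommRing R] [AddCommGroup P] [Module R P] [AddCommGroup Q]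
    [Module R Q] [Module.Finite R P] (e : P ≃ₗ[R] Q) (a : P →ₗ[R] Q) (b : Q →ₗ[R] P)
    (h : Function.Bijective (b ∘ₗ a)) : Function.Bijective a ∧ Function.Bijective b := by
  have hb : Function.Surjective b := Function.Surjective.of_comp (g := a) h.2
  have hb' : Function.Bijective b := by
    have h1 := OrzechProperty.bijective_of_surjective_endomorphism (b ∘ₗ e.toLinearMap)
      (hb.comp e.surjective)
    exact (Function.Bijective.of_comp_iff _ e.bijective).1 h1
  refine ⟨?_, hb'⟩
  exact (Function.Bijective.of_comp_iff' hb' _).1 h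

theorem genLocus_eq_top_iso (s : Coh.structureModule X ⟶ L) (h : ∀ x : X, x ∈ CohB1.genLocus L s) : IsIso s :=
  isIso_of_stalkLin s fun x => by
    haveI := H25Euler.isIso_stalk_of_mem_genLocus s (h x)
    exact ConcreteCategory.bijective_of_isIso ((DerSch.stalkFunctor X x).map s)

/-- A generated module has, near every point, a generating global section. -/
theorem exists_gen_section (hL : PicF.IsInvertible L) (hgg : Curv2.IsGloballyGenerated L) (x : X) :
    ∃ s : Coh.structureModule X ⟶ L, x ∈ CohB1.genLocus L s := by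
  obtain ⟨V, e, hxV, he⟩ := H11Ample.exists_gen hL x
  obtain ⟨g, hg⟩ := H11Aff.exists_mem_gen_app hgg (𝟙 L) hxV e he
  exact ⟨_, hg⟩

theorem bijective_mul (s : Coh.structureModule X ⟶ L) (M : X.Modules) {x : X} (hx : x ∈ CohB1.genLocus L s) :
    Function.Bijective (H06Mod.stalkLin (H22Alg.SectionCut.mul s M) x) := by
  haveI := H22Alg.SectionCut.isIso_stalk_mul s M hx
  exact ConcreteCategory.bijective_of_isIso ((DerSch.stalkFunctor X x).map (H22Alg.SectionCut.mul s M))

theorem mem_genLocus_of_surjective (hL : PicF.IsInvertible L) (s : Coh.structureModule X ⟶ L) (M : X.Modules) (x : X)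
    [Module.Finite (X.presheaf.stalk x) (M.presheaf.stalk x)] [Nontrivial (M.presheaf.stalk x)]
    (h : Function.Surjective (H06Mod.stalkLin (H22Alg.SectionCut.mul s M) x))
    (e : M.presheaf.stalk x ≃ₗ[X.presheaf.stalk x] (CohB1.tensorMod M L).presheaf.stalk x) :
    x ∈ CohB1.genLocus L s := by
  rw [H11Ample.genLocus_eq_gen, H11Ample.mem_gen_iff hL]
  obtain ⟨V, g, hxV, hg⟩ := H11Ample.exists_gen hL x
  obtain ⟨c, hc⟩ := (hg x hxV).2 (H28Mero.sGerm L s x)
  obtain ⟨h1, -⟩ := H22Alg.SectionCut.stalk_mulHom_range s M (hg x hxV) hc.symm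
  have hu : IsUnit c := by
    by_contra hu
    have htop : (⊤ : Submodule (X.presheaf.stalk x) (M.presheaf.stalk x)) ≤
        IsLocalRing.maximalIdeal (X.presheaf.stalk x) • (⊤ : Submodule (X.presheaf.stalk x) (M.presheaf.stalk x)) := by
      intro v _
      obtain ⟨t, ht⟩ := h (e v)
      obtain ⟨b, hb⟩ := h1 t
      obtain ⟨b', rfl⟩ := e.surjective b
      have : v = c • b' := e.injective (ht.symm.trans (hb.trans (map_smul e c b').symm))
      rw [this]
      exact Submodule.smul_mem_smul ((IsLocalRing.mem_maximalIdeal _).2 hu) Submodule.mem_top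
    exact top_ne_bot (α := Submodule (X.presheaf.stalk x) (M.presheaf.stalk x))
      (Submodule.eq_bot_of_le_smul_of_le_jacobson_bot _ ⊤ Module.Finite.fg_top htop
        (IsLocalRing.maximalIdeal_le_jacobson _))
  obtain ⟨c', rfl⟩ := hu
  refine (congrArg Function.Bijective (funext fun r => ?_)).mp ((hg x hxV).comp (Units.mulRight c').bijective)
  show (r * (c' : X.presheaf.stalk x)) • _ = r • H28Mero.sGerm L s x
  rw [mul_smul]
  exact congrArg (r • ·) hc

/-- The endomorphisms of the structure module are multiplications by global functions. -/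
theorem isIso_or_eq_zero (hF : IsField Γ(X, ⊤)) (e : Coh.structureModule X ⟶ Coh.structureModule X) :
    IsIso e ∨ e = 0 := by
  let f : Γ(X, ⊤) := e.app ⊤ (H11Ample.one ⊤)
  have key : ∀ (x : X) v, H06Mod.stalkLin e x v =
      (X.presheaf.germ ⊤ x trivial f) • v := by
    intro x v
    obtain ⟨r, hr⟩ := (H11Ample.isGen_one (X := X) ⊤ x trivial).2 v
    rw [← hr, map_smul, H06Mod.stalkLin_germ, smul_comm]
    congr 1
    have hf : (e.app ⊤ (H11Ample.one ⊤)) = f • H11Ample.one ⊤ := (mul_one f).symm
    rw [hf]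
    exact H06Mod.germ_smul _ _ _ _ _
  by_cases hf : f = 0
  · exact Or.inr (eq_zero_of_stalkLin e fun x v => by rw [key, hf, map_zero, zero_smul])
  · obtain ⟨g, hg⟩ := hF.mul_inv_cancel hf
    refine Or.inl (isIso_of_stalkLin e fun x => ?_)
    obtain ⟨c, hc⟩ := (isUnit_iff_exists_inv.2 ⟨g, hg⟩).map (X.presheaf.germ ⊤ x trivial).hom
    refine (congrArg Function.Bijective (funext fun v => ?_)).mp
      (MulAction.bijective (β := (Coh.structureModule X).presheaf.stalk x) c)
    show c • v = _
    rw [key, Units.smul_def, hc]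

/-- Constant global functions give connectedness. -/
theorem connectedSpace_of_finrank {k : Type u} [Field k] [X.Over (Spec (CommRingCat.of k))]
    [IsProper (X ↘ Spec (CommRingCat.of k))]
    (h0 : Module.finrank k (Coh.HH X (Coh.structureModule X) 0) = 1) : ConnectedSpace X := by
  let f := X ↘ Spec (CommRingCat.of k)
  letI := H22Alg.GlobalFunctions.algΓ f
  let e : Coh.HH X (Coh.structureModule X) 0 ≃ₗ[k] Γ(X, ⊤) :=
    { H10Coh.HH0Equiv (Coh.structureModule X) with
      map_smul' := fun c x => (H10Coh.HH0Equiv_smul (Coh.structureModule X)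
        (f.appTop ((Scheme.ΓSpecIso (CommRingCat.of k)).inv c)) x).trans rfl }
  haveI : Nontrivial Γ(X, ⊤) := by
    haveI : Nontrivial (Coh.HH X (Coh.structureModule X) 0) :=
      Module.nontrivial_of_finrank_pos (R := k) (by omega)
    exact e.symm.toEquiv.nontrivial
  haveI : Nonempty X := by
    rcases isEmpty_or_nonempty X with hX | hX
    · exfalso
      haveI : Subsingleton Γ(X, ⊤) := CommRingCat.subsingleton_of_isTerminal
        (X.sheaf.isTerminalOfEqEmpty (eq_bot_iff.2 fun x _ => hX.elim x))
      exact false_of_nontrivial_of_subsingleton Γ(X, ⊤)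
    · exact hX
  refine connectedSpace_iff_clopen.2 ⟨inferInstance, fun s hs => ?_⟩
  let U : X.Opens := ⟨s, hs.isOpen⟩
  let V : X.Opens := ⟨sᶜ, hs.isClosed.isOpen_compl⟩
  let W : Bool → X.Opens := fun b => if b then U else V
  let sf : ∀ b, Γ(X, W b) := fun b => if b then 1 else 0
  obtain ⟨g, hg, -⟩ := X.sheaf.existsUnique_gluing' W ⊤
    (fun b => homOfLE le_top) (fun x _ => by
      by_cases hx : x ∈ s
      · exact Opens.mem_iSup.2 ⟨true, hx⟩
      · exact Opens.mem_iSup.2 ⟨false, hx⟩) sf (by
      rintro (_ | _) (_ | _) <;> first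
        | rfl
        | (refine @Subsingleton.elim _ (CommRingCat.subsingleton_of_isTerminal (X.sheaf.isTerminalOfEqEmpty ?_)) _ _
           exact eq_bot_iff.2 fun x hx => by simp [W, U, V] at hx))
  have hgU : X.presheaf.map (homOfLE (le_top : U ≤ ⊤)).op g = 1 := hg true
  have hgV : X.presheaf.map (homOfLE (le_top : V ≤ ⊤)).op g = 0 := hg false
  have hunit : ∀ x ∈ s, IsUnit (X.presheaf.germ ⊤ x trivial g) := fun x hx => by
    rw [← X.presheaf.germ_res_apply (homOfLE (le_top : U ≤ ⊤)) x hx g, hgU, map_one]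
    exact isUnit_one
  have hzero : ∀ x ∉ s, X.presheaf.germ ⊤ x trivial g = 0 := fun x hx => by
    rw [← X.presheaf.germ_res_apply (homOfLE (le_top : V ≤ ⊤)) x hx g, hgV, map_zero]
  obtain ⟨c, hc⟩ : ∃ c : k, algebraMap k Γ(X, ⊤) c = g := by
    have h1 : Module.finrank k Γ(X, ⊤) = 1 := e.finrank_eq ▸ h0
    obtain ⟨c, hc⟩ := (finrank_eq_one_iff_of_nonzero' (1 : Γ(X, ⊤)) one_ne_zero).1 h1 g
    exact ⟨c, (Algebra.algebraMap_eq_smul_one c).trans hc⟩
  by_cases hc0 : c = 0
  · exact Or.inl (Set.eq_empty_iff_forall_notMem.2 fun x hx => by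
      have := hunit x hx
      rw [← hc, hc0, map_zero, map_zero] at this
      exact not_isUnit_zero this)
  · refine Or.inr (Set.eq_univ_iff_forall.2 fun x => ?_)
    by_contra hx
    have h1 := ((Ne.isUnit hc0).map (algebraMap k Γ(X, ⊤))).map (X.presheaf.germ ⊤ x trivial).hom
    rw [hc] at h1
    exact not_isUnit_zero ((hzero x hx) ▸ h1)

theorem stalkLin_zero_apply (x : X) (v : M.presheaf.stalk x) : H06Mod.stalkLin (0 : M ⟶ N) x v = 0 := by
  obtain ⟨U, hU, a, rfl⟩ := M.presheaf.exists_germ_eq v
  rw [H06Mod.stalkLin_germ]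
  exact map_zero _

section cohomology

variable {k : Type u} [Field k] [X.Over (Spec (CommRingCat.of k))]

attribute [local instance 10000] H10Coh.hasSheafifyAb H10Coh.hasWeakSheafifyAb H10Coh.hasExtAb H10Coh.enoughInjAb

theorem HHlin_comp (a : L ⟶ M) (b : M ⟶ N) (r : ℕ) (x : Coh.HH X L r) :
    Canon.HHlin k (a ≫ b) r x = Canon.HHlin k b r (Canon.HHlin k a r x) :=
  (Formal.HHmap_comp _ _ r x).symm

theorem HHlin_id (r : ℕ) (x : Coh.HH X M r) : Canon.HHlin k (𝟙 M) r x = x :=
  (congrArg (fun v => Sheaf.H.map v r x) ((SheafOfModules.toSheaf X.ringCatSheaf).map_id M)).trans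
    (Sheaf.H.map_id_apply _)

theorem HHlin_zero (r : ℕ) (x : Coh.HH X M r) : Canon.HHlin k (0 : M ⟶ N) r x = 0 := by
  show Sheaf.H.map ((SheafOfModules.toSheaf X.ringCatSheaf).map (0 : M ⟶ N)) r x = 0
  rw [Functor.map_zero]
  simp [Sheaf.H.map]

end cohomology

end Groth.Agent.H4RSH.LineSection

namespace Groth.Agent.H4RSH.LineSection

variable {X : Scheme.{u}}

/-- On a connected Noetherian curve every component is one-dimensional. -/
theorem exists_component_dim_one [NoetherianSpace X] [ConnectedSpace X] (hX : topologicalKrullDim X = 1) {x : X}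
    (hx : IsClosed ({x} : Set X)) :
    ∃ Z ∈ irreducibleComponents X, topologicalKrullDim ↥Z = ((1 : ℕ) : WithBot ℕ∞) ∧ x ∈ Z := by
  by_contra! hne
  have hsing : ∀ Z ∈ irreducibleComponents X, x ∈ Z → Z = {x} := fun Z hZ hxZ => by
    by_contra hZx
    refine hne Z hZ ?_ hxZ
    refine le_antisymm (Topology.IsInducing.subtypeVal.topologicalKrullDim_le.trans hX.le) ?_
    obtain ⟨y, hy, hyx⟩ : ∃ y ∈ Z, y ≠ x := by
      by_contra! h
      exact hZx (Set.eq_singleton_iff_unique_mem.2 ⟨hxZ, h⟩)
    let a : IrreducibleCloseds ↥Z := ⟨{⟨x, hxZ⟩}, isIrreducible_singleton, by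
      have h := hx.preimage (continuous_subtype_val : Continuous (Subtype.val : ↥Z → X))
      convert h using 1
      ext z
      exact Subtype.ext_iff⟩
    haveI : IrreducibleSpace ↥Z := Subtype.irreducibleSpace hZ.1
    let b : IrreducibleCloseds ↥Z := ⟨Set.univ, IrreducibleSpace.isIrreducible_univ _, isClosed_univ⟩
    have hab : a < b := lt_of_le_of_ne (show (a : Set ↥Z) ≤ b from Set.subset_univ _) fun h => by
      have : (⟨y, hy⟩ : ↥Z) ∈ (a : Set ↥Z) := h ▸ Set.mem_univ _
      exact hyx (congrArg Subtype.val (Set.mem_singleton_iff.1 this))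
    exact Order.LTSeries.length_le_krullDim ((RelSeries.singleton _ a).snoc b hab)
  have hfin := NoetherianSpace.finite_irreducibleComponents (α := X)
  have hcompl : IsClosed ({x}ᶜ : Set X) := by
    have h : ({x}ᶜ : Set X) = ⋃ Z ∈ {Z ∈ irreducibleComponents X | x ∉ Z}, Z := by
      ext y
      simp only [Set.mem_compl_iff, Set.mem_singleton_iff, Set.mem_iUnion₂, Set.mem_setOf_eq]
      constructor
      · intro hyx
        refine ⟨irreducibleComponent y, ⟨irreducibleComponent_mem_irreducibleComponents y, fun hxZ => ?_⟩,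
          mem_irreducibleComponent⟩
        have := hsing _ (irreducibleComponent_mem_irreducibleComponents y) hxZ ▸ mem_irreducibleComponent (x := y)
        exact hyx this
      · rintro ⟨Z, ⟨-, hxZ⟩, hyZ⟩ rfl
        exact hxZ hyZ
    rw [h]
    exact (hfin.subset fun Z hZ => hZ.1).isClosed_biUnion fun Z hZ =>
      isClosed_of_mem_irreducibleComponents Z hZ.1
  rcases isClopen_iff.1 (show IsClopen ({x} : Set X) from ⟨hx, isClosed_compl_iff.1 hcompl⟩) with h | h
  · exact (Set.singleton_ne_empty x) h
  · haveI : Subsingleton X := Set.subsingleton_univ_iff.1 (h ▸ Set.subsingleton_singleton)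
    have h0 : topologicalKrullDim X ≤ 0 := iSup_le fun l => by
      by_contra hl
      have h1 : l 0 < l (Fin.last _) := l.strictMono (by
        rcases Nat.eq_zero_or_pos l.length with h0 | h0
        · simp [h0] at hl
        · exact Fin.lt_def.2 (by simpa using h0))
      exact h1.ne (IrreducibleCloseds.ext
        ((Subsingleton.eq_univ_of_nonempty (l 0).2.nonempty).trans
          (Subsingleton.eq_univ_of_nonempty (l (Fin.last _)).2.nonempty).symm))
    rw [hX] at h0
    exact absurd h0 (by decide)

end Groth.Agent.H4RSH.LineSection
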