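import Groth.Agent.H10Coh.SheafHom.Adj
import Groth.Agent.H10Coh.TwistExact
import Groth.Agent.H29Ref.EvalStalk
import Groth.Agent.H29Ref.DualStalk
import Groth.Agent.H4RSH.LineSection

/-!
# Biduality maps for an arbitrary target
-/

set_option autoImplicit false
set_option linter.style.haveILetI false
set_option linter.unusedSectionVars false
set_option backward.isDefEq.respectTransparency false
set_option maxHeartbeats 1000000
set_option synthInstance.maxHeartbeats 400000

universe u

open CategoryTheory CategoryTheory.Limits AlgebraicGeometry Opposite TopologicalSpace TensorProduct MonoidalCategory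
open Groth.Agent.H16Derived.KFlat.Stalk

namespace Groth.Agent.H4RSH.HomDual

variable {X : Scheme.{u}} (F G : X.Modules)

/-- Evaluation of the germs of homomorphisms at a germ. -/
noncomputable def evAt (x : X) :
    F.presheaf.stalk x →ₗ[X.presheaf.stalk x] RefHull.StalkHom (RefHull.homSh F G) G x where
  toFun v := (LinearMap.applyₗ v).comp (RefHull.evalStalk F G x)
  map_add' v w := LinearMap.ext fun θ => map_add (RefHull.evalStalk F G x θ) v w
  map_smul' a v := LinearMap.ext fun θ => map_smul (RefHull.evalStalk F G x θ) a v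

theorem evAt_apply (x : X) (v : F.presheaf.stalk x) (θ : (RefHull.homSh F G).presheaf.stalk x) :
    evAt F G x v θ = RefHull.evalStalk F G x θ v := rfl

/-- The biduality map on sections. -/
noncomputable def bidualFun (U : X.Opens) : Γ(F, U) →+ Γ(RefHull.homSh (RefHull.homSh F G) G, U) where
  toFun s := ⟨fun x => evAt F G x.1 (F.presheaf.germ U x.1 x.2 s), fun V i g x => by
    obtain ⟨W, hW, j, n, w⟩ := RefHull.isLocSect_of_mem g V (𝟙 V) (F.presheaf.map i.op s) x
    refine ⟨W, hW, j, n, fun y => ?_⟩
    have e := w y
    rw [TopCat.Presheaf.germ_res_apply] at e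
    rw [evAt_apply, RefHull.evalStalk_germ]
    exact e⟩
  map_zero' := Subtype.ext <| funext fun x => by
    simp only [map_zero]
    rfl
  map_add' s t := Subtype.ext <| funext fun x => by
    simp only [map_add]
    rfl

/-- The biduality map. -/
noncomputable def bidual : F ⟶ RefHull.homSh (RefHull.homSh F G) G :=
  ⟨PresheafOfModules.homMk
    { app := fun U => AddCommGrpCat.ofHom (bidualFun F G U.unop)
      naturality := fun {U V} i => by
        ext s
        refine Subtype.ext (funext fun x => ?_)
        change evAt F G x.1 _ = evAt F G x.1 _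
        exact congrArg _ (TopCat.Presheaf.germ_res_apply' F.presheaf i x.1 x.2 s) }
    (fun U r s => Subtype.ext <| funext fun x =>
      (congrArg (evAt F G x.1) (Mero.germ_smul F U.unop x.1 x.2 r s)).trans
        (map_smul (evAt F G x.1) _ _))⟩

theorem bidual_app_apply {U : X.Opens} (s : Γ(F, U)) (x : U) :
    ((bidual F G).app U s).1 x = evAt F G x.1 (F.presheaf.germ U x.1 x.2 s) := rfl

/-- The stalks of the biduality map are evaluations. -/
theorem evalStalk_bidual (x : X) (v : F.presheaf.stalk x) :
    RefHull.evalStalk (RefHull.homSh F G) G x (RefHull.stalkMapₗ (bidual F G) x v) = evAt F G x v := by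
  obtain ⟨U, hU, m, rfl⟩ := F.presheaf.exists_germ_eq v
  rw [RefHull.stalkMapₗ_germ, RefHull.evalStalk_germ, bidual_app_apply]

/-- The stalk of the biduality map is bijective when the module is reflexive with respect to `G_x`. -/
theorem bijective_stalk_bidual (x : X) (hF : CohB1.IsFP F) (hH : CohB1.IsFP (RefHull.homSh F G))
    (h : Function.Bijective fun v : F.presheaf.stalk x => (LinearMap.applyₗ v :
      RefHull.StalkHom F G x →ₗ[X.presheaf.stalk x] G.presheaf.stalk x)) :
    Function.Bijective (RefHull.stalkMapₗ (bidual F G) x) := by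
  have e1 := H29Ref.evalStalk_bijective F G hF x
  have e2 := H29Ref.evalStalk_bijective (RefHull.homSh F G) G hH x
  let E := (LinearEquiv.ofBijective (RefHull.evalStalk F G x) e1)
  have h2 : Function.Bijective fun v => RefHull.evalStalk (RefHull.homSh F G) G x (RefHull.stalkMapₗ (bidual F G) x v) := by
    have h3 : Function.Bijective fun l : RefHull.StalkHom F G x →ₗ[X.presheaf.stalk x] G.presheaf.stalk x =>
        l.comp E.toLinearMap := (LinearEquiv.congrLeft (G.presheaf.stalk x) (X.presheaf.stalk x) E.symm).bijective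
    refine (congrArg Function.Bijective (funext fun v => ?_)).mp (h3.comp h)
    exact (evalStalk_bidual F G x v).symm
  exact (e2.of_comp_iff' _).1 h2

/-- Over a field, finite spaces are reflexive with respect to a line. -/
theorem bijective_applyₗ_of_line {K : Type u} [Field K] {V W : Type u} [AddCommGroup V] [Module K V]
    [AddCommGroup W] [Module K W] [Module.Finite K V] (hW : Module.finrank K W = 1) :
    Function.Bijective fun v : V => (LinearMap.applyₗ v : (V →ₗ[K] W) →ₗ[K] W) := by
  haveI : Module.Finite K W := Module.finite_of_finrank_eq_succ hW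
  let e : W ≃ₗ[K] K := LinearEquiv.ofFinrankEq W K (hW.trans (Module.finrank_self K).symm)
  let f : V →ₗ[K] (V →ₗ[K] W) →ₗ[K] W := LinearMap.applyₗ
  have hinj : Function.Injective f := (injective_iff_map_eq_zero f).2 fun v hv => by
    refine (Module.forall_dual_apply_eq_zero_iff K v).1 fun l => ?_
    have h1 : e.symm (l v) = 0 := LinearMap.congr_fun hv (e.symm.toLinearMap ∘ₗ l)
    simpa using h1
  refine ⟨hinj, (LinearMap.injective_iff_surjective_of_finrank_eq_finrank ?_).1 hinj⟩
  rw [Module.finrank_linearMap, Module.finrank_linearMap, hW, mul_one, mul_one]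

/-- Tensor products of maps in the first variable, on products of sections. -/
theorem map_tensorSect_left {F' : X.Modules} (f : F ⟶ F') (N : X.Modules) (U : X.Opens) (m : Γ(F, U)) (n : Γ(N, U)) :
    (((DCoh.tensorBi (X := X)).map f).app N).app U (tensorSect U m n) = tensorSect U (f.app U m) n := by
  have h := (PresheafOfModules.sheafificationAdjunction (R := X.ringCatSheaf) (𝟙 X.ringCatSheaf.obj)).unit.naturality
    (MonoidalCategory.whiskerRight ((DCoh.toP (X := X)).map f) ((DCoh.toP (X := X)).obj N))
  exact (congr($(congr(PresheafOfModules.Hom.app $h (op U))).hom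
    ((show (CohB1.toPMod F).obj (op U) from m) ⊗ₜ (show (CohB1.toPMod N).obj (op U) from n)))).symm

/-- The map of tensor products induced by the biduality map. -/
noncomputable def bidualTensor (N : X.Modules) :
    tensor F N ⟶ tensor (RefHull.homSh (RefHull.homSh F G) G) N :=
  ((DCoh.tensorBi (X := X)).map (bidual F G)).app N

/-- Maps to `G` extend along the biduality map. -/
theorem exists_extend (N : X.Modules) (φ : tensor F N ⟶ G) :
    ∃ ψ, bidualTensor F G N ≫ ψ = φ := by
  refine ⟨H10Coh.SheafHom.uncurry (H10Coh.SheafHom.curry φ ≫ bidual (RefHull.homSh F G) G), ?_⟩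
  refine H10Coh.SheafHom.tensor_ext fun U m n => ?_
  rw [Scheme.Modules.Hom.comp_app, ConcreteCategory.comp_apply]
  rw [bidualTensor, map_tensorSect_left, H10Coh.SheafHom.uncurry_tensorSect]
  refine H29Ref.sec_ext G fun y hy => ?_
  rw [H29Ref.germ_toLin _ _ ⟨y, hy⟩]
  show ((bidual (RefHull.homSh F G) G).app U ((H10Coh.SheafHom.curry φ).app U n)).1 ⟨y, hy⟩ _ = _
  rw [bidual_app_apply, evAt_apply, RefHull.evalStalk_germ, bidual_app_apply, evAt_apply, RefHull.evalStalk_germ,
    H10Coh.SheafHom.curry_app, H10Coh.SheafHom.curryFun_apply, pair_germ, RefHull.stalkMapₗ_germ]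

/-! ### Sections of the sheaf Hom as morphisms -/

variable {F G}

/-- The morphism defined by a global section of the sheaf Hom. -/
noncomputable def homOfSec (g : Γ(RefHull.homSh F G, ⊤)) : F ⟶ G :=
  ⟨PresheafOfModules.homMk
    { app := fun W => AddCommGrpCat.ofHom
        (H29Ref.toLin ((RefHull.homSh F G).presheaf.map (homOfLE (le_top : W.unop ≤ ⊤)).op g)).toAddMonoidHom
      naturality := fun W W' i => by
        ext m
        refine H29Ref.sec_ext G fun y hy => ?_
        refine (H29Ref.germ_toLin _ _ ⟨y, hy⟩).trans ?_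
        refine Eq.trans ?_ (TopCat.Presheaf.germ_res_apply' G.presheaf i y hy _).symm
        refine Eq.trans ?_ (H29Ref.germ_toLin _ _ ⟨y, i.unop.le hy⟩).symm
        rw [← TopCat.Presheaf.germ_res_apply' F.presheaf i y hy m]
        rfl }
    (fun W r m => map_smul (H29Ref.toLin ((RefHull.homSh F G).presheaf.map (homOfLE (le_top : W.unop ≤ ⊤)).op g))
      (show Γ(X, W.unop) from r) (show Γ(F, W.unop) from m))⟩

theorem stalkMap_homOfSec (g : Γ(RefHull.homSh F G, ⊤)) (x : X) :
    RefHull.stalkMapₗ (homOfSec g) x = g.1 ⟨x, trivial⟩ := by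
  refine LinearMap.ext fun v => ?_
  obtain ⟨U, hU, m, rfl⟩ := F.presheaf.exists_germ_eq v
  rw [RefHull.stalkMapₗ_germ]
  exact H29Ref.germ_toLin _ _ ⟨x, hU⟩

theorem homOfSec_ofHom (φ : F ⟶ G) : homOfSec (RefHull.ofHom φ ⊤) = φ := by
  refine Scheme.Modules.hom_ext _ _ fun W => ?_
  ext m
  refine H29Ref.sec_ext G fun y hy => ?_
  rw [← RefHull.stalkMapₗ_germ (homOfSec (RefHull.ofHom φ ⊤)) y hy, stalkMap_homOfSec, RefHull.ofHom_apply,
    RefHull.stalkMapₗ_germ]

theorem homOfSec_injective : Function.Injective (homOfSec (F := F) (G := G)) := fun g g' h =>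
  Subtype.ext (funext fun x => by
    rw [← stalkMap_homOfSec g x.1, ← stalkMap_homOfSec g' x.1, h])

end Groth.Agent.H4RSH.HomDual
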