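import Groth.Agent.H4RSH.Generated
import Groth.Agent.H4RSH.HomDual
import Groth.Agent.H22Alg.NegTwist
import Groth.Agent.H22Alg.CurveProj
import Groth.Agent.H11Sym.InvertibleInverse
import Groth.Agent.H22Alg.ESZConn

/-!
# Biduality with respect to the dualizing module on an integral curve
-/

set_option autoImplicit false
set_option linter.style.haveILetI false
set_option linter.unusedSectionVars false
set_option backward.isDefEq.respectTransparency false
set_option maxHeartbeats 1000000
set_option synthInstance.maxHeartbeats 400000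

universe u

open CategoryTheory CategoryTheory.Limits AlgebraicGeometry TopologicalSpace Opposite
open Groth.Agent.H4RSH.CurveGen

namespace Groth.Agent.H4RSH.CurveBidual

attribute [local instance] HasDerivedCategory.standard
attribute [local instance 10000] H10Coh.hasSheafifyAb H10Coh.hasWeakSheafifyAb H10Coh.hasExtAb H10Coh.enoughInjAb

variable {X : Scheme.{u}} [AlgebraicGeometry.IsIntegral X] {F G M : X.Modules}

theorem isClosed_or_eq_generic [IsNoetherian X] (hdim : topologicalKrullDim X ≤ 1) (x : X) :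
    IsClosed ({x} : Set X) ∨ x = genericPoint X := by
  by_cases h : genericPoint X ∈ closure ({x} : Set X)
  · exact Or.inr ((specializes_iff_mem_closure.2 h).antisymm (genericPoint_specializes x)).eq
  · exact Or.inl ((H25Par.finite_of_isClosed_of_notMem hdim isClosed_closure h).2 x (subset_closure rfl))

theorem not_isClosed_generic (hdim : topologicalKrullDim X = 1) : ¬ IsClosed ({genericPoint X} : Set X) := by
  intro hcl
  have h1 : (Set.univ : Set X) ⊆ {genericPoint X} := by
    rw [← hcl.closure_eq, genericPoint_closure]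
  haveI : Subsingleton X := ⟨fun a b => (h1 (Set.mem_univ a)).trans (h1 (Set.mem_univ b)).symm⟩
  have h2 : topologicalKrullDim X ≤ 0 := iSup_le fun l => by
    by_contra hl
    have h3 : l 0 < l (Fin.last _) := l.strictMono (by
      rcases Nat.eq_zero_or_pos l.length with h0 | h0
      · simp [h0] at hl
      · exact Fin.lt_def.2 (by simpa using h0))
    exact h3.ne (IrreducibleCloseds.ext
      ((Subsingleton.eq_univ_of_nonempty (l 0).2.nonempty).trans
        (Subsingleton.eq_univ_of_nonempty (l (Fin.last _)).2.nonempty).symm))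
  rw [hdim] at h2
  exact absurd h2 (by decide)

theorem genInj_top [IsNoetherian X] (hdim : topologicalKrullDim X ≤ 1) {E : DCoh.D X}
    (hE : ∀ x₀ : X, IsClosed ({x₀} : Set X) → Nonempty (ProperLocal.PtChart E x₀))
    (hq : Coh.IsQCoh (DCoh.HD E (-((1 : ℕ) : ℤ)))) : GenInj (DCoh.HD E (-((1 : ℕ) : ℤ))) := by
  intro V hV m hm
  obtain ⟨U, hηU, i, i', hU⟩ := (DCoh.HD E (-((1 : ℕ) : ℤ))).presheaf.germ_eq (genericPoint X) hV hV m 0
    (hm.trans (map_zero _).symm)
  refine ProperLocal.injective_res hE (by exact_mod_cast hdim) hq U (fun x hx =>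
    ((isClosed_or_eq_generic hdim x).resolve_left hx).symm ▸ hηU) V ?_
  have hVU : V ⊓ U ≤ U := inf_le_right
  refine Eq.trans ?_ (map_zero ((DCoh.HD E (-((1 : ℕ) : ℤ))).presheaf.map (homOfLE (inf_le_left : V ⊓ U ≤ V)).op).hom).symm
  rw [show (homOfLE (inf_le_left : V ⊓ U ≤ V)) = homOfLE hVU ≫ i from Subsingleton.elim _ _, op_comp,
    Functor.map_comp, ConcreteCategory.comp_apply, hU, map_zero, map_zero]

theorem genInj_homSh (hG : GenInj G) : GenInj (RefHull.homSh F G) := fun U hU g hg => by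
  refine Subtype.ext (funext fun y => LinearMap.ext fun v => ?_)
  have hη : g.1 ⟨genericPoint X, hU⟩ = 0 := by
    rw [← RefHull.evalStalk_germ F G (genericPoint X) hU g, hg, map_zero]
  obtain ⟨W, hW, m, rfl⟩ := F.presheaf.exists_germ_eq v
  rw [← F.presheaf.germ_res_apply (homOfLE (inf_le_left : W ⊓ U ≤ W)) y.1 ⟨hW, y.2⟩]
  obtain ⟨n, hn, -⟩ := H29Ref.exists_eval ((RefHull.homSh F G).presheaf.map (homOfLE (inf_le_right : W ⊓ U ≤ U)).op g)
    (F.presheaf.map (homOfLE (inf_le_left : W ⊓ U ≤ W)).op m)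
  have hgen : genericPoint X ∈ W ⊓ U := (genericPoint_specializes y.1).mem_open (W ⊓ U).isOpen ⟨hW, y.2⟩
  have hn0 : n = 0 := hG _ hgen n (by
    rw [hn ⟨_, hgen⟩]
    exact congr($hη _))
  refine (hn ⟨y.1, hW, y.2⟩).symm.trans ?_
  rw [hn0, map_zero]
  rfl

theorem eq_zero_of_smul (hM : GenInj M) (x : X) (r : X.presheaf.stalk x) (v : M.presheaf.stalk x)
    (h : r • v = 0) : r = 0 ∨ v = 0 := by
  obtain ⟨U, hU, t, m, rfl, rfl⟩ := H06Mod.exists_germ_pair M x r v
  rw [← H06Mod.germ_smul] at h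
  obtain ⟨W, hxW, i, i', hW⟩ := M.presheaf.germ_eq x hU hU (t • m) 0 (h.trans (map_zero _).symm)
  have hηW : genericPoint X ∈ W := (genericPoint_specializes x).mem_open W.2 hxW
  have hηU : genericPoint X ∈ U := i.le hηW
  have h1 : X.presheaf.germ U _ hηU t • M.presheaf.germ U _ hηU m = 0 := by
    rw [← H06Mod.germ_smul, ← TopCat.Presheaf.germ_res_apply M.presheaf i _ hηW (t • m)]
    erw [hW]
    exact (congrArg _ (map_zero _)).trans (map_zero _)
  letI : Field (X.presheaf.stalk (genericPoint X)) := inferInstanceAs (Field X.functionField)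
  rcases smul_eq_zero.1 h1 with ht | hm
  · left
    haveI : Nonempty (U : X.Opens) := ⟨⟨_, hηU⟩⟩
    rw [germ_injective_of_isIntegral X (genericPoint X) hηU (ht.trans (map_zero _).symm), map_zero]
  · right
    rw [hM U hηU m hm, map_zero]

variable {k : Type u} [Field k] [X.Over (Spec (CommRingCat.of k))] [IsProper (X ↘ Spec (CommRingCat.of k))]

variable (k) in
include k in
theorem exists_twist_subsingleton [IsNoetherian X] (hdim : topologicalKrullDim X = 1) {P : X.Modules}
    (hP : Coh.IsCoh P) (hPg : GenInj P) :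
    ∃ N : X.Modules, PicF.IsInvertible N ∧ Subsingleton (Coh.HH X (CohB1.tensorMod P N) 0) := by
  obtain ⟨L, hL⟩ := H22Alg.CurveProj.exists_ample k X hdim.le
  obtain ⟨L', hL', ⟨e⟩⟩ := H11Sym.exists_inverse (H11Ample.isInvertible_of_isAmple hL)
  obtain ⟨n, hn⟩ := H22Alg.NegTwist.exists_subsingleton k hL (M := L')
    ⟨H10Coh.Tw.commIso L L' ≪≫ e⟩ hP fun x hx hcl => by
    obtain ⟨hpr, v, hv⟩ := hx
    have hne : IsLocalRing.maximalIdeal (X.presheaf.stalk x) ≠ ⊥ := fun hbot => by
      have h0 : ringKrullDim (X.presheaf.stalk x) = 0 := by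
        letI := ((IsLocalRing.isField_iff_maximalIdeal_eq).2 hbot).toField
        exact ringKrullDim_eq_zero_of_field _
      have hx' := (H12AlgSp.ringKrullDim_stalk_eq_zero_iff x).1 h0
      rw [genericPoints_eq_singleton] at hx'
      exact not_isClosed_generic hdim (hx' ▸ hcl)
    obtain ⟨r, hr, hr0⟩ := Submodule.exists_mem_ne_zero_of_ne_bot hne
    have hv0 : v ≠ 0 := fun h0 => hpr.ne_top (by
      rw [hv, h0]
      exact eq_top_iff.2 fun a _ => Ideal.le_radical (Submodule.mem_colon_singleton.2 (by simp)))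
    rw [hv] at hr
    obtain ⟨j, hj⟩ := hr
    rcases eq_zero_of_smul hPg x (r ^ j) v (by simpa using Submodule.mem_colon_singleton.1 hj) with h | h
    · exact hr0 (eq_zero_of_pow_eq_zero h)
    · exact hv0 h
  exact ⟨_, H11Ample.isInvertible_tensorPow hL' n, hn n le_rfl⟩

variable {ω : X.Modules} (t : Coh.HH X ω 1 →ₗ[k] k)
  (ht : ∀ G : X.Modules, Coh.IsQCoh G → ∀ ψ : Coh.HH X G 1 →ₗ[k] k,
    ∃! φ : G ⟶ ω, t ∘ₗ Canon.HHlin k φ 1 = ψ)

include ht in
/-- Extension of all maps to `ω` gives injectivity on the first cohomology. -/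
theorem eq_zero_of_extends {A B : X.Modules} (hA : Coh.IsQCoh A) (f : A ⟶ B)
    (h : ∀ φ : A ⟶ ω, ∃ ψ, f ≫ ψ = φ) (x : Coh.HH X A 1) (hx : Canon.HHlin k f 1 x = 0) : x = 0 := by
  haveI : Module.Projective k (Coh.HH X A 1) := Module.Projective.of_basis (Module.Basis.ofVectorSpace k _)
  refine (Module.forall_dual_apply_eq_zero_iff k x).1 fun l => ?_
  obtain ⟨φ, hφ, -⟩ := ht A hA l
  obtain ⟨ψ, rfl⟩ := h φ
  rw [← hφ, LinearMap.comp_apply, LineSection.HHlin_comp, hx, map_zero, map_zero]

include ht in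
/-- Biduality. -/
theorem isIso_bidual [IsNoetherian X] (hdim : topologicalKrullDim X = 1) (hω : Coh.IsCoh ω) (hωg : GenInj ω)
    (hω1 : ProperLocal.Cyclic (X.presheaf.stalk (genericPoint X)) (ω.presheaf.stalk (genericPoint X)))
    (hω0 : Nontrivial (ω.presheaf.stalk (genericPoint X))) (hF : Coh.IsCoh F) (hFg : GenInj F) :
    IsIso (HomDual.bidual F ω) := by
  have hH := H29Ref.isCoh_homSh F ω hF hω
  have hP := H29Ref.isCoh_homSh _ ω hH hω
  have hFp := H10Coh.isFP_of_isCoh _ hF
  have hHp := H10Coh.isFP_of_isCoh _ hH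
  have hPg : GenInj (RefHull.homSh (RefHull.homSh F ω) ω) := genInj_homSh hωg
  let β := HomDual.bidual F ω
  have hη : Function.Bijective (RefHull.stalkMapₗ β (genericPoint X)) := by
    refine HomDual.bijective_stalk_bidual F ω _ hFp hHp ?_
    letI : Field (X.presheaf.stalk (genericPoint X)) := inferInstanceAs (Field X.functionField)
    haveI := H29Ref.finite_stalk F hF.2 (genericPoint X)
    haveI := hω0
    obtain ⟨v, hv⟩ := hω1
    exact HomDual.bijective_applyₗ_of_line (le_antisymm (finrank_le_one v hv)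
      (haveI : Module.Finite (X.presheaf.stalk (genericPoint X)) (ω.presheaf.stalk (genericPoint X)) :=
        Module.Finite.of_surjective (LinearMap.toSpanSingleton _ _ v) hv
       Module.finrank_pos))
  haveI : Mono β := H11Tilde.mono_of_injective _ fun W m hm x hx => by
    refine ⟨W, le_rfl, hx, ?_⟩
    have hηW : genericPoint X ∈ W := (genericPoint_specializes x).mem_open W.isOpen hx
    rw [hFg W hηW m (hη.1 ?_), map_zero]
    rw [map_zero, RefHull.stalkMapₗ_germ, show β.app W m = 0 from hm, map_zero]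
  have hC : FinSupp (cokernel β) := by
    refine H25Par.finite_of_isClosed_of_notMem hdim.le
      (H10Coh.isClosed_support _ (H10Coh.isCoh_cokernel β hF.1 hP).2) fun h => h ?_
    refine subsingleton_of_forall_eq 0 fun c => ?_
    obtain ⟨v, rfl⟩ := H06Mod.surjective_stalk_of_epi (cokernel.π β) (genericPoint X) c
    obtain ⟨u, rfl⟩ := hη.2 v
    show H06Mod.stalkLin (cokernel.π β) _ (H06Mod.stalkLin β _ u) = 0
    rw [← H29Omega.stalkLin_comp, cokernel.condition, LineSection.stalkLin_zero_apply]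
  obtain ⟨N, hN, hN0⟩ := exists_twist_subsingleton k hdim hP hPg
  let T := (DCoh.tensorBi (X := X)).flip.obj N
  have hS : (ShortComplex.mk β (cokernel.π β) (cokernel.condition β)).ShortExact :=
    { exact := ShortComplex.exact_cokernel _ }
  have hS' := H16Derived.KFlat.Stalk.isFlatObj_of_isFlat
    (H16Derived.KFlat.Stalk.isFlat_of_isFinLocFree (H28Pinch.isFinLocFree_of_isInvertible hN)) _ hS
  have hFq : Coh.IsQCoh (CohB1.tensorMod F N) := (H11Ample.isCoh_tensor hF hN).1
  have hinj := eq_zero_of_extends t ht hFq (HomDual.bidualTensor F ω N) (HomDual.exists_extend F ω N)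
  have hCN : IsZero (CohB1.tensorMod (cokernel β) N) := by
    refine (hC.of_subset (H25Euler.support_tensor_subset (cokernel β) N)).isZero
      (subsingleton_of_forall_eq 0 fun g => ?_)
    let z : Coh.HH X (T.obj (cokernel β)) 0 := (H10Coh.HH0Equiv _).symm g
    have hδ : LeadFF.dl hS' 0 z = 0 := hinj _ (LeadFF.Hm_dl hS' 0 z)
    obtain ⟨y, hy⟩ := LeadFF.exists_Hm_g hS' 0 z hδ
    have hy0 : y = 0 := @Subsingleton.elim _ hN0 _ _
    rw [hy0, map_zero] at hy
    exact ((H10Coh.HH0Equiv _).apply_symm_apply g).symm.trans ((congrArg _ hy.symm).trans (map_zero _))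
  haveI : Epi β := Abelian.epi_of_cokernel_π_eq_zero β ((H17.FPExt.isZero_of_stalk _ fun x =>
    (H22Alg.ESZConn.subsingleton_tensor_stalk_iff hN (cokernel β) x).1
      (ModuleCat.subsingleton_of_isZero ((DerSch.stalkFunctor X x).map_isZero hCN))).eq_of_tgt _ _)
  exact isIso_of_mono_of_epi β

end Groth.Agent.H4RSH.CurveBidual

namespace Groth.Agent.H4RSH.CurveBidual

attribute [local instance] HasDerivedCategory.standard
attribute [local instance 10000] H10Coh.hasSheafifyAb H10Coh.hasWeakSheafifyAb H10Coh.hasExtAb H10Coh.enoughInjAb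

variable {X : Scheme.{u}} [AlgebraicGeometry.IsIntegral X]

theorem nontrivial_top_generic [CompactSpace X] {E : DCoh.D X}
    (hE : ∀ x₀ : X, IsClosed ({x₀} : Set X) → Nonempty (ProperLocal.PtChart E x₀))
    (hdim : topologicalKrullDim X = 1) :
    Nontrivial ((DCoh.HD E (-((1 : ℕ) : ℤ))).presheaf.stalk (genericPoint X)) := by
  refine (Set.ext_iff.1 (ProperLocal.support_top_eq hE (le_of_eq hdim)) (genericPoint X)).2
    (Set.mem_iUnion₂.2 ⟨Set.univ, ⟨?_, ?_⟩, trivial⟩)
  · exact (irreducibleComponents_eq_singleton (X := X)).ge rfl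
  · exact (Homeomorph.Set.univ X).isHomeomorph.topologicalKrullDim_eq.trans hdim

end Groth.Agent.H4RSH.CurveBidual

namespace Groth.Agent.H4RSH.CurveBidual

attribute [local instance] HasDerivedCategory.standard
attribute [local instance 10000] H10Coh.hasSheafifyAb H10Coh.hasWeakSheafifyAb H10Coh.hasExtAb H10Coh.enoughInjAb

variable {X : Scheme.{u}} {F ω : X.Modules} {k : Type u} [Field k] [X.Over (Spec (CommRingCat.of k))]
  [IsProper (X ↘ Spec (CommRingCat.of k))] (t : Coh.HH X ω 1 →ₗ[k] k)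
  (ht : ∀ G : X.Modules, Coh.IsQCoh G → ∀ ψ : Coh.HH X G 1 →ₗ[k] k,
    ∃! φ : G ⟶ ω, t ∘ₗ Canon.HHlin k φ 1 = ψ)

include ht in
/-- Serre duality in degree one. -/
theorem finrank_H1_eq [IsNoetherian X] (hF : Coh.IsCoh F) (hω : Coh.IsCoh ω) :
    Module.finrank k (Coh.HH X F 1) = Module.finrank k (Coh.HH X (RefHull.homSh F ω) 0) := by
  haveI := H10Coh.finite_HH_proper k X F hF 1
  let e0 := H10Coh.HH0Equiv (RefHull.homSh F ω)
  have hcst : ∀ (c : k) z, HomDual.homOfSec (e0 (c • z)) = HomDual.homOfSec (e0 z) ≫ Formal.smulMod k ω c := fun c z => by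
    refine Scheme.Modules.hom_ext _ _ fun W => ?_
    ext m
    refine H29Ref.sec_ext ω fun y hy => ?_
    rw [Scheme.Modules.Hom.comp_app, ConcreteCategory.comp_apply, ← RefHull.stalkMapₗ_germ _ y hy,
      ← RefHull.stalkMapₗ_germ _ y hy, ← RefHull.stalkMapₗ_germ _ y hy, HomDual.stalkMap_homOfSec,
      HomDual.stalkMap_homOfSec]
    have h1 : e0 (c • z) = (show Γ(X, ⊤) from Coh.toGlobal (X ↘ Spec (CommRingCat.of k)) c) • e0 z :=
      H10Coh.HH0Equiv_smul _ _ z
    rw [h1]
    generalize F.presheaf.germ W y hy m = v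
    obtain ⟨V, hV, n, hn⟩ := ω.presheaf.exists_germ_eq ((e0 z).1 ⟨y, trivial⟩ v)
    show X.presheaf.germ ⊤ y trivial _ • (e0 z).1 ⟨y, trivial⟩ v = _
    rw [← hn, RefHull.stalkMapₗ_germ, ← X.presheaf.germ_res_apply (homOfLE (le_top : V ≤ ⊤)) y hV]
    exact (H06Mod.germ_smul ω V hV _ n).symm
  have hadd : ∀ a b : Γ(RefHull.homSh F ω, ⊤),
      HomDual.homOfSec (a + b) = HomDual.homOfSec a + HomDual.homOfSec b := fun a b => by
    refine Scheme.Modules.hom_ext _ _ fun W => ?_
    ext m
    refine H29Ref.sec_ext ω fun y hy => ?_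
    show _ = ω.presheaf.germ W y hy ((HomDual.homOfSec a).app W m + (HomDual.homOfSec b).app W m)
    rw [map_add, ← RefHull.stalkMapₗ_germ _ y hy, ← RefHull.stalkMapₗ_germ _ y hy, ← RefHull.stalkMapₗ_germ _ y hy,
      HomDual.stalkMap_homOfSec, HomDual.stalkMap_homOfSec, HomDual.stalkMap_homOfSec]
    rfl
  let Φ : Coh.HH X (RefHull.homSh F ω) 0 →ₗ[k] Module.Dual k (Coh.HH X F 1) :=
    { toFun := fun z => t ∘ₗ Canon.HHlin k (HomDual.homOfSec (e0 z)) 1
      map_add' := fun a b => LinearMap.ext fun x => by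
        show t (LeadFF.Hm (HomDual.homOfSec (e0 (a + b))) 1 x) = _
        rw [map_add, hadd, LeadFF.Hm_add, map_add]
        rfl
      map_smul' := fun c z => LinearMap.ext fun x => by
        show t (LeadFF.Hm (HomDual.homOfSec (e0 (c • z))) 1 x) = c • t (LeadFF.Hm (HomDual.homOfSec (e0 z)) 1 x)
        rw [hcst, LeadFF.Hm_smulMod', map_smul] }
  have hb : Function.Bijective Φ := by
    constructor
    · intro a b hab
      refine e0.injective (HomDual.homOfSec_injective ((ht F hF.1 (Φ b)).unique hab rfl))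
    · intro l
      obtain ⟨φ, hφ, -⟩ := ht F hF.1 l
      refine ⟨e0.symm (RefHull.ofHom φ ⊤), ?_⟩
      show t ∘ₗ Canon.HHlin k (HomDual.homOfSec (e0 (e0.symm (RefHull.ofHom φ ⊤)))) 1 = l
      rw [AddEquiv.apply_symm_apply, HomDual.homOfSec_ofHom, hφ]
  rw [(LinearEquiv.ofBijective Φ hb).finrank_eq, Subspace.dual_finrank_eq]

end Groth.Agent.H4RSH.CurveBidual
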