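import Groth.Agent.H3Cyc.HomPull
import Groth.Agent.H17.FPExt.Closure

/-!
# The sheaf Hom out of a finitely presented module commutes with flat inverse images
-/

set_option autoImplicit false
set_option linter.style.haveILetI false
set_option linter.unusedSectionVars false
set_option maxHeartbeats 1000000
set_option synthInstance.maxHeartbeats 400000

universe u

open CategoryTheory CategoryTheory.Limits AlgebraicGeometry Opposite TopologicalSpace TensorProduct

namespace Groth.Agent.H4RSH.FlatHomPull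

open Groth.Agent Groth.Agent.H10Coh Groth.Agent.H10Coh.SheafHom
open Groth.Agent.H29Ref Groth.Agent.H10Coh.FBC H8Props.PullSections H3Cyc.HomPull

section Alg

variable {R : Type u} [CommRing R] {S : Type u} [CommRing S] [Algebra R S] [Module.Flat R S]
  {M N P Q : Type u} [AddCommGroup M] [Module R M] [AddCommGroup N] [Module R N]
  [AddCommGroup P] [Module R P] [Module S P] [IsScalarTower R S P]
  [AddCommGroup Q] [Module R Q] [Module S Q] [IsScalarTower R S Q]

theorem linearMapLeftRight_fp [Module.FinitePresentation R M] {α : M →ₗ[R] P} (j : IsBaseChange S α)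
    {β : N →ₗ[R] Q} (k : IsBaseChange S β) : IsBaseChange S (IsBaseChange.linearMapLeftRightHom j β) := by
  refine IsBaseChange.of_equiv ((Module.FinitePresentation.isBaseChange_map R M N S).equiv ≪≫ₗ
    j.equiv.arrowCongr k.equiv) fun f => LinearMap.ext fun p => ?_
  obtain ⟨z, rfl⟩ := j.equiv.surjective p
  induction z using TensorProduct.induction_on with
  | zero => simp
  | add a b ha hb => simp only [map_add, ha, hb]
  | tmul s m => simp [IsBaseChange.equiv_tmul]

end Alg

variable {X X' : Scheme.{u}} {F G : X.Modules}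

theorem exists_affine (W : X.Opens) (x : X) (hx : x ∈ W) : ∃ U, IsAffineOpen U ∧ x ∈ U ∧ U ≤ W :=
  exists_isAffineOpen_mem_and_subset hx

variable (q : X' ⟶ X) [F.IsQuasicoherent] [G.IsQuasicoherent]

/-- `q^* 𝓗om(F, G) ≅ 𝓗om(q^* F, q^* G)`, compatibly with morphisms. -/
theorem exists_pullIso [Flat q] (hF : CohB1.IsFP F) :
    ∃ c : qP q (RefHull.homSh F G) ≅ RefHull.homSh (qP q F) (qP q G), ∀ φ : F ⟶ G,
      c.hom.app ⊤ (OmegaSh.pullSect q (RefHull.homSh F G) ⊤ (RefHull.ofHom φ ⊤)) =
        RefHull.ofHom ((Scheme.Modules.pullback q).map φ) ⊤ := by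
  have hq := H29Fitt.isQCoh_pullback q F inferInstance
  obtain ⟨τ, hτ⟩ := H17.PrinOmega.exists_hom_of_basis (RefHull.homSh F G)
    ((Scheme.Modules.pushforward q).obj (RefHull.homSh (qP q F) (qP q G))) IsAffineOpen exists_affine
    (fun U hU => bcSec q hU) fun U U' hU hU' e f => by
      refine eq_of_pullLin q hU (fun y hy => e hy) _ _ fun m => ?_
      show toLin _ ((qP q F).presheaf.map _ (OmegaSh.pullSect q F U m)) =
        toLin ((RefHull.homSh (qP q F) (qP q G)).presheaf.map _ (bcSec q hU f))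
          ((qP q F).presheaf.map _ (OmegaSh.pullSect q F U m))
      refine Eq.trans ?_ (toLin_res (F := qP q F) (G := qP q G) (fun y hy => e hy) _ _).symm
      refine Eq.trans ?_ (congrArg ((qP q G).presheaf.map (homOfLE (fun y hy => e hy : q ⁻¹ᵁ U' ≤ q ⁻¹ᵁ U)).op)
        (bcSec_spec q hU f m)).symm
      refine (congrArg (toLin (F := qP q F) (G := qP q G) (U := q ⁻¹ᵁ U')
        (bcSec q hU' ((RefHull.homSh F G).presheaf.map (homOfLE e).op f)))
        (OmegaSh.pullSect_map q F e m).symm).trans ?_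
      refine (bcSec_spec q hU' _ _).trans ?_
      exact (congrArg (OmegaSh.pullSect q G U') (toLin_res e f m)).trans (OmegaSh.pullSect_map q G e _)
  let ψ := ((Scheme.Modules.pullbackPushforwardAdjunction q).homEquiv (RefHull.homSh F G)
    (RefHull.homSh (qP q F) (qP q G))).symm τ
  have hψ : (Scheme.Modules.pullbackPushforwardAdjunction q).unit.app (RefHull.homSh F G) ≫
      (Scheme.Modules.pushforward q).map ψ = τ :=
    ((Scheme.Modules.pullbackPushforwardAdjunction q).homEquiv_unit _ _ ψ).symm.trans (Equiv.apply_symm_apply _ τ)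
  have hψs : ∀ (V : X.Opens) (f : Γ(RefHull.homSh F G, V)),
      ψ.app (q ⁻¹ᵁ V) (OmegaSh.pullSect q _ V f) = τ.app V f := fun V f =>
    congr($(congrArg (fun k => Scheme.Modules.Hom.app k V) hψ) f)
  haveI : IsIso ψ := by
    haveI : IsIso ((shF X').map ψ) := by
      refine TopCat.Sheaf.isIso_iff_isIso_basis
        (B := fun i : {V' : X'.Opens // IsAffineOpen V' ∧ ∃ V : X.Opens, IsAffineOpen V ∧ V' ≤ q ⁻¹ᵁ V} => i.1)
        ?_ fun ⟨V', hV', V, hV, hle⟩ => (ConcreteCategory.isIso_iff_bijective _).2 ?_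
      · rw [Opens.isBasis_iff_nbhd]
        intro W x hx
        obtain ⟨V, hV, hxV, -⟩ := exists_affine (X := X) ⊤ (q.base x) trivial
        obtain ⟨V', hV', hxV', hle⟩ := exists_isAffineOpen_mem_and_subset (U := q ⁻¹ᵁ V ⊓ W) (x := x) ⟨hxV, hx⟩
        exact ⟨V', ⟨⟨V', hV', V, hV, fun y hy => (hle hy).1⟩, rfl⟩, hxV', fun y hy => (hle hy).2⟩
      letI := (q.appLE V V' hle).hom.toAlgebra
      letI := Module.compHom Γ(qP q F, V') (q.appLE V V' hle).hom
      letI := Module.compHom Γ(qP q G, V') (q.appLE V V' hle).hom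
      letI := Module.compHom Γ(qP q (RefHull.homSh F G), V') (q.appLE V V' hle).hom
      haveI : IsScalarTower Γ(X, V) Γ(X', V') Γ(qP q F, V') := .of_algebraMap_smul fun _ _ => rfl
      haveI : IsScalarTower Γ(X, V) Γ(X', V') Γ(qP q G, V') := .of_algebraMap_smul fun _ _ => rfl
      haveI : IsScalarTower Γ(X, V) Γ(X', V') Γ(qP q (RefHull.homSh F G), V') :=
        .of_algebraMap_smul fun _ _ => rfl
      haveI : Module.Flat Γ(X, V) Γ(X', V') := RingHom.flat_algebraMap_iff.1 (q.flat_appLE hV hV' hle)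
      haveI : Module.FinitePresentation Γ(X, V) Γ(F, V) := H17.FPExt.fpAt_of_isFP hF hV
      have jH := isBaseChange_pullLin q (RefHull.homSh F G) hle
        (isQCoh_homSh F G hF inferInstance) hV hV'
      have jF := isBaseChange_pullLin q F hle inferInstance hV hV'
      have k := isBaseChange_pullLin q G hle inferInstance hV hV'
      have L := linearMapLeftRight_fp jF k
      let e₀ : (Γ(X', V') ⊗[Γ(X, V)] Γ(RefHull.homSh F G, V)) ≃ₗ[Γ(X', V')]
          (Γ(X', V') ⊗[Γ(X, V)] (Γ(F, V) →ₗ[Γ(X, V)] Γ(G, V))) :=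
        (LinearEquiv.ofBijective _ (bijective_toLinₗ F G inferInstance hV)).baseChange _ Γ(X', V') _ _
      have key : ∀ z, toLinₗ (qP q F) (qP q G) V' (ψ.app V' (jH.equiv z)) = L.equiv (e₀ z) := fun z => by
        induction z using TensorProduct.induction_on with
        | zero => simp
        | add a b ha hb =>
          refine Eq.trans (b := toLinₗ (qP q F) (qP q G) V' (ψ.app V' (jH.equiv a)) +
            toLinₗ (qP q F) (qP q G) V' (ψ.app V' (jH.equiv b))) ?_ ?_
          · rw [map_add, map_add]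
            exact map_add _ _ _
          · rw [ha, hb, map_add, map_add]
        | tmul b f =>
          rw [IsBaseChange.equiv_tmul, Scheme.Modules.Hom.app_smul,
            show e₀ (b ⊗ₜ f) = b ⊗ₜ toLin f from rfl, IsBaseChange.equiv_tmul, map_smul]
          refine congrArg (b • ·) (ext_pullLin q hV hV' hle _ _ fun m => ?_)
          rw [IsBaseChange.linearMapLeftRightHom_comp_apply]
          show toLin (ψ.app V' ((qP q _).presheaf.map (homOfLE hle).op (OmegaSh.pullSect q _ V f)))
              ((qP q F).presheaf.map (homOfLE hle).op (OmegaSh.pullSect q F V m)) =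
            (qP q G).presheaf.map (homOfLE hle).op (OmegaSh.pullSect q G V (toLin f m))
          rw [H11Tilde.app_map_apply ψ hle, hψs V f, hτ V hV f]
          exact (toLin_res (F := qP q F) (G := qP q G) hle _ _).trans
            (congrArg ((qP q G).presheaf.map (homOfLE hle).op) (bcSec_spec q hV f m))
      have hb : Function.Bijective fun z => toLinₗ (qP q F) (qP q G) V' (ψ.app V' (jH.equiv z)) := by
        rw [funext key]
        exact L.equiv.bijective.comp e₀.bijective
      exact (Function.Bijective.of_comp_iff' (bijective_toLinₗ (qP q F) (qP q G) hq hV') _).1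
        ((Function.Bijective.of_comp_iff _ jH.equiv.bijective).1 hb)
    exact isIso_of_reflects_iso ψ (shF X')
  refine ⟨asIso ψ, fun φ => ?_⟩
  refine Subtype.ext (funext fun y => ?_)
  obtain ⟨U, hU, hxU, -⟩ := exists_affine (X := X) ⊤ (q.base y.1) trivial
  have h1 : (RefHull.homSh (qP q F) (qP q G)).presheaf.map (homOfLE (le_top : q ⁻¹ᵁ U ≤ ⊤)).op
      (ψ.app ⊤ (OmegaSh.pullSect q _ ⊤ (RefHull.ofHom φ ⊤))) =
      RefHull.ofHom ((Scheme.Modules.pullback q).map φ) (q ⁻¹ᵁ U) := by
    refine (H11Tilde.app_map_apply ψ (le_top : q ⁻¹ᵁ U ≤ ⊤) _).symm.trans ?_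
    refine (congrArg (ψ.app (q ⁻¹ᵁ U))
      (OmegaSh.pullSect_map q _ (le_top : U ≤ ⊤) _).symm).trans ?_
    refine ((hψs U _).trans (hτ U hU _)).trans ?_
    refine ((existsUnique_bcHom q hU _).choose_spec.2 _ fun m => ?_).symm
    rw [toLin_ofHom, ← H17.PullSect.pullSect_natural]
    exact congrArg (OmegaSh.pullSect q G U) (toLin_ofHom φ U m).symm
  exact congrFun (congrArg Subtype.val h1) ⟨y.1, hxU⟩

end Groth.Agent.H4RSH.FlatHomPull
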