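import Groth.Agent.H4RSH.CohBC
import Groth.Agent.H4RSH.FlatHomPull
import Groth.Agent.H4RSH.HomDual
import Groth.Agent.H4RSH.LineSection
import Groth.Prelude.Def_RelCanon
import Groth.Agent.H22Alg.GammaBC
import Groth.Agent.H23KS.EndProper
import Groth.Agent.H17.Canon.RDual
import Groth.Agent.H11Aff.CounitQAff
import Groth.Agent.H8Props.FieldDimFibre
import Mathlib.RingTheory.Flat.EquationalCriterion

/-!
# Dualizing sheaves commute with flat base change of the affine base
-/

set_option autoImplicit false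
set_option linter.style.haveILetI false
set_option linter.unusedSectionVars false
set_option maxHeartbeats 1000000
set_option synthInstance.maxHeartbeats 400000

universe u

open AlgebraicGeometry CategoryTheory CategoryTheory.Limits TopologicalSpace Opposite
open scoped TensorProduct

noncomputable section

namespace Groth.Agent.H4RSH.DualBC

open Groth.Agent.H10Coh Groth.Agent.LeadFF

attribute [local instance 10000] hasSheafifyAb hasWeakSheafifyAb hasExtAb enoughInjAb
attribute [local instance] enoughInjMod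

variable {A B : Type u} [CommRing A] [CommRing B] [Algebra A B] {Y Y' : Scheme.{u}}
  [Y.Over (Spec (CommRingCat.of A))] [Y'.Over (Spec (CommRingCat.of B))] {q : Y' ⟶ Y}
  (hsq : IsPullback q (Y' ↘ Spec (CommRingCat.of B)) (Y ↘ Spec (CommRingCat.of A))
    (Spec.map (CommRingCat.ofHom (algebraMap A B))))

theorem ofHom_homOfSec {F G : Y.Modules} (g : Γ(RefHull.homSh F G, ⊤)) :
    RefHull.ofHom (HomDual.homOfSec g) ⊤ = g :=
  HomDual.homOfSec_injective (HomDual.homOfSec_ofHom _)

theorem smulMod_add' {F : Y.Modules} (b b' : A) :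
    Formal.smulMod A F (b + b') = Formal.smulMod A F b + Formal.smulMod A F b' :=
  hom_ext_sections _ _ fun U m => by
    show _ = (Formal.smulMod A _ b).app U m + (Formal.smulMod A _ b').app U m
    rw [smulMod_app, smulMod_app, smulMod_app, map_add, add_smul]

theorem smulMod_zero' {F : Y.Modules} : Formal.smulMod A F (0 : A) = 0 :=
  hom_ext_sections _ _ fun U m => by
    rw [smulMod_app, map_zero, zero_smul]
    rfl

theorem smulMod_sum {F : Y.Modules} {ι : Type} (s : Finset ι) (b : ι → A) :
    Formal.smulMod A F (∑ i ∈ s, b i) = ∑ i ∈ s, Formal.smulMod A F (b i) := by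
  classical
  induction s using Finset.induction_on with
  | empty => rw [Finset.sum_empty, Finset.sum_empty, smulMod_zero']
  | insert i t hi ih => rw [Finset.sum_insert hi, Finset.sum_insert hi, smulMod_add', ih]

theorem smulMod_mul' {F : Y.Modules} (b b' : A) :
    Formal.smulMod A F (b * b') = Formal.smulMod A F b ≫ Formal.smulMod A F b' :=
  hom_ext_sections _ _ fun U m => by
    rw [Scheme.Modules.Hom.comp_app, ConcreteCategory.comp_apply, smulMod_app, smulMod_app, smulMod_app,
      mul_comm, map_mul, mul_smul]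

theorem Hm_zero' {X : Scheme.{u}} {M N : X.Modules} (r : ℕ) (x : Coh.HH X M r) : Hm (0 : M ⟶ N) r x = 0 :=
  left_eq_add.1 ((congrArg (fun f => Hm f r x) (add_zero (0 : M ⟶ N)).symm).trans (Hm_add 0 0 r x))

variable {G ω : Y.Modules} [G.IsQuasicoherent] [ω.IsQuasicoherent]

/-- Combinations of pulled back morphisms. -/
def Gen (ψ : (Scheme.Modules.pullback q).obj G ⟶ (Scheme.Modules.pullback q).obj ω) : Prop :=
  ∃ (n : ℕ) (φ : Fin n → (G ⟶ ω)) (b : Fin n → B),
    ψ = ∑ i, (Scheme.Modules.pullback q).map (φ i) ≫ Formal.smulMod B _ (b i)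

include hsq in
/-- Every morphism of the pullbacks is a combination of pulled back morphisms. -/
theorem gen_all [Module.Flat A B] [CompactSpace Y] [QuasiSeparatedSpace Y] (hG : CohB1.IsFP G)
    (ψ : (Scheme.Modules.pullback q).obj G ⟶ (Scheme.Modules.pullback q).obj ω) : Gen (B := B) ψ := by
  haveI : Flat q := MorphismProperty.of_isPullback (P := @Flat) hsq.flip
    (Flat.SpecMap_iff.2 (RingHom.flat_algebraMap_iff.2 inferInstance))
  haveI : QuasiCompact (Y ↘ Spec (CommRingCat.of A)) := (quasiCompact_iff_compactSpace _).2 inferInstance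
  haveI : QuasiSeparated (Y ↘ Spec (CommRingCat.of A)) := (quasiSeparated_iff_quasiSeparatedSpace _).2 inferInstance
  let H := RefHull.homSh G ω
  have hH : Coh.IsQCoh H := H29Ref.isQCoh_homSh G ω hG inferInstance
  obtain ⟨c, hc⟩ := FlatHomPull.exists_pullIso q (G := ω) hG
  let Good : AddSubgroup Γ((Scheme.Modules.pullback q).obj H, (⊤ : Y'.Opens)) :=
    AddSubgroup.closure (Set.range fun p : B × Γ(H, (⊤ : Y.Opens)) =>
      (Formal.smulMod B ((Scheme.Modules.pullback q).obj H) p.1).app ⊤ (OmegaSh.pullSect q H ⊤ p.2))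
  have hpush := H22Alg.GammaBC.isPushout_global hsq
  have hsmul : ∀ (s : Γ(Y', ⊤)) (m : Γ(H, (⊤ : Y.Opens))),
      (s • (show Γ((Scheme.Modules.pullback q).obj H, (⊤ : Y'.Opens)) from OmegaSh.pullSect q H ⊤ m)) ∈ Good := by
    intro s
    letI := (Y ↘ Spec (CommRingCat.of A)).appTop.hom.toAlgebra
    letI := (Spec.map (CommRingCat.ofHom (algebraMap A B))).appTop.hom.toAlgebra
    letI := (Y' ↘ Spec (CommRingCat.of B)).appTop.hom.toAlgebra
    letI := q.appTop.hom.toAlgebra
    letI := ((Y ↘ Spec (CommRingCat.of A)).appTop ≫ q.appTop).hom.toAlgebra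
    haveI : IsScalarTower Γ(Spec (CommRingCat.of A), ⊤) Γ(Spec (CommRingCat.of B), ⊤) Γ(Y', ⊤) :=
      .of_algebraMap_eq fun r => congr($(hpush.w) r)
    haveI : IsScalarTower Γ(Spec (CommRingCat.of A), ⊤) Γ(Y, ⊤) Γ(Y', ⊤) := .of_algebraMap_eq fun r => rfl
    have hp : Algebra.IsPushout Γ(Spec (CommRingCat.of A), ⊤) Γ(Spec (CommRingCat.of B), ⊤) Γ(Y, ⊤) Γ(Y', ⊤) :=
      CommRingCat.isPushout_iff_isPushout.1 hpush.flip
    suffices ∀ (b : B) (m : Γ(H, (⊤ : Y.Opens))),
        ((LeadFF.scal (Y' ↘ Spec (CommRingCat.of B)) ⊤ b * s) •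
          (show Γ((Scheme.Modules.pullback q).obj H, (⊤ : Y'.Opens)) from OmegaSh.pullSect q H ⊤ m)) ∈ Good by
      intro m
      simpa only [map_one, one_mul] using this 1 m
    induction s using hp.out.inductionOn with
    | zero => intro b m; rw [mul_zero, zero_smul]; exact zero_mem _
    | add s t hs ht => intro b m; rw [mul_add, add_smul]; exact add_mem (hs b m) (ht b m)
    | tmul r =>
      intro b m
      refine AddSubgroup.subset_closure ⟨(b, r • m), ?_⟩
      show (Formal.smulMod B _ b).app ⊤ (OmegaSh.pullSect q H ⊤ (r • m)) = _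
      rw [smulMod_app, mul_smul]
      exact congrArg (_ • ·) (OmegaSh.pullSect_smul q H ⊤ r m)
    | smul b' s ih =>
      intro b m
      obtain ⟨b'', rfl⟩ := (Scheme.ΓSpecIso (CommRingCat.of B)).symm.commRingCatIsoToRingEquiv.surjective b'
      rw [Algebra.smul_def, ← mul_assoc]
      have e : LeadFF.scal (Y' ↘ Spec (CommRingCat.of B)) ⊤ b *
          algebraMap Γ(Spec (CommRingCat.of B), ⊤) Γ(Y', ⊤)
            ((Scheme.ΓSpecIso (CommRingCat.of B)).symm.commRingCatIsoToRingEquiv b'') =
          LeadFF.scal (Y' ↘ Spec (CommRingCat.of B)) ⊤ (b * b'') := by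
        rw [map_mul]
        refine congrArg (_ * ·) ?_
        show _ = Y'.presheaf.map (homOfLE le_top).op _
        rw [show (homOfLE (le_top : (⊤ : Y'.Opens) ≤ ⊤)).op = 𝟙 _ from rfl, CategoryTheory.Functor.map_id]
        rfl
      rw [e]
      exact ih (b * b'') m
  have hall : ∀ σ, σ ∈ Good := fun σ => by
    have hσ := H22Alg.GGDescent.global_mem_span hsq H hH σ
    suffices ∀ s : Γ(Y', (⊤ : Y'.Opens)), s • σ ∈ Good by simpa only [one_smul] using this 1
    induction hσ using Submodule.span_induction with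
    | mem x hx => obtain ⟨m, rfl⟩ := hx; exact fun s => hsmul s m
    | zero => intro s; rw [smul_zero]; exact zero_mem _
    | add x y _ _ hx hy => intro s; rw [smul_add]; exact add_mem (hx s) (hy s)
    | smul r x _ hx => intro s; rw [smul_smul]; exact hx (s * r)
  have hadd : ∀ g g' : Γ(RefHull.homSh ((Scheme.Modules.pullback q).obj G) ((Scheme.Modules.pullback q).obj ω), ⊤),
      HomDual.homOfSec (g + g') = HomDual.homOfSec g + HomDual.homOfSec g' := fun g g' => by
    conv_lhs => rw [← ofHom_homOfSec g, ← ofHom_homOfSec g', ← H23KS.ofHom_add, HomDual.homOfSec_ofHom]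
  have key : ∀ σ ∈ Good, Gen (B := B) (HomDual.homOfSec (c.hom.app ⊤ σ)) := by
    intro σ hσ
    induction hσ using AddSubgroup.closure_induction with
    | mem x hx =>
      obtain ⟨⟨b, m⟩, rfl⟩ := hx
      refine ⟨1, fun _ => HomDual.homOfSec m, fun _ => b, ?_⟩
      rw [Fin.sum_univ_one]
      refine Eq.trans (congrArg HomDual.homOfSec ?_) (HomDual.homOfSec_ofHom _)
      rw [H23KS.ofHom_comp_smulMod, ← hc, ofHom_homOfSec]
      exact congr($(congr(Scheme.Modules.Hom.app $(LeadFF.smulMod_natural c.hom b) ⊤)) (OmegaSh.pullSect q H ⊤ m)).symm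
    | zero =>
      refine ⟨0, Fin.elim0, Fin.elim0, ?_⟩
      have h := hadd 0 0
      rw [add_zero] at h
      rw [map_zero, Finset.univ_eq_empty, Finset.sum_empty]
      exact left_eq_add.1 h
    | add x y _ _ hx hy =>
      obtain ⟨n, φ, b, hx⟩ := hx
      obtain ⟨n', φ', b', hy⟩ := hy
      refine ⟨n + n', Fin.append φ φ', Fin.append b b', ?_⟩
      rw [map_add, hadd, hx, hy, Fin.sum_univ_add]
      simp only [Fin.append_left, Fin.append_right]
    | neg x _ hx =>
      obtain ⟨n, φ, b, hx⟩ := hx
      refine ⟨n, fun i => -φ i, b, ?_⟩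
      have h := hadd (c.hom.app ⊤ (-x)) (c.hom.app ⊤ x)
      rw [← map_add, neg_add_cancel, map_zero] at h
      have h0 : HomDual.homOfSec (0 : Γ(RefHull.homSh ((Scheme.Modules.pullback q).obj G)
          ((Scheme.Modules.pullback q).obj ω), ⊤)) = 0 := by
        have h' := hadd 0 0
        rw [add_zero] at h'
        exact left_eq_add.1 h'
      rw [h0] at h
      rw [eq_neg_of_add_eq_zero_left h.symm, hx]
      haveI : (Scheme.Modules.pullback q).Additive :=
        (Scheme.Modules.pullbackPushforwardAdjunction q).left_adjoint_additive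
      simp only [Functor.map_neg, Preadditive.neg_comp, Finset.sum_neg_distrib]
  obtain ⟨σ, hσ⟩ := (ConcreteCategory.bijective_of_isIso (c.hom.app ⊤)).2 (RefHull.ofHom ψ ⊤)
  have := key σ (hall σ)
  rwa [hσ, HomDual.homOfSec_ofHom] at this

variable {d : ℕ} (tr : Coh.HH Y ω d →ₗ[A] A)

include hsq in
/-- The trace after base change. -/
theorem exists_trace [Module.Flat A B] [CompactSpace Y] [QuasiSeparatedSpace Y] [IsAffineHom q] :
    ∃ t : Coh.HH Y' ((Scheme.Modules.pullback q).obj ω) d →ₗ[B] B, ∀ (b : B) (x : Coh.HH Y ω d),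
      t (CohBC.P A B hsq ω d (b ⊗ₜ x)) = b * algebraMap A B (tr x) := by
  let e := AddEquiv.ofBijective (CohBC.P A B hsq ω d) (CohBC.bijective_P A B hsq ω d)
  let T : B ⊗[A] Coh.HH Y ω d →ₗ[B] B := (Algebra.linearMap A B ∘ₗ tr).liftBaseChange B
  have hT : ∀ b x, T (b ⊗ₜ x) = b * algebraMap A B (tr x) := fun b x => by simp [T]
  have he : ∀ (c : B) z, e (c • z) = c • e z := fun c z => by
    induction z using TensorProduct.induction_on with
    | zero => rw [smul_zero, map_zero, smul_zero]
    | add x y hx hy => rw [smul_add, map_add, map_add, smul_add, hx, hy]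
    | tmul b x =>
      rw [TensorProduct.smul_tmul', smul_eq_mul]
      exact CohBC.P_smul A B hsq ω d b c x
  refine ⟨{ toFun := fun y => T (e.symm y), map_add' := fun y y' => by rw [map_add, map_add],
            map_smul' := fun c y => ?_ }, fun b x => ?_⟩
  · obtain ⟨z, rfl⟩ := e.surjective y
    rw [← he, e.symm_apply_apply, e.symm_apply_apply, map_smul]
    rfl
  · show T (e.symm (e (b ⊗ₜ x))) = _
    rw [e.symm_apply_apply, hT]

include hsq in
/-- Representability at pulled back coherent modules. -/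
theorem repDual_pullback [IsNoetherianRing A] [Module.Flat A B] [IsProper (Y ↘ Spec (CommRingCat.of A))]
    [IsLocallyNoetherian Y] [CompactSpace Y] [QuasiSeparatedSpace Y] [IsAffineHom q]
    (htr : H29Serre.RepDual tr G) (hG : Coh.IsCoh G) (t : Coh.HH Y' ((Scheme.Modules.pullback q).obj ω) d →ₗ[B] B)
    (ht : ∀ (b : B) (x : Coh.HH Y ω d), t (CohBC.P A B hsq ω d (b ⊗ₜ x)) = b * algebraMap A B (tr x)) :
    H29Serre.RepDual t ((Scheme.Modules.pullback q).obj G) := by
  classical
  haveI := H10Coh.finite_HH_proper A Y G hG d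
  haveI : Module.FinitePresentation A (Coh.HH Y G d) := Module.finitePresentation_of_finite _ _
  haveI : (Scheme.Modules.pullback q).Additive :=
    (Scheme.Modules.pullbackPushforwardAdjunction q).left_adjoint_additive
  let P := CohBC.P A B hsq G d
  have hP := CohBC.bijective_P A B hsq G d
  let h : (G ⟶ ω) → (Coh.HH Y G d →ₗ[A] A) := fun φ => tr ∘ₗ _root_.Canon.HHlin A φ d
  have hval : ∀ (φ : G ⟶ ω) (b b' : B) (x : Coh.HH Y G d),
      t (Hm ((Scheme.Modules.pullback q).map φ ≫ Formal.smulMod B _ b) d (P (b' ⊗ₜ x))) =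
        b * (b' * algebraMap A B (h φ x)) := fun φ b b' x => by
    rw [Hm_smulMod', map_smul, smul_eq_mul, ← CohBC.P_natural A B hsq G φ d b' x, ht]
    rfl
  have hsum : ∀ {n : ℕ} (φ : Fin n → (G ⟶ ω)) (b : Fin n → B) (b' : B) (x : Coh.HH Y G d),
      t (Hm (∑ i, (Scheme.Modules.pullback q).map (φ i) ≫ Formal.smulMod B _ (b i)) d (P (b' ⊗ₜ x))) =
        ∑ i, b i * (b' * algebraMap A B (h (φ i) x)) := fun {n} φ b b' x => by
    have hF : ∀ (s : Finset (Fin n)) (f : Fin n → ((Scheme.Modules.pullback q).obj G ⟶ (Scheme.Modules.pullback q).obj ω))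
        (z : Coh.HH Y' ((Scheme.Modules.pullback q).obj G) d), Hm (∑ i ∈ s, f i) d z = ∑ i ∈ s, Hm (f i) d z := by
      intro s f z
      induction s using Finset.induction_on with
      | empty => rw [Finset.sum_empty, Finset.sum_empty]; exact Hm_zero' d z
      | insert i s hi ih => rw [Finset.sum_insert hi, Finset.sum_insert hi, Hm_add, ih]
    rw [hF, map_sum]
    exact Finset.sum_congr rfl fun i _ => hval _ _ _ _
  intro l
  let hl : Coh.HH Y G d →ₗ[A] B :=
    { toFun := fun x => l (P ((1 : B) ⊗ₜ x))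
      map_add' := fun x y => by rw [TensorProduct.tmul_add, map_add, map_add]
      map_smul' := fun a x => by
        rw [TensorProduct.tmul_smul, TensorProduct.smul_tmul', Algebra.smul_def, CohBC.P_smul A B hsq G d 1
          (algebraMap A B a), map_smul, smul_eq_mul, RingHom.id_apply, Algebra.smul_def] }
  have hext : ∀ l' : Coh.HH Y' ((Scheme.Modules.pullback q).obj G) d →ₗ[B] B,
      (∀ x, l' (P ((1 : B) ⊗ₜ x)) = hl x) → l = l' := fun l' h' => by
    refine LinearMap.ext fun y => ?_
    obtain ⟨z, rfl⟩ := hP.2 y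
    induction z using TensorProduct.induction_on with
    | zero => simp only [map_zero]
    | add u v hu hv => simp only [map_add, hu, hv]
    | tmul b x =>
      rw [← mul_one b, CohBC.P_smul A B hsq G d 1 b x, map_smul, map_smul]
      exact congrArg (b • ·) (h' x).symm
  obtain ⟨n, h0, g, hg⟩ := Module.Flat.exists_factorization_of_finitePresentation hl
  choose φ hφ hφu using fun ψ => htr ψ
  have hhφ : ∀ ψ, h (φ ψ) = ψ := fun ψ => (hφ ψ).symm
  let comp : Fin n → (Coh.HH Y G d →ₗ[A] A) := fun i => Finsupp.lapply i ∘ₗ h0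
  let b : Fin n → B := fun i => g (Finsupp.single i 1)
  refine ⟨∑ i, (Scheme.Modules.pullback q).map (φ (comp i)) ≫ Formal.smulMod B _ (b i), hext _ fun x => ?_,
    fun ψ' hψ' => ?_⟩
  · show t (Hm _ d _) = _
    rw [hsum, hg, LinearMap.comp_apply]
    conv_rhs => rw [← Finsupp.univ_sum_single (h0 x), map_sum]
    refine Finset.sum_congr rfl fun i _ => ?_
    rw [one_mul, hhφ, ← Finsupp.smul_single_one, map_smul, Algebra.smul_def, mul_comm]
    rfl
  · have hzero : ∀ δ : (Scheme.Modules.pullback q).obj G ⟶ (Scheme.Modules.pullback q).obj ω,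
        (∀ x, t (Hm δ d (P ((1 : B) ⊗ₜ x))) = 0) → δ = 0 := by
      intro δ hδ
      obtain ⟨m, χ, c, rfl⟩ := gen_all hsq (H10Coh.isFP_of_isCoh G hG) δ
      let u : Coh.HH Y G d →ₗ[A] (Fin m →₀ A) :=
        (Finsupp.linearEquivFunOnFinite A A (Fin m)).symm.toLinearMap ∘ₗ LinearMap.pi fun i => h (χ i)
      let v : (Fin m →₀ A) →ₗ[A] B := Finsupp.linearCombination A c
      have huv : v ∘ₗ u = 0 := LinearMap.ext fun x => by
        have e := hδ x
        rw [hsum] at e
        simp only [one_mul] at e
        show Finsupp.linearCombination A c (u x) = 0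
        rw [Finsupp.linearCombination_apply, Finsupp.sum_fintype _ (fun i a => a • c i) (fun i => zero_smul A _), ← e]
        refine Finset.sum_congr rfl fun i _ => ?_
        rw [Algebra.smul_def, mul_comm]
        rfl
      obtain ⟨r, a, y, hay, hau⟩ := Module.Flat.exists_factorization_of_comp_eq_zero_of_free huv
      let coef : Fin m → Fin r → A := fun i j => a (Finsupp.single i 1) j
      have hc : ∀ i, c i = ∑ j, algebraMap A B (coef i j) * y (Finsupp.single j 1) := fun i => by
        have e : c i = y (a (Finsupp.single i 1)) := by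
          rw [← LinearMap.comp_apply, ← hay]
          simp [v]
        rw [e]
        conv_lhs => rw [← Finsupp.univ_sum_single (a (Finsupp.single i 1)), map_sum]
        refine Finset.sum_congr rfl fun j _ => ?_
        rw [← Finsupp.smul_single_one, map_smul, Algebra.smul_def]
      let Φ : Fin r → (G ⟶ ω) := fun j => ∑ i, χ i ≫ Formal.smulMod A ω (coef i j)
      have hΦ : ∀ j, Φ j = 0 := fun j => by
        refine (htr 0).unique (LinearMap.ext fun x => ?_) (LinearMap.ext fun x => ?_)
        · show 0 = tr (Hm (Φ j) d x)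
          have hF : ∀ (s : Finset (Fin m)) (f : Fin m → (G ⟶ ω)), Hm (∑ i ∈ s, f i) d x = ∑ i ∈ s, Hm (f i) d x := by
            intro s f
            induction s using Finset.induction_on with
            | empty => rw [Finset.sum_empty, Finset.sum_empty]; exact Hm_zero' d x
            | insert i s hi ih => rw [Finset.sum_insert hi, Finset.sum_insert hi, Hm_add, ih]
          rw [hF, map_sum]
          have e := congr(($hau x) j)
          rw [LinearMap.comp_apply] at e
          conv at e => lhs; rw [← Finsupp.univ_sum_single (u x), map_sum, Finsupp.finsetSum_apply]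
          refine Eq.trans (e.trans rfl).symm (Finset.sum_congr rfl fun i _ => ?_)
          rw [← Finsupp.smul_single_one, map_smul, Finsupp.smul_apply, Hm_smulMod', map_smul, smul_eq_mul,
            smul_eq_mul, mul_comm]
          rfl
        · exact ((congrArg tr (Hm_zero' d x)).trans (map_zero tr)).symm
      calc ∑ i, (Scheme.Modules.pullback q).map (χ i) ≫ Formal.smulMod B _ (c i)
          = ∑ i, ∑ j, (Scheme.Modules.pullback q).map (χ i ≫ Formal.smulMod A ω (coef i j)) ≫
              Formal.smulMod B _ (y (Finsupp.single j 1)) := Finset.sum_congr rfl fun i _ => by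
            rw [hc, smulMod_sum, Preadditive.comp_sum]
            refine Finset.sum_congr rfl fun j _ => ?_
            rw [smulMod_mul', Functor.map_comp, H24Quot.pullback_map_smulMod q (algebraMap A B) hsq.w,
              Category.assoc]
        _ = ∑ j, (Scheme.Modules.pullback q).map (Φ j) ≫ Formal.smulMod B _ (y (Finsupp.single j 1)) := by
            rw [Finset.sum_comm]
            refine Finset.sum_congr rfl fun j _ => ?_
            rw [Functor.map_sum, Preadditive.sum_comp]
        _ = 0 := Finset.sum_eq_zero fun j _ => by rw [hΦ, Functor.map_zero, zero_comp]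
    refine sub_eq_zero.1 (hzero _ fun x => ?_)
    have hz : ∀ (f f' : (Scheme.Modules.pullback q).obj G ⟶ (Scheme.Modules.pullback q).obj ω) z,
        Hm (f - f') d z = Hm f d z - Hm f' d z := fun f f' z => eq_sub_of_add_eq (by rw [← Hm_add, sub_add_cancel])
    rw [hz, map_sub, sub_eq_zero]
    refine (LinearMap.congr_fun hψ' (P ((1 : B) ⊗ₜ x))).symm.trans ?_
    rw [hsum]
    rw [show l (P ((1 : B) ⊗ₜ x)) = hl x from rfl, hg, LinearMap.comp_apply]
    conv_lhs => rw [← Finsupp.univ_sum_single (h0 x), map_sum]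
    refine Finset.sum_congr rfl fun i _ => ?_
    rw [one_mul, hhφ, ← Finsupp.smul_single_one, map_smul, Algebra.smul_def, mul_comm]
    rfl

include hsq in
/-- Flat base change of dualizing sheaves. -/
theorem isDualizingSheaf_pullback [IsNoetherianRing A] [IsNoetherianRing B] [Module.Flat A B]
    [IsProper (Y ↘ Spec (CommRingCat.of A))]
    (hdim : ∀ y, topologicalKrullDim ((Y ↘ Spec (CommRingCat.of A)).fiber y) ≤ (d : WithBot ℕ∞))
    (hω : RelCanon.IsDualizingSheaf A Y d ω) :
    RelCanon.IsDualizingSheaf B Y' d ((Scheme.Modules.pullback q).obj ω) := by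
  obtain ⟨tr, hωq, hrep⟩ := hω
  haveI : IsProper (Y' ↘ Spec (CommRingCat.of B)) := MorphismProperty.of_isPullback (P := @IsProper) hsq inferInstance
  haveI : IsAffineHom q := MorphismProperty.of_isPullback (P := @IsAffineHom) hsq.flip inferInstance
  haveI : CompactSpace Y := QuasiCompact.compactSpace_of_compactSpace (Y ↘ Spec (CommRingCat.of A))
  haveI : QuasiSeparatedSpace Y := quasiSeparatedSpace_of_quasiSeparated (Y ↘ Spec (CommRingCat.of A))
  haveI : IsLocallyNoetherian Y := LocallyOfFiniteType.isLocallyNoetherian (Y ↘ Spec (CommRingCat.of A))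
  haveI : CompactSpace Y' := QuasiCompact.compactSpace_of_compactSpace (Y' ↘ Spec (CommRingCat.of B))
  haveI : QuasiSeparatedSpace Y' := quasiSeparatedSpace_of_quasiSeparated (Y' ↘ Spec (CommRingCat.of B))
  haveI : IsLocallyNoetherian Y' := LocallyOfFiniteType.isLocallyNoetherian (Y' ↘ Spec (CommRingCat.of B))
  haveI : IsNoetherian Y := {}
  obtain ⟨t, ht⟩ := exists_trace hsq tr
  let κ := {G : Y.Modules // Coh.IsCoh G}
  let Gen' : κ → Y'.Modules := fun a => (Scheme.Modules.pullback q).obj a.1
  refine ⟨t, H29Fitt.isQCoh_pullback q ω hωq, fun F hF => (H17.Canon.repDual_iff F).1 ?_⟩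
  refine H17.Canon.repDual_qcoh (fun K hK => H17.Canon.subsingleton_HH_succ (A := B) (fun y => ?_) K hK) Gen'
    (fun a => H29Fitt.isQCoh_pullback q a.1 a.2.1) (fun a => ?_) (fun F hF => ?_) F hF
  · rw [H8Props.FieldDim.dim_fiber_baseChange (hc := hsq)]
    exact hdim _
  · haveI : a.1.IsQuasicoherent := a.2.1
    exact repDual_pullback hsq tr ((H17.Canon.repDual_iff a.1).2 (hrep a.1 a.2.1)) a.2 t ht
  · haveI : F.IsQuasicoherent := hF
    obtain ⟨ι, a, p, hp⟩ := H17.Canon.exists_epi_of_coh (fun a : κ => a.1) (fun G hG =>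
      ⟨1, fun _ => ⟨G, hG⟩, Sigma.desc fun _ => 𝟙 G, epi_of_epi_fac (Sigma.ι_desc (f := fun _ : Fin 1 => G) _ 0)⟩)
      ((Coh.push q).obj F) (H10Coh.isQuasicoherent_pushforward_of_isAffineHom q F)
    haveI := (Scheme.Modules.pullbackPushforwardAdjunction q).leftAdjoint_preservesColimits
    haveI := H11Aff.epi_counit_of_isQuasiAffine q (fun V hV => by
      haveI : IsAffine (q ⁻¹ᵁ V).toScheme := hV.preimage q
      infer_instance) F
    refine ⟨ι, a, (PreservesCoproduct.iso (Scheme.Modules.pullback q) fun i => (a i).1).inv ≫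
      ((Scheme.Modules.pullback q).map p ≫ (Scheme.Modules.pullbackPushforwardAdjunction q).counit.app F), ?_⟩
    exact epi_comp _ _

end Groth.Agent.H4RSH.DualBC
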