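import Groth.Agent.H4RSH.Tests
import Groth.Agent.H4RepDual.FieldVan
import Groth.Agent.H4DR.Ext.InjAmp
import Groth.Agent.H4DR.PCoh.Modules
import Groth.Agent.LeadBrown.Dominate

/-!
# `RHom(K~, L~)` is quasi-coherent for `K` with finite cohomology and `L` of finite injective dimension
-/

set_option autoImplicit false
set_option linter.style.haveILetI false
set_option linter.unusedSectionVars false
set_option backward.isDefEq.respectTransparency false
set_option synthInstance.maxHeartbeats 400000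
set_option maxHeartbeats 1000000

universe u

open CategoryTheory CategoryTheory.Limits CategoryTheory.Pretriangulated AlgebraicGeometry
open DerivedCategory.TStructure (t)

attribute [local instance] HasDerivedCategory.standard

namespace Groth.Agent.H4RSH

open Groth.Agent.H10Coh Groth.Agent.H16Derived Groth.Agent.H16Derived.QCohD Groth.Agent.H16Derived.KFlat
  Groth.Agent.H16Derived.KFlat.Stalk Groth.Agent.H16Derived.Dual
open Groth.Agent.H4DR.FlatBC (FD lbaseIso)

variable {A : Type u} [CommRing A]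

/-- The basic opens. -/
def basics (A : Type u) [CommRing A] : Set (Spec (CommRingCat.of A)).Opens :=
  Set.range fun g : A => PrimeSpectrum.basicOpen g

theorem basics_basis (W : (Spec (CommRingCat.of A)).Opens) (x : Spec (CommRingCat.of A)) (hx : x ∈ W) :
    ∃ V ∈ basics A, x ∈ V ∧ V ≤ W := by
  obtain ⟨_, ⟨g, rfl⟩, hxg, hle⟩ := PrimeSpectrum.isTopologicalBasis_basic_opens.exists_subset_of_mem_open hx W.isOpen
  exact ⟨_, ⟨g, rfl⟩, hxg, hle⟩

/-- Restriction of `M~` to a basic open. -/
theorem nonempty_rd_tilde {D : Type u} [CommRing D] [Algebra A D] [Module.Flat A D]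
    [IsOpenImmersion (Spec.map (CommRingCat.ofHom (algebraMap A D)))] (M : Dual.D A) :
    Nonempty ((DCoh.tildeD (CommRingCat.of D)).obj ((FD A D).obj M) ≅
      (rd (Spec.map (CommRingCat.ofHom (algebraMap A D)))).obj ((DCoh.tildeD (CommRingCat.of A)).obj M)) := by
  haveI : ∀ R : CommRingCat.{u}, PreservesFiniteLimits (tilde.functor R) := fun R =>
    QCohD.preservesFiniteLimits_tilde_of R
  obtain ⟨e⟩ := H4RepDual.nonempty_rd_id ((DCoh.tildeD (CommRingCat.of A)).obj M)
  exact H4RepDual.nonempty_FD_of_open (X := Spec (CommRingCat.of A)) (𝟙 (Spec (CommRingCat.of A)))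
    (Spec.map (CommRingCat.ofHom (algebraMap A D))) (Category.comp_id _) ((DCoh.tildeD (CommRingCat.of A)).obj M) M
    e.symm

/-- Maps between restrictions to a basic open of objects of high and of bounded injective amplitude. -/
theorem subsingleton_hom_basic [IsNoetherianRing A] {M L : Dual.D A} {c a b i : ℤ}
    (hM : ∀ j, j < c → Subsingleton (Dual.HD A M j)) (hL : DRing.HasInjAmplitudeIn A a b L) (hi : b < c + i)
    (V : (Spec (CommRingCat.of A)).Opens) (hV : V ∈ basics A) :
    Subsingleton ((rA V).obj ((DCoh.tildeD (CommRingCat.of A)).obj M) ⟶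
      (rA V).obj (((DCoh.tildeD (CommRingCat.of A)).obj L)⟦i⟧)) := by
  obtain ⟨g, rfl⟩ := hV
  let D := Localization.Away g
  let f := Spec.map (CommRingCat.ofHom (algebraMap A D))
  haveI : IsOpenImmersion f := IsOpenImmersion.of_isLocalization (S := D) g
  haveI : Module.Flat A D := IsLocalization.flat D (Submonoid.powers g)
  have hr : f.opensRange = PrimeSpectrum.basicOpen g :=
    TopologicalSpace.Opens.ext (PrimeSpectrum.localization_away_comap_range D g)
  suffices key : Subsingleton ((rA f.opensRange).obj ((DCoh.tildeD (CommRingCat.of A)).obj M) ⟶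
      (rA f.opensRange).obj (((DCoh.tildeD (CommRingCat.of A)).obj L)⟦i⟧)) by
    exact Eq.rec (motive := fun V _ => Subsingleton ((rA V).obj ((DCoh.tildeD (CommRingCat.of A)).obj M) ⟶
      (rA V).obj (((DCoh.tildeD (CommRingCat.of A)).obj L)⟦i⟧))) key hr
  obtain ⟨κ⟩ := LeadBrown.nonempty_rdCompIso f.isoOpensRange.hom f.opensRange.ι f f.isoOpensRange_hom_ι
  haveI := LeadBrown.faithful_rd_of_isIso f.isoOpensRange.hom
  haveI := (QCohD.full_faithful (CommRingCat.of D)).1
  obtain ⟨eM⟩ := nonempty_rd_tilde (D := D) M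
  obtain ⟨eL⟩ := nonempty_rd_tilde (D := D) (L⟦i⟧)
  have s1 : Subsingleton ((FD A D).obj M ⟶ (FD A D).obj (L⟦i⟧)) := by
    obtain ⟨E, hv, hE, ⟨e⟩⟩ := H4DR.FlatBC.injAmp_FD (B := D) (Submonoid.powers g) hL
    have s0 := H4DR.Ext.subsingleton_ex_of_GE (K := (FD A D).obj M) (i := i)
      (fun j hj => H4DR.FlatBC.subsingleton_HD_FD (hM j hj)) hv hE e hi
    exact @Function.Injective.subsingleton _ _ _
      ((Iso.refl ((FD A D).obj M)).homCongr (((FD A D).commShiftIso i).app L)).injective s0
  have s2 : Subsingleton ((DCoh.tildeD (CommRingCat.of D)).obj ((FD A D).obj M) ⟶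
      (DCoh.tildeD (CommRingCat.of D)).obj ((FD A D).obj (L⟦i⟧))) :=
    @Function.Surjective.subsingleton _ _ _ s1 (DCoh.tildeD (CommRingCat.of D)).map_surjective
  let eL' := eL ≪≫ (rd f).mapIso (((DCoh.tildeD (CommRingCat.of A)).commShiftIso i).app L)
  have s3 : Subsingleton ((rd f).obj ((DCoh.tildeD (CommRingCat.of A)).obj M) ⟶
      (rd f).obj (((DCoh.tildeD (CommRingCat.of A)).obj L)⟦i⟧)) :=
    @Function.Injective.subsingleton _ _ _ (eM.homCongr eL').symm.injective s2
  have s4 : Subsingleton ((rA f.opensRange ⋙ rd f.isoOpensRange.hom).obj ((DCoh.tildeD (CommRingCat.of A)).obj M) ⟶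
      (rA f.opensRange ⋙ rd f.isoOpensRange.hom).obj (((DCoh.tildeD (CommRingCat.of A)).obj L)⟦i⟧)) :=
    @Function.Injective.subsingleton _ _ _
      ((κ.app ((DCoh.tildeD (CommRingCat.of A)).obj M)).homCongr
        (κ.app (((DCoh.tildeD (CommRingCat.of A)).obj L)⟦i⟧))).symm.injective s3
  exact @Function.Injective.subsingleton _ _ _ (rd f.isoOpensRange.hom).map_injective s4

/-- `RHom(K~, L~)` has quasi-coherent cohomology. -/
theorem isQCohD_R_tilde [IsNoetherianRing A] {K L : Dual.D A}
    (hK : ∀ i : ℤ, Module.Finite A (Dual.HD A K i)) {a b : ℤ} (hL : DRing.HasInjAmplitudeIn A a b L) :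
    DCoh.IsQCohD ((R ((DCoh.tildeD (CommRingCat.of A)).obj K)).obj ((DCoh.tildeD (CommRingCat.of A)).obj L)) := by
  intro i
  let X := Spec (CommRingCat.of A)
  let td := DCoh.tildeD (CommRingCat.of A)
  let N : ℤ := b - i + 2
  let T₀ := td.mapTriangle.obj ((t.triangleLTGE (N + 1)).obj K)
  have hT : T₀ ∈ distTriang _ := td.map_distinguished _ (t.triangleLTGE_distinguished (N + 1) K)
  let K₁ := (t.truncLT (N + 1)).obj K
  let K₃ := (t.truncGE (N + 1)).obj K
  have h₃ : ∀ j, j < N + 1 → Subsingleton (Dual.HD A K₃ j) := fun j hj =>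
    haveI : DerivedCategory.IsGE K₃ (N + 1) := inferInstanceAs (t.IsGE _ (N + 1))
    ModuleCat.subsingleton_of_isZero (DerivedCategory.isZero_of_isGE K₃ (N + 1) j hj)
  have van : ∀ (p j : ℤ), -1 ≤ p → p ≤ 0 → i - 1 ≤ j → ∀ V ∈ basics A,
      Subsingleton ((DerivedCategory.singleFunctor X.Modules j).obj (freeSh V) ⟶
        (R ((td.obj K₃)⟦p⟧)).obj (td.obj L)) := fun p j hp hp' hj V hV => by
    refine subsingleton_test _ _ j V ?_
    have hs := subsingleton_hom_basic (c := N + 1 - p) (M := K₃⟦p⟧) (i := j) (fun l hl => by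
      haveI := h₃ (p + l) (by omega)
      exact (H4DR.PCoh.hShift K₃ p l (p + l) rfl).injective.subsingleton) hL (by omega) V hV
    exact @Function.Injective.subsingleton _ _ _
      (((rA V).mapIso ((td.commShiftIso p).app K₃).symm).homCongr (Iso.refl _)).injective hs
  let φ : td.obj K₁ ⟶ td.obj K := T₀.mor₁
  obtain ⟨W, ι, δ, hW⟩ := distinguished_cocone_triangle₁ (Rmap φ (td.obj L))
  have hWz : ∀ j, i ≤ j → IsZero (DCoh.HD W j) := fun j hj =>
    isZero_hd_of_tests W j (basics A) basics_basis fun V hV f => by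
      let G := (DerivedCategory.singleFunctor X.Modules j).obj (freeSh V)
      have h1 : f ≫ ι = 0 := by
        let z := ((adjR (td.obj K)).homEquiv _ _).symm (f ≫ ι)
        have hz : ((T X).obj G).map φ ≫ z = 0 := by
          rw [← comp_Rmap, Category.assoc, show ι ≫ Rmap φ (td.obj L) = 0 from comp_distTriang_mor_zero₁₂ _ hW,
            comp_zero, Adjunction.homEquiv_counit]
          exact (congrArg (· ≫ _) (((T X).flip.obj _).map_zero _ _)).trans zero_comp
        obtain ⟨r, hr⟩ := H25DTen.Dev.exists_factor_map (Adjunction.ofIsLeftAdjoint ((T X).obj G)) T₀ hT z hz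
        haveI := van 0 j (by omega) le_rfl (by omega) V hV
        haveI : Subsingleton (((T X).obj G).obj ((td.obj K₃)⟦(0 : ℤ)⟧) ⟶ td.obj L) :=
          @Function.Injective.subsingleton _ _ _ ((adjR _).homEquiv G (td.obj L)).injective ‹_›
        have hr0 : r = 0 := (cancel_epi (((T X).obj G).map ((shiftFunctorZero (DCoh.D X) ℤ).hom.app T₀.obj₃))).1
          (Subsingleton.elim (α := ((T X).obj G).obj ((td.obj K₃)⟦(0 : ℤ)⟧) ⟶ td.obj L) _ _)
        rw [hr0, comp_zero] at hr
        exact ((adjR (td.obj K)).homEquiv _ _).symm.injective (hr.symm.trans (by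
          rw [Adjunction.homEquiv_counit]
          exact ((congrArg (· ≫ _) (((T X).flip.obj _).map_zero _ _)).trans zero_comp).symm))
      obtain ⟨g, hg⟩ := Triangle.coyoneda_exact₂ _ (inv_rot_of_distTriang _ hW) f h1
      let G' := (DerivedCategory.singleFunctor X.Modules (j - 1)).obj (freeSh V)
      let eG : G'⟦(-1 : ℤ)⟧ ≅ G :=
        ((DerivedCategory.singleFunctors X.Modules).shiftIso (-1) j (j - 1) (by omega)).app (freeSh V)
      let y : G' ⟶ (R (td.obj K₁)).obj (td.obj L) := (shiftFunctor (DCoh.D X) (-1 : ℤ)).preimage (eG.hom ≫ g)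
      obtain ⟨r, hr⟩ := H25DTen.Dev.exists_factor_map (Adjunction.ofIsLeftAdjoint ((T X).obj G')) _
        (inv_rot_of_distTriang _ hT) (((adjR (td.obj K₁)).homEquiv _ _).symm y) (by
          haveI := van (-1) (j - 1) le_rfl (by omega) (by omega) V hV
          haveI : Subsingleton (((T X).obj G').obj ((td.obj K₃)⟦(-1 : ℤ)⟧) ⟶ td.obj L) :=
            @Function.Injective.subsingleton _ _ _ ((adjR _).homEquiv G' (td.obj L)).injective ‹_›
          exact Subsingleton.elim (α := ((T X).obj G').obj ((td.obj K₃)⟦(-1 : ℤ)⟧) ⟶ td.obj L) _ _)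
      let x := (adjR (td.obj K)).homEquiv G' (td.obj L) r
      have hx : x ≫ Rmap φ (td.obj L) = y := ((adjR (td.obj K₁)).homEquiv _ _).symm.injective (by
        rw [comp_Rmap, Equiv.symm_apply_apply]; exact hr)
      have h2 := comp_distTriang_mor_zero₁₂ _ (inv_rot_of_distTriang _ (inv_rot_of_distTriang _ hW))
      refine (cancel_epi eG.hom).1 (Eq.trans ?_ comp_zero.symm)
      rw [hg]
      refine (Category.assoc _ _ _).symm.trans ?_
      rw [← (shiftFunctor (DCoh.D X) (-1 : ℤ)).map_preimage (eG.hom ≫ g)]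
      show (shiftFunctor (DCoh.D X) (-1 : ℤ)).map y ≫ _ = 0
      rw [← hx, Functor.map_comp, Category.assoc]
      refine (congrArg (_ ≫ ·) ?_).trans comp_zero
      have h3 := comp_distTriang_mor_zero₂₃ _ hW
      have h4 : (shiftFunctor (DCoh.D X) (-1 : ℤ)).map (Rmap φ (td.obj L) ≫ δ) = 0 := by
        rw [show Rmap φ (td.obj L) ≫ δ = 0 from h3, Functor.map_zero]
      rw [Functor.map_comp] at h4
      show (shiftFunctor (DCoh.D X) (-1 : ℤ)).map (Rmap φ (td.obj L)) ≫
        (-(shiftFunctor (DCoh.D X) (-1 : ℤ)).map δ ≫ _) = 0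
      rw [Preadditive.comp_neg, ← Category.assoc, h4, zero_comp, neg_zero]
  have hiso : IsIso ((DerivedCategory.homologyFunctor _ i).map (Rmap φ (td.obj L))) := by
    haveI : Mono ((DerivedCategory.homologyFunctor _ i).map (Rmap φ (td.obj L))) :=
      (DerivedCategory.HomologySequence.mono_homologyMap_mor₂_iff _ hW i).2 ((hWz i le_rfl).eq_of_src _ _)
    haveI : Epi ((DerivedCategory.homologyFunctor _ i).map (Rmap φ (td.obj L))) :=
      (DerivedCategory.HomologySequence.epi_homologyMap_mor₂_iff _ hW i (i + 1) rfl).2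
        ((hWz (i + 1) (by omega)).eq_of_tgt _ _)
    exact isIso_of_mono_of_epi _
  refine isQCoh_iso (asIso ((DerivedCategory.homologyFunctor _ i).map (Rmap φ (td.obj L)))).symm ?_
  obtain ⟨E, hv, hE, ⟨eE⟩⟩ := hL
  haveI : DerivedCategory.IsGE L a := (DerivedCategory.isGE_iff L a).2 fun j hj => by
    refine IsZero.of_iso ?_ ((DerivedCategory.homologyFunctor (ModuleCat.{u} A) j).mapIso eE.symm ≪≫
      (DerivedCategory.homologyFunctorFactors (ModuleCat.{u} A) j).app E)
    exact (HomologicalComplex.exactAt_iff_isZero_homology _ _).1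
      (HomologicalComplex.ExactAt.of_isZero (hv j (Or.inl hj)))
  haveI : (td.obj L).IsGE a := (isGE_tilde_iff L a).2 inferInstance
  refine isQCohD_R (fun m => isPseudoCoherentD_tilde ?_) (isQCohD_tildeD (R := CommRingCat.of A) L) a i
  have hfin : ∀ j, Module.Finite A (Dual.HD A K₁ j) ∧ (N + 1 ≤ j → Subsingleton (Dual.HD A K₁ j)) := fun j => by
    haveI : DerivedCategory.IsLE K₁ (N + 1 - 1) := inferInstanceAs (t.IsLE _ (N + 1 - 1))
    rcases lt_or_ge j (N + 1) with h | h
    · haveI := DTrunc.isIso_homology_truncLTι K (N + 1) j h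
      haveI : Module.Finite A ((DerivedCategory.homologyFunctor (ModuleCat.{u} A) j).obj
        ((𝟭 (DerivedCategory (ModuleCat.{u} A))).obj K)) := hK j
      exact ⟨Module.Finite.equiv (asIso ((DerivedCategory.homologyFunctor (ModuleCat.{u} A) j).map
        ((t.truncLTι (N + 1)).app K))).symm.toLinearEquiv, fun h' => absurd h' (by omega)⟩
    · haveI hs : Subsingleton (Dual.HD A K₁ j) :=
        ModuleCat.subsingleton_of_isZero (DerivedCategory.isZero_of_isLE K₁ (N + 1 - 1) j (by omega))
      exact ⟨inferInstance, fun _ => hs⟩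
  exact H4DR.PCoh.pc_of_finite (N + 1 - m).toNat (fun j hj => (hfin j).2 (by omega)) fun j _ => (hfin j).1

end Groth.Agent.H4RSH
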