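import Groth.Agent.H4RSH.QCoh
import Groth.Agent.H4RSH.TensorTilde
import Groth.Agent.LeadBrown.RHomPull

/-!
# `RHom(K~, L~) = RHom(K, L)~`
-/

set_option autoImplicit false
set_option linter.style.haveILetI false
set_option backward.isDefEq.respectTransparency false
set_option maxHeartbeats 1600000
set_option synthInstance.maxHeartbeats 400000

universe u

open CategoryTheory CategoryTheory.Limits AlgebraicGeometry CochainComplex CochainComplex.HomComplex MonoidalCategory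

attribute [local instance] HasDerivedCategory.standard

namespace Groth.Agent.H4RSH

open Groth.Agent.H16Derived Groth.Agent.H16Derived.QCohD Groth.Agent.H16Derived.KFlat
  Groth.Agent.H16Derived.KFlat.Stalk Groth.Agent.H16Derived.Dual
open Groth.Agent.H4DR.RHom (curryHom ofHom_curryHom exists_uncurry Q_curryHom_eq_zero curryHom_precomp curryHom_sub
  bijective_curryLin isKInjective_homCx rhomObj)
open Groth.Agent.H4DR.DComplete (exists_Q_map_eq)
open Groth.Agent.H4DR (KFlatMod.bi)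

/-- A functor-level criterion for representing `Hom(T -, J)`. -/
theorem isIso_of_represent {𝒞 D D' : Type*} [Category 𝒞] [Category D] [Category D'] [Preadditive 𝒞] [Preadditive D]
    {Q : 𝒞 ⥤ D} [Q.Additive] [Q.EssSurj] {E : D ⥤ D'} [E.Full] [E.Faithful] {τ : 𝒞 ⥤ 𝒞} {S S' : D' ⥤ D'}
    (adj : S ⊣ S') (Φ : Q ⋙ E ⋙ S ≅ τ ⋙ Q ⋙ E) (H J : 𝒞) (ev : τ.obj H ⟶ J)
    (hH : ∀ (C : 𝒞) (c : Q.obj C ⟶ Q.obj H), ∃ g, Q.map g = c)
    (hJ : ∀ (C : 𝒞) (c : Q.obj C ⟶ Q.obj J), ∃ g, Q.map g = c)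
    (hsurj : ∀ (C : 𝒞) (f : τ.obj C ⟶ J), ∃ g : C ⟶ H, τ.map g ≫ ev = f)
    (hzero : ∀ (C : 𝒞) (g g' : C ⟶ H), Q.map (τ.map g ≫ ev) = Q.map (τ.map g' ≫ ev) → Q.map g = Q.map g')
    {F : D} (e : S'.obj (E.obj (Q.obj J)) ≅ E.obj F) :
    Nonempty (Q.obj H ≅ F) := by
  let x : E.obj (Q.obj H) ⟶ S'.obj (E.obj (Q.obj J)) := (adj.homEquiv _ _) (Φ.hom.app H ≫ E.map (Q.map ev))
  obtain ⟨x', hx'⟩ := E.map_surjective (x ≫ e.hom)
  have key : ∀ (C : 𝒞) (g : C ⟶ H), (adj.homEquiv _ _).symm (E.map (Q.map g) ≫ x) =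
      Φ.hom.app C ≫ E.map (Q.map (τ.map g ≫ ev)) := fun C g => by
    rw [Adjunction.homEquiv_naturality_left_symm, Equiv.symm_apply_apply, Q.map_comp, E.map_comp, ← Category.assoc,
      ← Category.assoc]
    exact congrArg (· ≫ _) (Φ.hom.naturality g)
  have hb : ∀ W : D, Function.Bijective fun c : W ⟶ Q.obj H => c ≫ x' := fun W => by
    let C := Q.objPreimage W
    let w : Q.obj C ≅ W := Q.objObjPreimageIso W
    have hC : Function.Bijective fun c : Q.obj C ⟶ Q.obj H => c ≫ x' := by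
      refine ⟨fun c c' h => ?_, fun y => ?_⟩
      · obtain ⟨g, rfl⟩ := hH C c
        obtain ⟨g', rfl⟩ := hH C c'
        refine hzero C g g' (E.map_injective ((cancel_epi (Φ.hom.app C)).1 ?_))
        have h1 := congrArg E.map h
        simp only [E.map_comp, hx', ← Category.assoc, cancel_mono] at h1
        rw [← key, ← key, h1]
      · obtain ⟨z, hz⟩ := E.map_surjective (Φ.inv.app C ≫ (adj.homEquiv _ _).symm (E.map y ≫ e.inv))
        obtain ⟨f, rfl⟩ := hJ (τ.obj C) z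
        obtain ⟨g, hg⟩ := hsurj C f
        refine ⟨Q.map g, E.map_injective ?_⟩
        show E.map (Q.map g ≫ x') = E.map y
        rw [E.map_comp, hx', ← Category.assoc, ← cancel_mono e.inv, Category.assoc, e.hom_inv_id, Category.comp_id]
        refine (adj.homEquiv _ _).symm.injective ((key C g).trans ?_)
        rw [hg]
        exact (congrArg (Φ.hom.app C ≫ ·) hz).trans (Φ.hom_inv_id_app_assoc C _)
    have := ((w.homCongr (Iso.refl F)).bijective.comp hC).comp (w.homCongr (Iso.refl (Q.obj H))).symm.bijective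
    convert this using 1
    funext c
    simp
  haveI : IsIso x' := (isIso_iff_yoneda_map_bijective x').2 hb
  exact ⟨asIso x'⟩

variable {A : Type u} [CommRing A]

/-- Composing the three comparisons. -/
def composeNat {C₁ C₂ D₁ D₂ : Type*} [Category C₁] [Category C₂] [Category D₁] [Category D₂] {Q : C₁ ⥤ D₁}
    {Q' : C₂ ⥤ D₂} {E : D₁ ⥤ D₂} {S : D₂ ⥤ D₂} {tC : C₁ ⥤ C₂} {t : C₁ ⥤ C₁} {t' : C₂ ⥤ C₂}
    (τiso : t ⋙ tC ≅ tC ⋙ t') (fac : Q ⋙ E ≅ tC ⋙ Q') (ε : Q' ⋙ S ≅ t' ⋙ Q') : Q ⋙ E ⋙ S ≅ t ⋙ Q ⋙ E :=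
  (Functor.associator _ _ _).symm ≪≫ Functor.isoWhiskerRight fac _ ≪≫ Functor.associator _ _ _ ≪≫
    Functor.isoWhiskerLeft tC ε ≪≫ (Functor.associator _ _ _).symm ≪≫
    Functor.isoWhiskerRight τiso.symm Q' ≪≫ Functor.associator _ _ _ ≪≫ Functor.isoWhiskerLeft _ fac.symm

theorem isIso_εFst {X : Scheme.{u}} (E : CochainComplex X.Modules ℤ) (h : IsKFlat (DCoh.tensorBi (X := X)) E) :
    IsIso (εFst E) := by
  haveI : ∀ L, IsIso ((εFst E).app L) := fun L => isIso_ε L _ (Or.inr h)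
  exact NatIso.isIso_of_isIso_app (εFst E)

/-- `RHom(P~, J~) ≅ Hom•(P, J)~` for K-flat `P` and K-injective `J`, given quasi-coherence. -/
theorem nonempty_R_tilde_homCx (P J : DRing.Cx A) (hP : IsKFlat (KFlatMod.bi (R := A)) P)
    [CochainComplex.IsKInjective J]
    (hq : DCoh.IsQCohD ((R ((DCoh.tildeD (CommRingCat.of A)).obj (DerivedCategory.Q.obj P))).obj
      ((DCoh.tildeD (CommRingCat.of A)).obj (DerivedCategory.Q.obj J)))) :
    Nonempty ((R ((DCoh.tildeD (CommRingCat.of A)).obj (DerivedCategory.Q.obj P))).obj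
      ((DCoh.tildeD (CommRingCat.of A)).obj (DerivedCategory.Q.obj J)) ≅
      (DCoh.tildeD (CommRingCat.of A)).obj (DerivedCategory.Q.obj (DRing.homCx P J))) := by
  haveI := isKInjective_homCx (A := A) P J hP
  let X := Spec (CommRingCat.of A)
  let td := DCoh.tildeD (CommRingCat.of A)
  let tC := (tilde.functor (CommRingCat.of A)).mapHomologicalComplex (ComplexShape.up ℤ)
  let fac : DerivedCategory.Q ⋙ td ≅ tC ⋙ DerivedCategory.Q :=
    (tilde.functor (CommRingCat.of A)).mapDerivedCategoryFactors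
  haveI := (QCohD.full_faithful (CommRingCat.of A)).1
  haveI := (QCohD.full_faithful (CommRingCat.of A)).2
  haveI : DerivedCategory.Q.EssSurj (C := CochainComplex (ModuleCat.{u} A) ℤ) :=
    Localization.essSurj DerivedCategory.Q (HomologicalComplex.quasiIso (ModuleCat.{u} A) (ComplexShape.up ℤ))
  let k := DerivedCategory.Q.obj (tC.obj P)
  let τ := (KFlatMod.bi (R := A)).map₂CochainComplex.flip.obj P
  have Φ := composeNat (totNat P) (Q := DerivedCategory.Q) (Q' := DerivedCategory.Q)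
    (tilde.functor (CommRingCat.of A)).mapDerivedCategoryFactors
    (@asIso _ _ _ _ (εFst (X := Spec (CommRingCat.of A)) _) (isIso_εFst _ (QCohD.kflat_tilde hP)))
  let ek : td.obj (DerivedCategory.Q.obj P) ≅ k := fac.app P
  let eR : (R k).obj (td.obj (DerivedCategory.Q.obj J)) ≅
      (R (td.obj (DerivedCategory.Q.obj P))).obj (td.obj (DerivedCategory.Q.obj J)) :=
    { hom := Rmap ek.hom _
      inv := Rmap ek.inv _
      hom_inv_id := by rw [← LeadBrown.Rmap_comp, ek.inv_hom_id, LeadBrown.Rmap_id]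
      inv_hom_id := by rw [← LeadBrown.Rmap_comp, ek.hom_inv_id, LeadBrown.Rmap_id] }
  obtain ⟨F, ⟨e⟩⟩ := QCohD.exists_tildeD_iso (R := CommRingCat.of A) hq
  obtain ⟨ev, hev⟩ := exists_uncurry (C := DRing.homCx P J) (F := P) (J := J) (𝟙 _)
  have hc : ∀ (C : DRing.Cx A) (g : C ⟶ DRing.homCx P J), curryHom (τ.map g ≫ ev) = g := fun C g => by
    refine (curryHom_precomp g ev).trans ?_
    rw [hev, Category.comp_id]
  have hs : ∀ (C : DRing.Cx A) (f : τ.obj C ⟶ J), ∃ g : C ⟶ DRing.homCx P J, τ.map g ≫ ev = f := fun C f => by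
    refine ⟨curryHom (C := C) (F := P) (J := J) f, Cochain.ofHom_injective ((bijective_curryLin C P J 0).1 ?_)⟩
    exact (ofHom_curryHom _).symm.trans ((congrArg Cochain.ofHom (hc C _)).trans (ofHom_curryHom (C := C) (F := P) (J := J) f))
  have hz : ∀ (C : DRing.Cx A) (g g' : C ⟶ DRing.homCx P J),
      DerivedCategory.Q.map (τ.map g ≫ ev) = DerivedCategory.Q.map (τ.map g' ≫ ev) →
      DerivedCategory.Q.map g = DerivedCategory.Q.map g' := fun C g g' h => by
    have h1 : DerivedCategory.Q.map (τ.map g ≫ ev - τ.map g' ≫ ev) = 0 := by rw [Functor.map_sub, h, sub_self]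
    have h2 := (Q_curryHom_eq_zero (C := C) (F := P) (J := J) (τ.map g ≫ ev - τ.map g' ≫ ev)).2 h1
    have h3 : curryHom (C := C) (F := P) (J := J) (τ.map g ≫ ev - τ.map g' ≫ ev) = g - g' :=
      (curryHom_sub (C := C) (F := P) (J := J) _ _).trans (congrArg₂ (· - ·) (hc C g) (hc C g'))
    rw [h3, Functor.map_sub, sub_eq_zero] at h2
    exact h2
  obtain ⟨i⟩ := isIso_of_represent (τ := τ) (E := td) (adjR _) Φ (DRing.homCx P J) J ev
    (fun C c => exists_Q_map_eq c) (fun C c => exists_Q_map_eq c) hs hz (eR ≪≫ e.symm)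
  exact ⟨e.symm ≪≫ td.mapIso i.symm⟩

end Groth.Agent.H4RSH
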