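import Groth.Agent.H4RSH.Eta
import Groth.Agent.H4RSH.QCoh
import Groth.Agent.H4DR.Dualizing.DoubleDual
import Groth.Agent.H4DR.RHom.Biduality
import Groth.Agent.S1819
import Groth.Agent.S1822

/-!
# Biduality on an affine scheme
-/

set_option autoImplicit false
set_option linter.style.haveILetI false
set_option linter.unusedSectionVars false
set_option backward.isDefEq.respectTransparency false
set_option synthInstance.maxHeartbeats 400000
set_option maxHeartbeats 1600000

universe u

open CategoryTheory CategoryTheory.Limits AlgebraicGeometry Pretriangulated Opposite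
open DerivedCategory.TStructure (t)

attribute [local instance] HasDerivedCategory.standard

namespace Groth.Agent.H4RSH

open Groth.Agent.H16Derived Groth.Agent.H16Derived.QCohD Groth.Agent.H16Derived.Dual Groth.Agent.H25DTen
open Groth.Agent.H16Derived.KFlat.Stalk (isGE_tilde_iff isLE_tilde_iff hdTilde)

/-- Natural maps of exact functors agree on the first two vertices when both vanish on the third. -/
theorem bijective_of_vanish {C : Type*} [Category C] [Preadditive C] [HasZeroObject C] [HasShift C ℤ]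
    [∀ n : ℤ, (shiftFunctor C n).Additive] [Pretriangulated C] {F G : C ⥤ AddCommGrpCat.{u + 1}} (τ : F ⟶ G)
    (hF : Dev.IsExact F) (hG : Dev.IsExact G) (T₀ : Triangle C) (hT : T₀ ∈ distTriang C)
    (hF₃ : Subsingleton (F.obj T₀.obj₃)) (hG₃ : Subsingleton (G.obj T₀.obj₃))
    (hF₀ : Subsingleton (F.obj (T₀.obj₃⟦(-1 : ℤ)⟧))) (hG₀ : Subsingleton (G.obj (T₀.obj₃⟦(-1 : ℤ)⟧)))
    (h : Function.Bijective (τ.app T₀.obj₁)) : Function.Bijective (τ.app T₀.obj₂) := by
  have bij : ∀ {F : C ⥤ AddCommGrpCat.{u + 1}}, Dev.IsExact F → Subsingleton (F.obj T₀.obj₃) →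
      Subsingleton (F.obj (T₀.obj₃⟦(-1 : ℤ)⟧)) → Function.Bijective (F.map T₀.mor₁) := fun {F} hF h₃ h₀ => by
    refine ⟨(injective_iff_map_eq_zero (F.map T₀.mor₁).hom).2 fun x hx => ?_, fun y => ?_⟩
    · obtain ⟨r, hr⟩ := (hF _ (inv_rot_of_distTriang _ hT) x).1 hx
      rw [← hr, show r = 0 from @Subsingleton.elim _ h₀ _ _]
      exact map_zero _
    · exact (hF _ hT y).1 (@Subsingleton.elim _ h₃ _ _)
  have hn : ∀ x, τ.app T₀.obj₂ (F.map T₀.mor₁ x) = G.map T₀.mor₁ (τ.app T₀.obj₁ x) := fun x =>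
    ConcreteCategory.congr_hom (τ.naturality T₀.mor₁) x
  rw [← Function.Bijective.of_comp_iff _ (bij hF hF₃ hF₀), show _ ∘ _ = _ from funext hn]
  exact (bij hG hG₃ hG₀).comp h

variable {A : Type u} [CommRing A]

local notation "td" => DCoh.tildeD (CommRingCat.of A)

/-- `A` in degree `i`. -/
noncomputable abbrev gen (i : ℤ) : Dual.D A := (Dual.inD A A)⟦-i⟧

theorem subsingleton_gen {F : Dual.D A} {i : ℤ} (h : Subsingleton (Dual.HD A F i)) :
    Subsingleton (gen i ⟶ F) := by
  have h1 : Subsingleton (Dual.inD A A ⟶ F⟦i⟧) := (H4DR.Ext.evalEquiv F i).injective.subsingleton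
  haveI : Subsingleton (Dual.inD A A ⟶ F⟦-(-i)⟧) := by rwa [neg_neg]
  exact @Function.Injective.subsingleton _ _ _
    ((shiftEquiv (Dual.D A) (-i)).toAdjunction.homEquiv (Dual.inD A A) F).injective
    ‹Subsingleton (Dual.inD A A ⟶ F⟦-(-i)⟧)›

theorem bijective_gen_of_bijective {Y Y' : Dual.D A} (φ : Y ⟶ Y')
    (h : ∀ i : ℤ, Function.Bijective fun x : gen i ⟶ Y => x ≫ φ) : IsIso φ := by
  obtain ⟨C, p, w, hT⟩ := distinguished_cocone_triangle φ
  refine (Triangle.isZero₃_iff_isIso₁ _ hT).1 (H4DR.Dualizing.isZero_of_subsingleton_HD fun i => ?_)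
  have h0 : ∀ x : gen i ⟶ C, x = 0 := fun x => by
    let e : (gen (A := A) (i + 1))⟦(1 : ℤ)⟧ ≅ gen i :=
      ((shiftFunctorAdd' (Dual.D A) (-(i + 1)) 1 (-i) (by omega)).app (Dual.inD A A)).symm
    have h1 : (e.hom ≫ x ≫ w) = 0 := by
      obtain ⟨y, hy⟩ := (shiftFunctor (Dual.D A) (1 : ℤ)).map_surjective (e.hom ≫ x ≫ w)
      have h2 : w ≫ φ⟦(1 : ℤ)⟧' = 0 := comp_distTriang_mor_zero₃₁ _ hT
      have h3 : y ≫ φ = 0 := (shiftFunctor (Dual.D A) (1 : ℤ)).map_injective (by
        rw [Functor.map_comp, hy, Functor.map_zero]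
        simp only [Category.assoc, h2, comp_zero])
      rw [← hy, (h (i + 1)).1 (a₁ := y) (a₂ := 0) (by simpa using h3), Functor.map_zero]
    obtain ⟨z, hz⟩ := Triangle.coyoneda_exact₃ _ hT x
      ((cancel_epi e.hom).1 (h1.trans comp_zero.symm))
    obtain ⟨v, hv⟩ := (h i).2 z
    have h4 : φ ≫ p = 0 := comp_distTriang_mor_zero₁₂ _ hT
    rw [hz, ← hv]
    show (v ≫ φ) ≫ p = 0
    rw [Category.assoc, h4, comp_zero]
  haveI : Subsingleton (gen i ⟶ C) := ⟨fun a b => (h0 a).trans (h0 b).symm⟩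
  haveI : Subsingleton (Dual.inD A A ⟶ C⟦-(-i)⟧) := @Function.Injective.subsingleton _ _ _
    ((shiftEquiv (Dual.D A) (-i)).toAdjunction.homEquiv (Dual.inD A A) C).symm.injective ‹_›
  haveI : Subsingleton (Dual.inD A A ⟶ C⟦i⟧) := by
    have h := ‹Subsingleton (Dual.inD A A ⟶ C⟦-(-i)⟧)›
    rwa [neg_neg] at h
  exact (H4DR.Ext.evalEquiv C i).symm.injective.subsingleton

variable [IsNoetherianRing A] {ω : Dual.D A} (hω : Dual.IsDualizing A ω)
include hω

theorem hfid : DRing.HasFiniteInjDim A ω :=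
  H4DR.Ext.fid_iff.1 (show H4DR.Ext.FID ω from hω.finite_injective_dimension)

/-- The dual of a coherent object is coherent. -/
theorem exists_dual (M : Dual.D A) (hM : ∀ i : ℤ, Module.Finite A (Dual.HD A M i)) :
    ∃ F : Dual.D A, (∀ i : ℤ, Module.Finite A (Dual.HD A F i)) ∧
      Nonempty ((R ((td).obj M)).obj ((td).obj ω) ≅ (td).obj F) := by
  haveI : PreservesFiniteLimits (tilde.functor (CommRingCat.of A)) := QCohD.preservesFiniteLimits_tilde_of _
  obtain ⟨C, ⟨eC⟩⟩ : ∃ C, Nonempty (DerivedCategory.Q.obj C ≅ M) :=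
    ⟨_, ⟨DerivedCategory.Q.objObjPreimageIso M⟩⟩
  haveI := H4DR.RHom.hasRHomCx C
  have hC : ∀ i : ℤ, Module.Finite A (Dual.HD A (DRing.toD C) i) := fun i =>
    haveI := hM i
    Module.Finite.equiv ((DerivedCategory.homologyFunctor (ModuleCat.{u} A) i).mapIso eC).symm.toLinearEquiv
  obtain ⟨E, ⟨eE⟩⟩ : ∃ E : CochainComplex (Spec (CommRingCat.of A)).Modules ℤ,
      Nonempty (DCoh.toD (Spec (CommRingCat.of A)) E ≅
        (DCoh.tildeD (CommRingCat.of A)).obj (DRing.toD C)) :=
    (KFlat.Stalk.exists_kflat_rep (X := Spec (CommRingCat.of A))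
      ((td).obj (DRing.toD C))).imp fun _ h => h.2
  haveI := KFlat.Stalk.hasLTensorCx E
  haveI : DCoh.HasRSheafHom E := Functor.isLeftAdjoint_of_iso (ltensorCxIsoT E)
  obtain ⟨e⟩ := S1822.result A C hC ω (hfid hω) E ⟨eE⟩
  refine ⟨_, (S1819.result A ω hω C hC).1, ⟨?_⟩⟩
  exact (Dual.RIso ((td).mapIso eC.symm ≪≫ eE.symm)).app _ ≪≫ ((rsheafHomIso E).app _).symm ≪≫ e

theorem nonempty_one_iso_R : Nonempty (one (Spec (CommRingCat.of A)) ≅ (R ((td).obj ω)).obj ((td).obj ω)) := by
  haveI : PreservesFiniteLimits (tilde.functor (CommRingCat.of A)) := QCohD.preservesFiniteLimits_tilde_of _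
  obtain ⟨J, a, b, hv, hJ, ⟨eJ⟩⟩ := H4DR.Dualizing.exists_injRep (K := ω) hω.finite_injective_dimension
  haveI := H4DR.Ext.isKInjective_of_vanishesOutside hv hJ
  haveI := H4DR.RHom.hasRHomCx J
  have hω' : Dual.IsDualizing A (DRing.toD J) := H4DR.Dualizing.isDualizing_of_iso eJ.symm hω
  have hJfin : ∀ i : ℤ, Module.Finite A (Dual.HD A (DRing.toD J) i) := fun i => hω'.finite_cohomology i
  obtain ⟨E, ⟨eE⟩⟩ : ∃ E : CochainComplex (Spec (CommRingCat.of A)).Modules ℤ,
      Nonempty (DCoh.toD (Spec (CommRingCat.of A)) E ≅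
        (DCoh.tildeD (CommRingCat.of A)).obj (DRing.toD J)) :=
    (KFlat.Stalk.exists_kflat_rep (X := Spec (CommRingCat.of A))
      ((td).obj (DRing.toD J))).imp fun _ h => h.2
  haveI := KFlat.Stalk.hasLTensorCx E
  haveI : DCoh.HasRSheafHom E := Functor.isLeftAdjoint_of_iso (ltensorCxIsoT E)
  obtain ⟨e⟩ := S1822.result A J hJfin ω (hfid hω) E ⟨eE⟩
  let η₀ := H4DR.Dualizing.ddEta J (H4DR.Dualizing.sglA (A := A) 0)
  haveI : ∀ i, IsIso (HomologicalComplex.homologyMap η₀ i) := fun i =>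
    H4DR.Dualizing.isIso_ddEta_single hω' 0 i
  haveI : QuasiIso η₀ := ⟨fun i => by rw [quasiIsoAt_iff_isIso_homologyMap]; infer_instance⟩
  let f : DRing.homCx (H4DR.Dualizing.sglA (A := A) 0) J ≅ J :=
    asIso (H4DR.Dualizing.dualSingleHom J 0) ≪≫ (shiftFunctorZero _ ℤ).app J
  haveI : QuasiIso (H4DR.RHom.homCxPre f.hom J) := H4DR.Dualizing.WayOut.quasiIso_dual J f.hom
  let eA : DerivedCategory.Q.obj (H4DR.Dualizing.sglA (A := A) 0) ≅ (DRing.RHomCx J).obj ω :=
    asIso (DerivedCategory.Q.map η₀) ≪≫ (asIso (DerivedCategory.Q.map (H4DR.RHom.homCxPre f.hom J))).symm ≪≫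
      (H4DR.RHom.rhomObj J J).symm ≪≫ (DRing.RHomCx J).mapIso eJ
  exact ⟨oneIso.symm ≪≫ ((DerivedCategory.singleFunctor (Spec (CommRingCat.of A)).Modules 0).mapIso
        (AlgebraicGeometry.tildeSelf (R := CommRingCat.of A))).symm ≪≫
      (((tilde.functor (CommRingCat.of A)).mapDerivedCategorySingleFunctor 0).app (ModuleCat.of A A)).symm ≪≫
    (td).mapIso ((DerivedCategory.singleFunctorIsoCompQ (ModuleCat.{u} A) 0).app (ModuleCat.of A A) ≪≫ eA) ≪≫
    e.symm ≪≫ (rsheafHomIso E).app _ ≪≫ (Dual.RIso (eE ≪≫ (td).mapIso eJ)).app _⟩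

/-- Bounded-below duals. -/
theorem subsingleton_dual_of_ge {a b : ℤ} (hab : DRing.HasInjAmplitudeIn A a b ω) {M F : Dual.D A} {ν : ℤ}
    (hM : ∀ j, j < ν → Subsingleton (Dual.HD A M j))
    (e : (R ((td).obj M)).obj ((td).obj ω) ≅ (td).obj F) {i : ℤ} (hi : b < ν + i) :
    Subsingleton (Dual.HD A F i) := by
  haveI := (QCohD.full_faithful (CommRingCat.of A)).2
  have hz := isZero_hd_R ((td).obj M) ((td).obj ω) i (basics A) basics_basis
    fun V hV => subsingleton_hom_basic hM hab hi V hV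
  have h1 : IsZero (DCoh.HD ((td).obj F) i) :=
    hz.of_iso ((DerivedCategory.homologyFunctor _ i).mapIso e).symm
  exact ModuleCat.subsingleton_of_isZero
    (KFlat.Stalk.isZero_of_isZero_tilde (h1.of_iso (hdTilde F i).symm))

/-- The bidual of a coherent object on an affine scheme. -/
theorem isIso_η_tilde (M : Dual.D A) (hM : ∀ i : ℤ, Module.Finite A (Dual.HD A M i)) :
    IsIso (η ((td).obj ω) ((td).obj M)) := by
  let X := Spec (CommRingCat.of A)
  let K := (td).obj ω
  haveI := (QCohD.full_faithful (CommRingCat.of A)).1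
  haveI := (QCohD.full_faithful (CommRingCat.of A)).2
  obtain ⟨a, b, hab⟩ := hfid hω
  obtain ⟨u₀⟩ := nonempty_one_iso_R hω
  have hωge : ∀ j, j < a → Subsingleton (Dual.HD A ω j) := fun j hj => by
    obtain ⟨E, hv, hE, ⟨e⟩⟩ := hab
    exact H4DR.Dualizing.hasInjAmp_lower hv hE e j (Or.inl hj)
  haveI : ω.IsGE a := (DerivedCategory.isGE_iff ω a).2 fun j hj =>
    ModuleCat.isZero_of_iff_subsingleton.2 (hωge j hj)
  haveI hKge : K.IsGE a := (isGE_tilde_iff ω a).2 ‹_›
  -- the right-hand side of a test against `C`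
  have right : ∀ (C : Dual.D A) (i : ℤ), (∀ j : ℤ, Module.Finite A (Dual.HD A C j)) →
      ((∀ j, j < i + b - a + 1 → Subsingleton (Dual.HD A C j)) ∨ (∀ j, i - b + a - 1 < j → Subsingleton (Dual.HD A C j))) →
      Subsingleton (((T X).obj ((td).obj (gen i))).obj (dK K ((td).obj C)) ⟶ K) := fun C i hC hv => by
    obtain ⟨F, hF, ⟨eF⟩⟩ := exists_dual hω C hC
    obtain ⟨F', -, ⟨eF'⟩⟩ := exists_dual hω F hF
    let eN : (R (dK K ((td).obj C))).obj K ≅ (td).obj F' := (Dual.RIso eF).app K ≪≫ eF'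
    suffices hF' : Subsingleton (Dual.HD A F' i) by
      haveI := subsingleton_gen hF'
      haveI : Subsingleton ((td).obj (gen i) ⟶ (td).obj F') := (td).map_surjective.subsingleton
      haveI : Subsingleton ((td).obj (gen i) ⟶ (R (dK K ((td).obj C))).obj K) :=
        ((Iso.refl _).homCongr eN).injective.subsingleton
      exact ((adjR (dK K ((td).obj C))).homEquiv ((td).obj (gen i)) K).injective.subsingleton
    rcases hv with hv | hv
    · have hle : ∀ j, a - i - 1 < j → Subsingleton (Dual.HD A F j) := fun j hj =>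
        subsingleton_dual_of_ge hω hab (ν := i + b - a + 1) hv eF (by omega)
      haveI : F.IsLE (a - i - 1) := (DerivedCategory.isLE_iff F _).2 fun j hj =>
        ModuleCat.isZero_of_iff_subsingleton.2 (hle j hj)
      haveI := (isLE_tilde_iff F (a - i - 1)).2 ‹_›
      haveI : ((R ((td).obj F)).obj K).IsGE (a - (a - i - 1)) := isGE_R (a - i - 1) K a
      have hz : IsZero (DCoh.HD ((td).obj F') i) :=
        (DerivedCategory.isZero_of_isGE ((R ((td).obj F)).obj K) (a - (a - i - 1)) i (by omega)).of_iso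
          ((DerivedCategory.homologyFunctor _ i).mapIso eF').symm
      exact ModuleCat.subsingleton_of_isZero (KFlat.Stalk.isZero_of_isZero_tilde (hz.of_iso (hdTilde F' i).symm))
    · haveI : C.IsLE (i - b + a - 1) := (DerivedCategory.isLE_iff C _).2 fun j hj =>
        ModuleCat.isZero_of_iff_subsingleton.2 (hv j hj)
      haveI := (isLE_tilde_iff C (i - b + a - 1)).2 ‹_›
      haveI : ((R ((td).obj C)).obj K).IsGE (a - (i - b + a - 1)) := isGE_R (i - b + a - 1) K a
      have hge : ∀ j, j < a - (i - b + a - 1) → Subsingleton (Dual.HD A F j) := fun j hj =>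
        ModuleCat.subsingleton_of_isZero (KFlat.Stalk.isZero_of_isZero_tilde
          ((((DerivedCategory.isZero_of_isGE ((R ((td).obj C)).obj K) (a - (i - b + a - 1)) j hj).of_iso
            ((DerivedCategory.homologyFunctor _ j).mapIso eF).symm)).of_iso (hdTilde F j).symm))
      exact subsingleton_dual_of_ge hω hab hge eF' (by omega)
  have left : ∀ (C : Dual.D A) (i : ℤ), Subsingleton (Dual.HD A C i) →
      Subsingleton ((td).obj (gen i) ⟶ (td).obj C) := fun C i h => by
    haveI := subsingleton_gen h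
    exact (td).map_surjective.subsingleton
  -- tests
  have main : ∀ i : ℤ, Function.Bijective (te K ((td).obj (gen i)) ((td).obj M)) := fun i => by
    let g := (td).obj (gen (A := A) i)
    let lo : ℤ := i + |b - a| + 3
    have key : ∀ (T₀ : Triangle (Dual.D A)), T₀ ∈ distTriang (Dual.D A) →
        (∀ j : ℤ, Module.Finite A (Dual.HD A T₀.obj₃ j)) →
        ((∀ j, j < lo → Subsingleton (Dual.HD A T₀.obj₃ j)) ∨
          (∀ j, i - |b - a| - 3 < j → Subsingleton (Dual.HD A T₀.obj₃ j))) →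
        Function.Bijective (te K g ((td).obj T₀.obj₁)) → Function.Bijective (te K g ((td).obj T₀.obj₂)) :=
      fun T₀ hT hfin hv h1 => by
        have hab' := abs_nonneg (b - a)
        have hab1 := le_abs_self (b - a)
        have hab2 := neg_abs_le (b - a)
        let S₀ := (T₀.obj₃)⟦(-1 : ℤ)⟧
        have hS : ∀ j : ℤ, Dual.HD A S₀ j ≃ₗ[A] Dual.HD A T₀.obj₃ (-1 + j) := fun j =>
          H4DR.PCoh.hShift T₀.obj₃ (-1) j (-1 + j) rfl
        have hSfin : ∀ j : ℤ, Module.Finite A (Dual.HD A S₀ j) := fun j =>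
          haveI := hfin (-1 + j)
          Module.Finite.equiv (hS j).symm
        let eS : ((td).obj T₀.obj₃)⟦(-1 : ℤ)⟧ ≅ (td).obj S₀ := (((td).commShiftIso (-1 : ℤ)).app T₀.obj₃).symm
        have hv' : ((∀ j, j < lo + 1 → Subsingleton (Dual.HD A S₀ j)) ∨
            (∀ j, i - |b - a| - 2 < j → Subsingleton (Dual.HD A S₀ j))) := by
          rcases hv with hv | hv
          · exact Or.inl fun j hj => haveI := hv (-1 + j) (by omega); (hS j).injective.subsingleton
          · exact Or.inr fun j hj => haveI := hv (-1 + j) (by omega); (hS j).injective.subsingleton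
        have hi₃ : Subsingleton (Dual.HD A T₀.obj₃ i) := hv.elim (fun h => h i (by omega)) (fun h => h i (by omega))
        have hi₀ : Subsingleton (Dual.HD A S₀ i) := hv'.elim (fun h => h i (by omega)) (fun h => h i (by omega))
        refine bijective_of_vanish (teNat K g) (isExact_coyoneda (g := g)) (isExact_bidK K g) _
          ((td).map_distinguished _ hT) (left _ i hi₃)
          (right _ i hfin (hv.imp (fun h j hj => h j (by omega)) fun h j hj => h j (by omega))) ?_ ?_ h1
        · haveI := left S₀ i hi₀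
          exact ((Iso.refl g).homCongr eS).injective.subsingleton
        · haveI : Subsingleton ((bidK K g).obj ((td).obj S₀)) :=
            right S₀ i hSfin (hv'.imp (fun h j hj => h j (by omega)) fun h j hj => h j (by omega))
          exact ((bidK K g).mapIso eS).addCommGroupIsoToAddEquiv.injective.subsingleton
    -- truncate above
    let N : ℤ := lo
    have hlt : ∀ j : ℤ, j < N → Module.Finite A (Dual.HD A ((t.truncLT N).obj M) j) := fun j hj => by
      haveI := DTrunc.isIso_homology_truncLTι M N j hj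
      haveI : Module.Finite A ((DerivedCategory.homologyFunctor (ModuleCat.{u} A) j).obj
        ((𝟭 (DerivedCategory (ModuleCat.{u} A))).obj M)) := hM j
      exact Module.Finite.equiv (asIso ((DerivedCategory.homologyFunctor (ModuleCat.{u} A) j).map
        ((t.truncLTι N).app M))).symm.toLinearEquiv
    haveI : DerivedCategory.IsLE ((t.truncLT N).obj M) (N - 1) := inferInstanceAs (t.IsLE _ (N - 1))
    have hfin₁ : ∀ j : ℤ, Module.Finite A (Dual.HD A ((t.truncLT N).obj M) j) := fun j => by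
      rcases lt_or_ge j N with h | h
      · exact hlt j h
      · haveI : Subsingleton (Dual.HD A ((t.truncLT N).obj M) j) :=
          ModuleCat.subsingleton_of_isZero (DerivedCategory.isZero_of_isLE _ (N - 1) j (by omega))
        infer_instance
    refine key _ (t.triangleLTGE_distinguished N M)
      (fun j => H4DR.Dualizing.finite_HD_obj₃ _ (t.triangleLTGE_distinguished N M) hfin₁ hM j)
      (Or.inl fun j hj => ModuleCat.subsingleton_of_isZero
        (haveI : DerivedCategory.IsGE ((t.truncGE N).obj M) N := inferInstanceAs (t.IsGE _ N)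
         DerivedCategory.isZero_of_isGE _ N j hj)) ?_
    -- approximate by a perfect complex
    let μ : ℤ := i - |b - a| - 3
    obtain ⟨E, a', b', α, hv, hf, h₁, h₂⟩ : DRing.IsPseudoCoherent A μ ((t.truncLT N).obj M) :=
      H4DR.PCoh.pc_of_finite (N - μ).toNat (fun j hj => ModuleCat.subsingleton_of_isZero
        (DerivedCategory.isZero_of_isLE _ (N - 1) j (by omega))) fun j _ => hfin₁ j
    obtain ⟨C, β, γ, hT⟩ := distinguished_cocone_triangle α
    have hC : DerivedCategory.IsLE C (μ - 1) := (KFlat.Stalk.approx_iff hT μ).1 ⟨h₁, h₂⟩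
    have hE : ∀ j, Module.Finite A (Dual.HD A (DRing.toD E) j) :=
      fun j => H4DR.PCoh.finite_of_pc (H4DR.PCoh.pc_of_pc' ⟨E, b', fun l hl => hv l (Or.inr hl), hf, ⟨Iso.refl _⟩⟩ j) j le_rfl
    refine key _ hT (fun j => H4DR.Dualizing.finite_HD_obj₃ _ hT hE hfin₁ j)
      (Or.inr fun j hj => ModuleCat.subsingleton_of_isZero
        (DerivedCategory.isZero_of_isLE C (μ - 1) j (by omega))) ?_
    refine bijective_te_of_isIso K (isIso_η_perfect K u₀ ?_) g
    exact (KFlat.Stalk.perfect_tilde_iff (DRing.toD E)).2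
      ⟨E, a', b', hv, fun j => ⟨(hf j).1, haveI := (hf j).2; inferInstance⟩, ⟨Iso.refl _⟩⟩
  -- conclude
  obtain ⟨F, hF, ⟨eF⟩⟩ := exists_dual hω M hM
  obtain ⟨F', -, ⟨eF'⟩⟩ := exists_dual hω F hF
  let eN : (R (dK K ((td).obj M))).obj K ≅ (td).obj F' := (Dual.RIso eF).app K ≪≫ eF'
  obtain ⟨φ, hφ⟩ := (td).map_surjective (η K ((td).obj M) ≫ eN.hom)
  suffices IsIso φ by
    haveI : IsIso (η K ((td).obj M) ≫ eN.hom) := by rw [← hφ]; infer_instance
    exact IsIso.of_isIso_comp_right _ eN.hom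
  refine bijective_gen_of_bijective φ fun i => ?_
  have h := main i
  have e1 : ⇑(te K ((td).obj (gen i)) ((td).obj M)) =
      ((adjR (dK K ((td).obj M))).homEquiv _ _).symm ∘ fun y => y ≫ η K ((td).obj M) :=
    funext fun y => te_eq K _ _ y
  rw [e1, Function.Bijective.of_comp_iff' ((adjR (dK K ((td).obj M))).homEquiv _ _).symm.bijective] at h
  have h' : Function.Bijective fun y : (td).obj (gen (A := A) i) ⟶ (td).obj M => y ≫ η K ((td).obj M) ≫ eN.hom := by
    have := ((Iso.refl ((td).obj (gen (A := A) i))).homCongr eN).bijective.comp h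
    convert this using 1
    funext y
    simp
  rw [← hφ] at h'
  have hm : Function.Bijective fun x : gen (A := A) i ⟶ M => (td).map x :=
    ⟨(td).map_injective, (td).map_surjective⟩
  have hm' : Function.Bijective fun x : gen (A := A) i ⟶ F' => (td).map x :=
    ⟨(td).map_injective, (td).map_surjective⟩
  refine (Function.Bijective.of_comp_iff' hm' _).1 ?_
  convert h'.comp hm using 1
  funext x
  exact (td).map_comp x φ

end Groth.Agent.H4RSH
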