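import Groth.Agent.H4RSH.CurveBidual
import Groth.Agent.H24Formal.Pullback
import Groth.Agent.H10Inj.SheafExt.DualTensor
import Groth.Agent.H06Mod.StalkPullback
import Groth.Agent.H10Coh.CurveBdd.Regular
import Groth.Prelude.Def_KLin
import Groth.Agent.H29Omega.ConormalDiffStalk
import Groth.Agent.H10Coh.SheafHom.Adj

/-!
# Comparison of traces along a birational morphism
-/

set_option autoImplicit false
set_option linter.style.haveILetI false
set_option linter.unusedSectionVars false
set_option backward.isDefEq.respectTransparency false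
set_option maxHeartbeats 1000000
set_option synthInstance.maxHeartbeats 400000

universe u

open CategoryTheory CategoryTheory.Limits AlgebraicGeometry TopologicalSpace Opposite TensorProduct

namespace Groth.Agent.H4RSH.BirationalTrace

open H06Mod H29Ref H16Derived.KFlat.Stalk H10Coh.SheafHom

attribute [local instance] HasDerivedCategory.standard
attribute [local instance 10000] H10Coh.hasSheafifyAb H10Coh.hasWeakSheafifyAb H10Coh.hasExtAb H10Coh.enoughInjAb

variable {X Y : Scheme.{u}}

/-- Evaluation of homomorphisms. -/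
noncomputable def evalHom (A B : Y.Modules) : tensor (RefHull.homSh A B) A ⟶ B :=
  desc (fun U θ a => (exists_eval θ a).choose)
    (fun U θ θ' a => sec_ext B fun y hy => by
      rw [map_add, (exists_eval (θ + θ') a).choose_spec.1 ⟨y, hy⟩, (exists_eval θ a).choose_spec.1 ⟨y, hy⟩,
        (exists_eval θ' a).choose_spec.1 ⟨y, hy⟩]
      rfl)
    (fun U r θ a => sec_ext B fun y hy => by
      rw [Mero.germ_smul, (exists_eval (r • θ) a).choose_spec.1 ⟨y, hy⟩, (exists_eval θ a).choose_spec.1 ⟨y, hy⟩]
      rfl)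
    (fun U θ a a' => sec_ext B fun y hy => by
      rw [map_add, (exists_eval θ (a + a')).choose_spec.1 ⟨y, hy⟩, (exists_eval θ a).choose_spec.1 ⟨y, hy⟩,
        (exists_eval θ a').choose_spec.1 ⟨y, hy⟩, map_add, map_add])
    (fun U r θ a => sec_ext B fun y hy => by
      rw [Mero.germ_smul, (exists_eval θ (r • a)).choose_spec.1 ⟨y, hy⟩, (exists_eval θ a).choose_spec.1 ⟨y, hy⟩,
        Mero.germ_smul, map_smul])
    (fun U V i θ a => sec_ext B fun y hy => by
      rw [(exists_eval _ _).choose_spec.1 ⟨y, hy⟩, B.presheaf.germ_res_apply i y hy,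
        (exists_eval θ a).choose_spec.1 ⟨y, i.le hy⟩, A.presheaf.germ_res_apply i y hy a]
      rfl)

theorem germ_evalHom (A B : Y.Modules) (U : Y.Opens) (θ : Γ(RefHull.homSh A B, U)) (a : Γ(A, U)) (y : Y) (hy : y ∈ U) :
    B.presheaf.germ U y hy ((evalHom A B).app U (tensorSect U θ a)) = θ.1 ⟨y, hy⟩ (A.presheaf.germ U y hy a) := by
  rw [evalHom, desc_tensorSect]
  exact (exists_eval θ a).choose_spec.1 ⟨y, hy⟩

/-- Homomorphisms into `A` killed by evaluation vanish at the generic point. -/
theorem stalk_eq_zero [AlgebraicGeometry.IsIntegral Y] {A B F' : Y.Modules} (hA : CohB1.IsFP A)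
    (hB : Nontrivial (B.presheaf.stalk (genericPoint Y))) (g : F' ⟶ A)
    (h : ((DCoh.tensorBi (X := Y)).obj (RefHull.homSh A B)).map g ≫ evalHom A B = 0) :
    RefHull.stalkMapₗ g (genericPoint Y) = 0 := by
  let η := genericPoint Y
  letI : Field (Y.presheaf.stalk η) := inferInstanceAs (Field Y.functionField)
  refine LinearMap.ext fun v => ?_
  refine (Module.forall_dual_apply_eq_zero_iff (Y.presheaf.stalk η) _).1 fun l => ?_
  obtain ⟨b, hb⟩ := exists_ne (0 : B.presheaf.stalk η)
  obtain ⟨θ, hθ⟩ := (evalStalk_bijective A B hA η).2 ((LinearMap.toSpanSingleton _ _ b).comp l)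
  obtain ⟨⟨U, θ, m⟩, hU, rfl, rfl⟩ := exists_germ₂ (RefHull.homSh A B) F' η θ v
  have h1 : (evalHom A B).app U (tensorSect U θ (g.app U m)) = 0 := by
    refine (congrArg ((evalHom A B).app U) (map_tensorSect g U θ m)).symm.trans ?_
    exact (congr($(congr(Scheme.Modules.Hom.app $h U)) (tensorSect U θ m)))
  have h2 := germ_evalHom A B U θ (g.app U m) η hU
  rw [h1, map_zero] at h2
  rw [RefHull.stalkMapₗ_germ] at *
  have h3 := LinearMap.congr_fun hθ (A.presheaf.germ U η hU (g.app U m))
  rw [RefHull.evalStalk_germ] at h3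
  have h4 : l (A.presheaf.germ U η hU (g.app U m)) • b = 0 := h3.symm.trans h2.symm
  exact (smul_eq_zero.1 h4).resolve_right hb

theorem le_pred {w : WithBot ℕ∞} {d : ℕ} (h : w < (d : WithBot ℕ∞)) (hd : 0 < d) :
    w ≤ ((d - 1 : ℕ) : WithBot ℕ∞) := by
  induction w with
  | bot => exact bot_le
  | coe a =>
    have h' : a < (d : ℕ∞) := WithBot.coe_lt_coe.1 h
    obtain ⟨b, rfl⟩ : ∃ b : ℕ, a = b := ⟨a.toNat, (ENat.natCast_toNat h'.ne_top).symm⟩
    exact WithBot.coe_le_coe.2 (by exact_mod_cast Nat.le_sub_one_of_lt (by exact_mod_cast h'))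

variable (f : Y ⟶ X)

theorem map_generic [AlgebraicGeometry.IsIntegral X] [AlgebraicGeometry.IsIntegral Y]
    (hbir : ∃ U : X.Opens, (U : Set X).Nonempty ∧ IsIso (f ∣_ U)) : f (genericPoint Y) = genericPoint X := by
  obtain ⟨U, ⟨x, hx⟩, hiso⟩ := hbir
  obtain ⟨z, hz⟩ := (f ∣_ U).surjective ⟨genericPoint X, (genericPoint_specializes x).mem_open U.isOpen hx⟩
  have h1 : f z.1 = genericPoint X := by
    rw [← morphismRestrict_base_coe f U z, hz]
  have h2 : f (genericPoint Y) ⤳ genericPoint X := h1 ▸ (genericPoint_specializes z.1).map f.continuous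
  exact (h2.antisymm (genericPoint_specializes _)).eq

/-- Pullback is faithful at the generic point. -/
theorem eq_zero_of_pullback [AlgebraicGeometry.IsIntegral X] [AlgebraicGeometry.IsIntegral Y]
    (hη : f (genericPoint Y) = genericPoint X) {F G : X.Modules} (φ : F ⟶ G)
    (h : RefHull.stalkMapₗ ((Scheme.Modules.pullback f).map φ) (genericPoint Y) = 0) :
    RefHull.stalkMapₗ φ (genericPoint X) = 0 := by
  rw [← hη]
  let η := genericPoint Y
  let R := X.presheaf.stalk (f.base η)
  letI := stalkAlgebra f η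
  have hR : IsField R := by
    have : IsField (X.presheaf.stalk (genericPoint X)) :=
      @Field.toIsField _ (inferInstanceAs (Field X.functionField) : Field (X.presheaf.stalk (genericPoint X)))
    exact Eq.mpr (congrArg (fun z => IsField (X.presheaf.stalk z)) hη) this
  letI := hR.toField
  refine LinearMap.ext fun v => ?_
  have h1 : pullStalk f G η (RefHull.stalkMapₗ φ (f.base η) v) = 0 :=
    (pullStalk_naturality f F η φ v).symm.trans (LinearMap.congr_fun h (pullStalk f F η v))
  have h2 : pullStalkLin f G η ((1 : Y.presheaf.stalk η) ⊗ₜ RefHull.stalkMapₗ φ (f.base η) v) = 0 := by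
    rw [pullStalkLin_tmul, one_smul, h1]
  have hinj : Function.Injective fun w : G.presheaf.stalk (f.base η) => ((1 : Y.presheaf.stalk η) ⊗ₜ[R] w) := by
    intro a b hab
    have := Module.Flat.rTensor_preserves_injective_linearMap (M := G.presheaf.stalk (f.base η))
      (Algebra.linearMap R (Y.presheaf.stalk η)) (RingHom.injective (algebraMap R (Y.presheaf.stalk η)))
    have h3 := @this ((1 : R) ⊗ₜ a) ((1 : R) ⊗ₜ b) (by
      simpa only [LinearMap.rTensor_tmul, Algebra.linearMap_apply, map_one] using hab)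
    simpa using congrArg (TensorProduct.lid R _) h3
  exact hinj (((pullStalkLin_bijective f G η).1 (h2.trans (map_zero _).symm)).trans (tmul_zero _ _).symm)

variable {k : Type u} [Field k] [X.Over (Spec (CommRingCat.of k))] [IsProper (X ↘ Spec (CommRingCat.of k))]

/-- Maps to the top dualizing module are determined at the generic point. -/
theorem eq_zero_of_generic [AlgebraicGeometry.IsIntegral X] [IsNoetherian X] {d : ℕ}
    (hd : topologicalKrullDim X = (d : WithBot ℕ∞)) {ω : X.Modules} (t : Coh.HH X ω d →ₗ[k] k)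
    (ht : ∀ G : X.Modules, Coh.IsQCoh G → ∀ ψ : Coh.HH X G d →ₗ[k] k,
      ∃! φ : G ⟶ ω, t ∘ₗ Canon.HHlin k φ d = ψ)
    (hω : Coh.IsCoh ω) {F : X.Modules} (hF : Coh.IsCoh F) (φ : F ⟶ ω)
    (h : RefHull.stalkMapₗ φ (genericPoint X) = 0) : φ = 0 := by
  let I := Abelian.image φ
  have hI : Coh.IsCoh I := H10Coh.isCoh_kernel (cokernel.π φ) hω (H10Coh.isCoh_cokernel φ hF.1 hω).1
  have hη : genericPoint X ∉ CohB1.support I := by
    refine (H25Euler.notMem_support_iff _ _).2 (@ModuleCat.isZero_of_subsingleton _ _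
      ((DerSch.stalkFunctor X (genericPoint X)).obj I) (subsingleton_of_forall_eq 0 fun c => ?_))
    obtain ⟨v, rfl⟩ := H06Mod.surjective_stalk_of_epi (Abelian.factorThruImage φ) (genericPoint X) c
    have hinj : Function.Injective (H06Mod.stalkLin (Abelian.image.ι φ) (genericPoint X)) :=
      H29Omega.stalkLin_injective_of_mono _ _
    refine hinj ((H29Omega.stalkLin_comp _ _ _ _).symm.trans ?_)
    rw [Abelian.image.fac, map_zero]
    exact LinearMap.congr_fun h v
  have hcl := H10Coh.isClosed_support I hI.2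
  have hsub : Subsingleton (Coh.HH X I d) := by
    have hlt : topologicalKrullDim (CohB1.support I) < (d : WithBot ℕ∞) :=
      H28Int.dim_lt_of_notMem (C := Set.univ) (genericPoint_spec X)
        ((Topology.IsInducing.subtypeVal.topologicalKrullDim_le).trans hd.le) hcl (fun _ _ => trivial) hη
    rcases Nat.eq_zero_or_pos d with h0 | h0
    · subst h0
      haveI : IsEmpty (CohB1.support I) := ⟨fun z => by
        haveI : Nonempty (IrreducibleCloseds ↥(CohB1.support I)) :=
          ⟨⟨closure {z}, isIrreducible_singleton.closure, isClosed_closure⟩⟩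
        exact (not_lt.2 Order.krullDim_nonneg) hlt⟩
      refine subsingleton_of_forall_eq 0 fun z => ?_
      rw [← LineSection.HHlin_id (k := k) 0 z, (IsZero.eq_of_src (H17.FPExt.isZero_of_stalk _ fun x =>
          ModuleCat.subsingleton_of_isZero ((H25Euler.notMem_support_iff _ _).1 fun hx => IsEmpty.false (⟨x, hx⟩ : CohB1.support I))) (𝟙 I) 0)]
      exact LineSection.HHlin_zero (k := k) 0 z
    · exact H10Coh.CurveBdd.subsingleton_HH_of_dim (k := k) hI.1 hcl subset_rfl (d := d - 1)
        (le_pred hlt h0) (by omega)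
  have h0 : Abelian.image.ι φ = 0 := (ht I hI.1 0).unique
    (LinearMap.ext fun x => by rw [Subsingleton.elim x 0]; simp)
    (LinearMap.ext fun x => by rw [Subsingleton.elim x 0]; simp)
  rw [← Abelian.image.fac φ, h0, comp_zero]

variable [Y.Over (Spec (CommRingCat.of k))]

theorem comp_smulMod_comp {M N P : Y.Modules} (a : M ⟶ N) (b : N ⟶ P) (c : k) :
    a ≫ Formal.smulMod k N c ≫ b = (a ≫ b) ≫ Formal.smulMod k P c := by
  rw [← LeadFF.smulMod_natural, Category.assoc]

theorem tensor_map_smulMod (F : Y.Modules) (a : k) (N : Y.Modules) :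
    ((DCoh.tensorBi (X := Y)).obj F).map (Formal.smulMod k N a) = Formal.smulMod k (CohB1.tensorMod F N) a := by
  refine tensor_ext fun U m n => ?_
  refine (map_tensorSect _ U m n).trans ?_
  refine (congrArg (tensorSect U m) (KLin.smulModΓ_app_apply N _ U n)).trans ?_
  exact (tensorSect_smul_right _ m n).trans (KLin.smulModΓ_app_apply (CohB1.tensorMod F N) _ U _).symm

/-- The transfer map on top cohomology. -/
theorem exists_surjective [AlgebraicGeometry.IsIntegral X] [AlgebraicGeometry.IsIntegral Y] [IsNoetherian X]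
    (hf : f ≫ (X ↘ Spec (CommRingCat.of k)) = Y ↘ Spec (CommRingCat.of k))
    (hη : f (genericPoint Y) = genericPoint X) {d : ℕ} (hd : topologicalKrullDim X = (d : WithBot ℕ∞))
    {ω : X.Modules} (t : Coh.HH X ω d →ₗ[k] k)
    (ht : ∀ G : X.Modules, Coh.IsQCoh G → ∀ ψ : Coh.HH X G d →ₗ[k] k,
      ∃! φ : G ⟶ ω, t ∘ₗ Canon.HHlin k φ d = ψ)
    (hω : Coh.IsCoh ω) {ω' : Y.Modules} (t' : Coh.HH Y ω' d →ₗ[k] k)
    (ht' : ∀ G : Y.Modules, Coh.IsQCoh G → ∀ ψ : Coh.HH Y G d →ₗ[k] k,
      ∃! φ : G ⟶ ω', t' ∘ₗ Canon.HHlin k φ d = ψ)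
    (hA : CohB1.IsFP ((Scheme.Modules.pullback f).obj ω))
    (hB : Nontrivial (ω'.presheaf.stalk (genericPoint Y))) {F : X.Modules} (hF : Coh.IsCoh F)
    (hP : Coh.IsQCoh (CohB1.tensorMod (RefHull.homSh ((Scheme.Modules.pullback f).obj ω) ω')
      ((Scheme.Modules.pullback f).obj F))) :
    ∃ φ : Coh.HH Y (CohB1.tensorMod (RefHull.homSh ((Scheme.Modules.pullback f).obj ω) ω')
      ((Scheme.Modules.pullback f).obj F)) d →ₗ[k] Coh.HH X F d, Function.Surjective φ := by
  let A := (Scheme.Modules.pullback f).obj ω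
  let T := (DCoh.tensorBi (X := Y)).obj (RefHull.homSh A ω')
  haveI := H10Coh.finite_HH_proper k X F hF d
  haveI : Module.Projective k (Coh.HH X F d) := Module.Projective.of_basis (Module.Basis.ofVectorSpace k _)
  let H := CohB1.tensorMod (RefHull.homSh A ω') ((Scheme.Modules.pullback f).obj F)
  let Ψ : (F ⟶ ω) → (H ⟶ ω') := fun φ => T.map ((Scheme.Modules.pullback f).map φ) ≫ evalHom A ω'
  choose g hg hguniq using fun l => ht F hF.1 l
  haveI : (Scheme.Modules.pullback f).Additive := (Scheme.Modules.pullbackPushforwardAdjunction f).left_adjoint_additive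
  have hadd : ∀ l l', g (l + l') = g l + g l' := fun l l' => (hguniq _ _ (LinearMap.ext fun x => by
    show t (LeadFF.Hm (g l + g l') d x) = _
    rw [LeadFF.Hm_add, map_add]
    exact congrArg₂ (· + ·) (LinearMap.congr_fun (hg l) x) (LinearMap.congr_fun (hg l') x))).symm
  have hsm : ∀ (c : k) l, g (c • l) = g l ≫ Formal.smulMod k ω c := fun c l => (hguniq _ _ (LinearMap.ext fun x => by
    show t (LeadFF.Hm (g l ≫ Formal.smulMod k ω c) d x) = _
    rw [LeadFF.Hm_smulMod', map_smul]
    exact congrArg (c • ·) (LinearMap.congr_fun (hg l) x))).symm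
  let ψ : Module.Dual k (Coh.HH X F d) →ₗ[k] Module.Dual k (Coh.HH Y H d) :=
    { toFun := fun l => t' ∘ₗ Canon.HHlin k (Ψ (g l)) d
      map_add' := fun l l' => LinearMap.ext fun x => by
        show t' (LeadFF.Hm (Ψ (g (l + l'))) d x) = _
        rw [hadd]
        simp only [Ψ, Functor.map_add, Preadditive.add_comp]
        rw [LeadFF.Hm_add, map_add]
        rfl
      map_smul' := fun c l => LinearMap.ext fun x => by
        show t' (LeadFF.Hm (Ψ (g (c • l))) d x) = c • t' (LeadFF.Hm (Ψ (g l)) d x)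
        rw [hsm]
        simp only [Ψ, Functor.map_comp, H24Formal.pullback_map_smulMod f hf, T]
        rw [tensor_map_smulMod, Category.assoc]
        erw [comp_smulMod_comp]
        rw [LeadFF.Hm_smulMod', map_smul] }
  have hψ : Function.Injective ψ := (injective_iff_map_eq_zero ψ).2 fun l hl => by
    have h0 : Ψ (g l) = 0 := (ht' H hP 0).unique hl (LinearMap.ext fun x => by
      show t' (LeadFF.Hm (0 : H ⟶ ω') d x) = 0
      rw [show LeadFF.Hm (0 : H ⟶ ω') d x = 0 from LineSection.HHlin_zero (k := k) d x, map_zero])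
    have h1 : g l = 0 := eq_zero_of_generic hd t ht hω hF (g l)
      (eq_zero_of_pullback f hη (g l) (stalk_eq_zero hA hB _ h0))
    rw [← hg l, h1]
    exact LinearMap.ext fun x => (congrArg t (LineSection.HHlin_zero (k := k) d x)).trans (map_zero t)
  let φ : Coh.HH Y H d →ₗ[k] Coh.HH X F d :=
    (Module.evalEquiv k (Coh.HH X F d)).symm.toLinearMap ∘ₗ ψ.dualMap ∘ₗ Module.Dual.eval k _
  refine ⟨φ, LinearMap.dualMap_injective_iff.1 fun l l' hll => hψ (LinearMap.ext fun y => ?_)⟩
  have key : ∀ l : Module.Dual k (Coh.HH X F d), l (φ y) = ψ l y := fun l => by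
    show l ((Module.evalEquiv k _).symm (ψ.dualMap (Module.Dual.eval k _ y))) = _
    rw [Module.apply_evalEquiv_symm_apply]
    rfl
  rw [← key, ← key]
  exact LinearMap.congr_fun hll y

end Groth.Agent.H4RSH.BirationalTrace
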