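import Groth.Agent.H4RSH.SerreCurve
import Groth.Agent.H4RSH.LineSection
import Groth.Agent.H29CurveDual.PushH1
import Groth.Agent.H10Inj.SheafExt.ChangeRings
import Groth.Agent.H28Int.Dual
import Groth.Agent.H29Fitt.PullbackQCoh
import Groth.Agent.H29Ref.DualStalk

/-!
# Dualizing modules along closed immersions
-/

set_option autoImplicit false
set_option linter.style.haveILetI false
set_option linter.unusedSectionVars false
set_option backward.isDefEq.respectTransparency false
set_option maxHeartbeats 1000000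
set_option synthInstance.maxHeartbeats 400000

universe u

open CategoryTheory CategoryTheory.Limits AlgebraicGeometry
open Groth.Agent.H10Inj.SheafExt

namespace Groth.Agent.H4RSH.ClosedDual

attribute [local instance] HasDerivedCategory.standard
attribute [local instance 10000] H10Coh.hasSheafifyAb H10Coh.hasWeakSheafifyAb H10Coh.hasExtAb H10Coh.enoughInjAb

variable {k : Type u} [Field k] {X Y : Scheme.{u}} [X.Over (Spec (CommRingCat.of k))]
  [Y.Over (Spec (CommRingCat.of k))]

/-- Modules representing the same functional are isomorphic. -/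
theorem nonempty_iso_of_repDual {n : ℕ} {A B : X.Modules} (hA : Coh.IsQCoh A) (hB : Coh.IsQCoh B)
    (s : Coh.HH X A n →ₗ[k] k) (t : Coh.HH X B n →ₗ[k] k)
    (hs : ∀ F : X.Modules, Coh.IsQCoh F → H29Serre.RepDual s F)
    (ht : ∀ F : X.Modules, Coh.IsQCoh F → H29Serre.RepDual t F) : Nonempty (A ≅ B) := by
  obtain ⟨u, hu, -⟩ := ht A hA s
  obtain ⟨v, hv, -⟩ := hs B hB t
  refine ⟨⟨u, v, (hs A hA s).unique ?_ ?_, (ht B hB t).unique ?_ ?_⟩⟩
  · rw [H29Serre.lin_comp, ← LinearMap.comp_assoc, ← hv, ← hu]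
  · exact LinearMap.ext fun x => congrArg s (LineSection.HHlin_id (k := k) n x).symm
  · rw [H29Serre.lin_comp, ← LinearMap.comp_assoc, ← hu, ← hv]
  · exact LinearMap.ext fun x => congrArg t (LineSection.HHlin_id (k := k) n x).symm

variable (i : Y ⟶ X) [IsClosedImmersion i]

/-- `i_* i^! G ≅ 𝓗om(i_* O, G)`. -/
theorem nonempty_push_shriek_iso (G : X.Modules) :
    Nonempty ((Coh.push i).obj ((shriek i).obj G) ≅ RefHull.homSh ((Coh.push i).obj (Coh.structureModule Y)) G) := by
  let u : homFunctor (Coh.structureModule Y) ≅ 𝟭 Y.Modules :=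
    ((homAdj (Coh.structureModule Y)).ofNatIsoLeft (H28Int.tensorLeftUnitIso (X := Y))).rightAdjointUniq
      Adjunction.id
  exact ⟨(Coh.push i).mapIso (u.app _).symm ≪≫ (changeIso i (Coh.structureModule Y)).app G⟩

/-- The dualizing module of a closed subscheme. -/
theorem nonempty_push_iso [IsLocallyNoetherian X] (hi : i ≫ (X ↘ Spec (CommRingCat.of k)) = Y ↘ Spec (CommRingCat.of k))
    {n : ℕ} {ωX : X.Modules} (hωX : Coh.IsCoh ωX) (tX : Coh.HH X ωX n →ₗ[k] k)
    (hX : ∀ F : X.Modules, Coh.IsQCoh F → H29Serre.RepDual tX F)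
    {ωY : Y.Modules} (hωY : Coh.IsQCoh ωY) (tY : Coh.HH Y ωY n →ₗ[k] k)
    (hY : ∀ F : Y.Modules, Coh.IsQCoh F → H29Serre.RepDual tY F) :
    Nonempty ((Coh.push i).obj ωY ≅ RefHull.homSh ((Coh.push i).obj (Coh.structureModule Y)) ωX) := by
  let J := (shriek i).obj ωX
  obtain ⟨e⟩ := nonempty_push_shriek_iso i ωX
  haveI : IsLocallyNoetherian Y := LocallyOfFiniteType.isLocallyNoetherian i
  have hq : Coh.IsQCoh ((Coh.push i).obj J) :=
    (SheafOfModules.isQuasicoherent X.ringCatSheaf).prop_of_iso e.symm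
      (H29Ref.isCoh_homSh _ ωX (H10Coh.isCoh_push_of_isFinite i _ (H10Coh.isCoh_structureModule' Y)) hωX).1
  haveI := H16Derived.ProjFormula.isIso_counit_of_isClosedImmersion i J
  have hJ : Coh.IsQCoh J := (SheafOfModules.isQuasicoherent Y.ringCatSheaf).prop_of_iso
    (asIso ((H16Derived.ProjFormula.adj i).counit.app J)) (H29Fitt.isQCoh_pullback i _ hq)
  haveI : J.IsQuasicoherent := hJ
  obtain ⟨s, hs⟩ := H29CurveDual.exists_repDual_of_push i hi (ω := J) (ω' := ωX)
    ((shriekAdj i).counit.app ωX) tX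
  have hs' : ∀ F : Y.Modules, Coh.IsQCoh F → H29Serre.RepDual s F := fun F hF => by
    haveI : F.IsQuasicoherent := hF
    refine hs F hF (hX _ (H10Coh.isQuasicoherent_pushforward_of_isAffineHom i F)) fun ψ => ?_
    refine ⟨((shriekAdj i).homEquiv _ _) ψ, ?_, fun φ hφ => ?_⟩
    · exact ((shriekAdj i).homEquiv_counit _ _ _).symm.trans (((shriekAdj i).homEquiv _ _).symm_apply_apply ψ)
    · rw [← hφ]
      exact (((shriekAdj i).homEquiv _ _).apply_symm_apply φ).symm.trans (congrArg _ ((shriekAdj i).homEquiv_counit _ _ _))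
  obtain ⟨d⟩ := nonempty_iso_of_repDual hωY hJ tY s hY hs'
  exact ⟨(Coh.push i).mapIso d ≪≫ e⟩

end Groth.Agent.H4RSH.ClosedDual
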