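import Groth.Agent.LeadFBC.BC
import Groth.Agent.H29CurveDual.PushH1
import Groth.Agent.H24Quot.Scalars

/-!
# Flat base change of cohomology by pulling back classes, naturally
-/

set_option autoImplicit false
set_option linter.style.haveILetI false
set_option linter.unusedSectionVars false
set_option maxHeartbeats 1000000
set_option synthInstance.maxHeartbeats 400000

universe u

open AlgebraicGeometry CategoryTheory CategoryTheory.Limits TopologicalSpace Opposite
open scoped TensorProduct

noncomputable section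

namespace Groth.Agent.H4RSH.CohBC

open Groth.Agent.H10Coh Groth.Agent.LeadBC Groth.Agent.LeadFF Groth.Agent.LeadFBC

attribute [local instance 10000] hasSheafifyAb hasWeakSheafifyAb hasExtAb enoughInjAb
attribute [local instance] enoughInjMod

variable (A B : Type u) [CommRing A] [CommRing B] [Algebra A B] {Y Y' : Scheme.{u}}
  [Y.Over (Spec (CommRingCat.of A))] [Y'.Over (Spec (CommRingCat.of B))] {q : Y' ⟶ Y}
  (hsq : IsPullback q (Y' ↘ Spec (CommRingCat.of B)) (Y ↘ Spec (CommRingCat.of A))
    (Spec.map (CommRingCat.ofHom (algebraMap A B))))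

theorem pushAdd_natural [IsAffineHom q] {M N : Y'.Modules} [M.IsQuasicoherent] [N.IsQuasicoherent] (φ : M ⟶ N)
    (n : ℕ) (x : Coh.HH Y ((Coh.push q).obj M) n) :
    H29CurveDual.pushAdd q N n (Hm ((Coh.push q).map φ) n x) = Hm φ n (H29CurveDual.pushAdd q M n x) := by
  apply (HHEquiv N n).injective
  refine ((HHEquiv N n).apply_symm_apply _).trans ?_
  refine Eq.trans ?_ (topEquiv_map ((shF Y').map φ) n _).symm
  rw [show topEquiv (sh M) n (H29CurveDual.pushAdd q M n x) = affineLerayEquiv q M n ⊤ (HHEquiv _ n x) from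
    (HHEquiv M n).apply_symm_apply _]
  exact (congrArg (affineLerayEquiv q N n ⊤) (topEquiv_map ((shF Y).map ((Coh.push q).map φ)) n x)).trans
    (H29CurveDual.affineLerayEquiv_natural q φ n ⊤ _)

/-- `x ↦ b • q^* x`. -/
def cMap (F : Y.Modules) (b : B) : F ⟶ (Coh.push q).obj ((Scheme.Modules.pullback q).obj F) :=
  (Scheme.Modules.pullbackPushforwardAdjunction q).unit.app F ≫
    (Coh.push q).map (Formal.smulMod B ((Scheme.Modules.pullback q).obj F) b)

theorem cMap_natural {F G : Y.Modules} (φ : F ⟶ G) (b : B) :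
    φ ≫ cMap B G b = cMap B (q := q) F b ≫ (Coh.push q).map ((Scheme.Modules.pullback q).map φ) := by
  rw [cMap, cMap, Category.assoc, ← Functor.map_comp, ← LeadFF.smulMod_natural, Functor.map_comp]
  exact ((Category.assoc _ _ _).symm.trans
    (congrArg (· ≫ _) ((Scheme.Modules.pullbackPushforwardAdjunction q).unit.naturality φ))).trans
      (Category.assoc _ _ _)

theorem cMap_mul (F : Y.Modules) (b b' : B) :
    cMap B (q := q) F (b' * b) = cMap B F b ≫ (Coh.push q).map (Formal.smulMod B _ b') := by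
  rw [cMap, cMap, Category.assoc, ← Functor.map_comp]
  refine congrArg (fun z => _ ≫ (Coh.push q).map z) (LeadFF.hom_ext_sections _ _ fun U m => ?_)
  rw [Scheme.Modules.Hom.comp_app, ConcreteCategory.comp_apply, smulMod_app, smulMod_app, smulMod_app]
  rw [map_mul, mul_smul]

theorem cMap_add (F : Y.Modules) (b b' : B) : cMap B (q := q) F (b + b') = cMap B F b + cMap B F b' := by
  rw [cMap, cMap, cMap, ← Preadditive.comp_add, ← Functor.map_add]
  refine congrArg (fun z => _ ≫ (Coh.push q).map z) (LeadFF.hom_ext_sections _ _ fun U m => ?_)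
  show _ = (Formal.smulMod B _ b).app U m + (Formal.smulMod B _ b').app U m
  rw [smulMod_app, smulMod_app, smulMod_app]
  rw [map_add, add_smul]

include hsq in
theorem cMap_algebra (F : Y.Modules) (a : A) (b : B) :
    cMap B (q := q) F (a • b) = Formal.smulMod A F a ≫ cMap B F b := by
  rw [cMap_natural B (Formal.smulMod A F a) b,
    H24Quot.pullback_map_smulMod q (algebraMap A B) hsq.w F a, Algebra.smul_def, cMap_mul]

variable [hq : IsAffineHom q] (F : Y.Modules) [F.IsQuasicoherent]

/-- `b ⊗ x ↦ b • q^* x` on cohomology. -/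
def P (n : ℕ) : B ⊗[A] Coh.HH Y F n →+ Coh.HH Y' ((Scheme.Modules.pullback q).obj F) n :=
  haveI : ((Scheme.Modules.pullback q).obj F).IsQuasicoherent := H29Fitt.isQCoh_pullback q F ‹_›
  TensorProduct.liftAddHom
    (AddMonoidHom.mk' (fun b => AddMonoidHom.mk'
        (fun x => H29CurveDual.pushAdd q _ n (Hm (cMap B F b) n x)) fun x y => by rw [map_add, map_add])
      fun b b' => AddMonoidHom.ext fun x => by
        show H29CurveDual.pushAdd q _ n (Hm (cMap B F (b + b')) n x) = _
        rw [cMap_add, Hm_add, map_add]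
        rfl)
    fun a b x => by
      show H29CurveDual.pushAdd q _ n (Hm (cMap B F (a • b)) n x) = H29CurveDual.pushAdd q _ n (Hm (cMap B F b) n (a • x))
      rw [cMap_algebra A B hsq, Hm_comp, Hm_smulMod]

theorem P_tmul (n : ℕ) (b : B) (x : Coh.HH Y F n) :
    haveI : ((Scheme.Modules.pullback q).obj F).IsQuasicoherent := H29Fitt.isQCoh_pullback q F ‹_›
    P A B hsq F n (b ⊗ₜ x) = H29CurveDual.pushAdd q _ n (Hm (cMap B F b) n x) := rfl

theorem P_smul (n : ℕ) (b b' : B) (x : Coh.HH Y F n) :
    P A B hsq F n ((b' * b) ⊗ₜ x) = b' • P A B hsq F n (b ⊗ₜ x) := by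
  haveI : ((Scheme.Modules.pullback q).obj F).IsQuasicoherent := H29Fitt.isQCoh_pullback q F ‹_›
  refine (P_tmul A B hsq F n (b' * b) x).trans ?_
  refine (congrArg (fun z => H29CurveDual.pushAdd q _ n (Hm z n x)) (cMap_mul B F b b')).trans ?_
  refine (congrArg (H29CurveDual.pushAdd q _ n) (Hm_comp _ _ n x)).trans ?_
  refine (pushAdd_natural (Formal.smulMod B ((Scheme.Modules.pullback q).obj F) b') n _).trans ?_
  exact Hm_smulMod _ n b' _

theorem P_natural {G : Y.Modules} [G.IsQuasicoherent] (φ : F ⟶ G) (n : ℕ) (b : B) (x : Coh.HH Y F n) :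
    P A B hsq G n (b ⊗ₜ Hm φ n x) = Hm ((Scheme.Modules.pullback q).map φ) n (P A B hsq F n (b ⊗ₜ x)) := by
  haveI : ((Scheme.Modules.pullback q).obj F).IsQuasicoherent := H29Fitt.isQCoh_pullback q F ‹_›
  haveI : ((Scheme.Modules.pullback q).obj G).IsQuasicoherent := H29Fitt.isQCoh_pullback q G ‹_›
  refine (P_tmul A B hsq G n b (Hm φ n x)).trans ?_
  refine Eq.trans ?_ (congrArg (Hm ((Scheme.Modules.pullback q).map φ) n) (P_tmul A B hsq F n b x)).symm
  refine (congrArg (H29CurveDual.pushAdd q _ n)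
    ((Hm_comp φ (cMap B (q := q) G b) n x).symm.trans
      ((congrArg (fun z => Hm z n x) (cMap_natural B φ b)).trans
        (Hm_comp (cMap B (q := q) F b) ((Coh.push q).map ((Scheme.Modules.pullback q).map φ)) n x)))).trans ?_
  exact pushAdd_natural ((Scheme.Modules.pullback q).map φ) n _

theorem bcHom_eq (b : B) :
    bcHom B F B (q := q) b = cMap B F b ≫ (Coh.push q).map
      (uMap B ((Scheme.Modules.pullback q).obj F) (ModuleCat.of B B) (1 : B)) := by
  haveI : ((Scheme.Modules.pullback q).obj F).IsQuasicoherent := H29Fitt.isQCoh_pullback q F ‹_›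
  have hb' : uMap B ((Scheme.Modules.pullback q).obj F) (ModuleCat.of B B) b =
      Formal.smulMod B ((Scheme.Modules.pullback q).obj F) b ≫
        uMap B ((Scheme.Modules.pullback q).obj F) (ModuleCat.of B B) (1 : B) := by
    refine Eq.trans ?_ (uMap_smul B ((Scheme.Modules.pullback q).obj F) (ModuleCat.of B B) b (1 : B))
    exact congrArg (uMap B ((Scheme.Modules.pullback q).obj F) (ModuleCat.of B B)) (mul_one b).symm
  show ((Scheme.Modules.pullbackPushforwardAdjunction q).homEquiv _ _)
    (uMap B ((Scheme.Modules.pullback q).obj F) (ModuleCat.of B B) b) = _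
  rw [hb', Adjunction.homEquiv_unit, cMap, Category.assoc, Functor.map_comp]

/-- The comparison with coefficients. -/
def leray (n : ℕ) (b : B) (x : Coh.HH Y F n) : HnM (GX' B F B (q := q)) n ⊤ :=
  affineLerayEquiv q (GX' B F B (q := q)) n ⊤
    (HHEquiv ((Coh.push q).obj (GX' B F B (q := q))) n (Hm (bcHom B F B (q := q) b) n x))

include hsq in
theorem leray_eq (n : ℕ) (b : B) (x : Coh.HH Y F n) :
    leray B F n b x = affineLerayEquiv q (GX' B F B (q := q)) n ⊤
      (θ (ρF A F) (μBC B F B (q := q)) (μBC_smul A B hsq F B) (Zsh (⊤ : Y.Opens)) n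
        (b ⊗ₜ[A] (show extMod (ρF A F) (Zsh (⊤ : Y.Opens)) n from HHEquiv F n x))) := by
  rw [θ_tmul]
  exact congrArg (affineLerayEquiv q (GX' B F B (q := q)) n ⊤)
    (topEquiv_map ((shF Y).map (bcHom B F B (q := q) b)) n x)

theorem HHEquiv_P (n : ℕ) (b : B) (x : Coh.HH Y F n) :
    HHEquiv (GX' B F B (q := q)) n (Hm (uMap B ((Scheme.Modules.pullback q).obj F) (ModuleCat.of B B) (1 : B)) n
      (P A B hsq F n (b ⊗ₜ x))) = leray B F n b x := by
  haveI : ((Scheme.Modules.pullback q).obj F).IsQuasicoherent := H29Fitt.isQCoh_pullback q F ‹_›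
  refine (congrArg (fun z => HHEquiv (GX' B F B (q := q)) n (Hm _ n z)) (P_tmul A B hsq F n b x)).trans ?_
  refine (congrArg (HHEquiv (GX' B F B (q := q)) n) (pushAdd_natural
    (uMap B ((Scheme.Modules.pullback q).obj F) (ModuleCat.of B B) (1 : B)) n _).symm).trans ?_
  refine (congrArg (fun z => HHEquiv (GX' B F B (q := q)) n (H29CurveDual.pushAdd q _ n z))
    ((Hm_comp _ _ n x).symm.trans (congrArg (fun z => Hm z n x) (bcHom_eq B F b).symm))).trans ?_
  exact (HHEquiv (GX' B F B (q := q)) n).apply_symm_apply _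

theorem bijective_P [Module.Flat A B] [CompactSpace Y] [QuasiSeparatedSpace Y] (n : ℕ) :
    Function.Bijective (P A B hsq F n) := by
  let F' := (Scheme.Modules.pullback q).obj F
  haveI : F'.IsQuasicoherent := H29Fitt.isQCoh_pullback q F ‹_›
  let G := GX' B F B (q := q)
  let u : F' ⟶ G := uMap B F' (ModuleCat.of B B) (1 : B)
  haveI : IsIso u := isIso_uMap_one B F'
  let e : Coh.HH Y F n ≃ₗ[A] extMod (ρF A F) (Zsh (⊤ : Y.Opens)) n :=
    { HHEquiv F n with map_smul' := fun a x => HHEquiv_smul' F n a x }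
  let L := affineLerayEquiv q G n ⊤
  let T : B ⊗[A] Coh.HH Y F n →+ HnM G n ⊤ := (L.toAddMonoidHom.comp
    (θ (ρF A F) (μBC B F B (q := q)) (μBC_smul A B hsq F B) (Zsh (⊤ : Y.Opens)) n)).comp
    (e.toLinearMap.lTensor B).toAddMonoidHom
  have hT : Function.Bijective T :=
    L.bijective.comp ((good_bc A B hsq F B n).comp (TensorProduct.congr (LinearEquiv.refl A B) e).bijective)
  have hu : Function.Bijective (Hm u n : Coh.HH Y' F' n → Coh.HH Y' G n) := by
    refine Function.bijective_iff_has_inverse.2 ⟨Hm (inv u) n, fun x => ?_, fun x => ?_⟩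
    · rw [← Hm_comp, IsIso.hom_inv_id, Hm_id]
    · rw [← Hm_comp, IsIso.inv_hom_id, Hm_id]
  have key : ∀ z, HHEquiv G n (Hm u n (P A B hsq F n z)) = T z := fun z => by
    induction z using TensorProduct.induction_on with
    | zero => simp only [map_zero]
    | add x y hx hy => simp only [map_add, hx, hy]
    | tmul b x =>
      exact (HHEquiv_P A B hsq F n b x).trans (leray_eq A B hsq F n b x)
  refine (hu.of_comp_iff' _).1 (((HHEquiv G n).bijective.of_comp_iff' _).1 ?_)
  rw [show ((HHEquiv G n) ∘ (Hm u n ∘ P A B hsq F n)) = T from funext key]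
  exact hT

end Groth.Agent.H4RSH.CohBC
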