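import Groth.Agent.H4RSH.DualBC
import Groth.Agent.H4RSH.ClosedDual
import Groth.Agent.H4RSH.LineSection

/-!
# The dualizing module over a field is a dualizing sheaf
-/

set_option autoImplicit false
set_option linter.style.haveILetI false
set_option maxHeartbeats 1000000
set_option synthInstance.maxHeartbeats 400000

universe u

open AlgebraicGeometry CategoryTheory CategoryTheory.Limits

attribute [local instance] HasDerivedCategory.standard

noncomputable section

namespace Groth.Agent.H4RSH.DualMod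

variable (k : Type u) [Field k] (X : Scheme.{u}) [X.Over (Spec (CommRingCat.of k))]
  [IsProper (X ↘ Spec (CommRingCat.of k))]

/-- The dualizing module is a dualizing sheaf. -/
theorem isDualizingSheaf_dualizingMod [DCoh.HasRpush (X ↘ Spec (CommRingCat.of k))]
    (h : DCoh.RpushPreservesQCoh (X ↘ Spec (CommRingCat.of k)))
    [DCoh.HasShriek (X ↘ Spec (CommRingCat.of k)) h] (OY : DCoh.DQCoh (Spec (CommRingCat.of k)))
    (hOY : Nonempty (OY.obj ≅ DCoh.inD (Spec (CommRingCat.of k)) (Coh.structureModule (Spec (CommRingCat.of k)))))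
    (d : ℕ) (hd : topologicalKrullDim X ≤ (d : WithBot ℕ∞)) :
    RelCanon.IsDualizingSheaf k X d (DCoh.dualizingMod (X ↘ Spec (CommRingCat.of k)) h OY d) := by
  have adj := DCoh.shriekAdj (X ↘ Spec (CommRingCat.of k)) h
  haveI := H4RepDual.hasExtModules X
  obtain ⟨hc, hN, hE, hcoh, -⟩ := H4RSH.ProperLocal.exists_setup_field (X ↘ Spec (CommRingCat.of k)) adj OY hOY
  obtain ⟨t, ht⟩ := H4RSH.SerreDual.exists_trace adj OY hOY hd
  exact ⟨t, (hcoh _).1, fun F hF => Function.bijective_iff_existsUnique _ |>.2 fun ψ => ht F hF ψ⟩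

/-- Two dualizing sheaves are isomorphic. -/
theorem nonempty_iso_of_isDualizingSheaf {Y : Scheme.{u}} [Y.Over (Spec (CommRingCat.of k))] {d : ℕ}
    {ω ω' : Y.Modules} (hω : RelCanon.IsDualizingSheaf k Y d ω) (hω' : RelCanon.IsDualizingSheaf k Y d ω') :
    Nonempty (ω ≅ ω') := by
  obtain ⟨s, hq, hs⟩ := hω
  obtain ⟨t, hq', ht⟩ := hω'
  exact ClosedDual.nonempty_iso_of_repDual hq hq' s t
    (fun F hF => (H17.Canon.repDual_iff F).2 (hs F hF)) (fun F hF => (H17.Canon.repDual_iff F).2 (ht F hF))

end Groth.Agent.H4RSH.DualMod
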