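import Groth.Agent.H4RSH.OpenPull
import Groth.Agent.H16Derived.Dual.BiDual
import Groth.Agent.H16Derived.PnD.Unit
import Groth.Agent.LeadBrown.BCCore

/-!
# The biduality map with respect to an arbitrary object
-/

set_option autoImplicit false
set_option linter.style.haveILetI false
set_option linter.unusedSectionVars false
set_option backward.isDefEq.respectTransparency false
set_option maxHeartbeats 1000000

universe u

open CategoryTheory CategoryTheory.Limits CategoryTheory.Functor AlgebraicGeometry Pretriangulated Opposite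

attribute [local instance] HasDerivedCategory.standard

namespace Groth.Agent.H4RSH

open Groth.Agent.H16Derived Groth.Agent.H16Derived.QCohD Groth.Agent.H25DTen Groth.Agent.H16Derived.Dual
  Groth.Agent.H16Derived.KFlat.Stalk
open Groth.Agent.LeadBrown (evS Rmap_evS wR wR_evS cT)

variable {X : Scheme.{u}} (K : DCoh.D X)

/-- The dual with respect to `K`. -/
noncomputable abbrev dK (k : DCoh.D X) : DCoh.D X := (R k).obj K

/-- `k ⟶ RHom(RHom(k, K), K)`. -/
noncomputable def η (k : DCoh.D X) : k ⟶ (R (dK K k)).obj K := (adjR (dK K k)).homEquiv _ _ (evS k K)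

/-- `Hom(g, k) ⟶ Hom(g ⊗ RHom(k, K), K)`. -/
noncomputable def te (g k : DCoh.D X) : (g ⟶ k) →+ (((T X).obj g).obj (dK K k) ⟶ K) :=
  AddMonoidHom.mk' (fun y => ((T X).map y).app (dK K k) ≫ evS k K) fun x y => by
    change ((T X).flip.obj (dK K k)).map (x + y) ≫ _ = _
    rw [Functor.map_add]
    exact Preadditive.add_comp _ _ _ _ _ _

lemma te_eq (g k : DCoh.D X) (y : g ⟶ k) :
    te K g k y = ((adjR (dK K k)).homEquiv _ _).symm (y ≫ η K k) := by
  rw [η, ← Adjunction.homEquiv_naturality_left, Equiv.symm_apply_apply]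
  rfl

lemma te_naturality (g : DCoh.D X) {k k' : DCoh.D X} (φ : k ⟶ k') (y : g ⟶ k) :
    te K g k' (y ≫ φ) = ((T X).obj g).map (Rmap φ K) ≫ te K g k y := by
  show ((T X).map (y ≫ φ)).app (dK K k') ≫ evS k' K = _ ≫ ((T X).map y).app (dK K k) ≫ evS k K
  rw [Functor.map_comp, NatTrans.comp_app, Category.assoc, ← Rmap_evS φ K, NatTrans.naturality_assoc]

variable (g : DCoh.D X)

/-- `k ↦ Hom(g ⊗ RHom(k, K), K)`. -/
noncomputable def bidK : DCoh.D X ⥤ AddCommGrpCat.{u + 1} where
  obj k := AddCommGrpCat.of (((T X).obj g).obj (dK K k) ⟶ K)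
  map φ := AddCommGrpCat.ofHom (Preadditive.leftComp K (((T X).obj g).map (Rmap φ K)))
  map_id k := by
    ext x
    change ((T X).obj g).map (Rmap (𝟙 k) K) ≫ x = x
    rw [LeadBrown.Rmap_id, CategoryTheory.Functor.map_id, Category.id_comp]
  map_comp φ ψ := by
    ext x
    change ((T X).obj g).map (Rmap (φ ≫ ψ) K) ≫ x = _ ≫ _ ≫ x
    rw [LeadBrown.Rmap_comp, Functor.map_comp, Category.assoc]

/-- The natural transformation. -/
noncomputable def teNat : preadditiveCoyoneda.obj (op g) ⟶ bidK K g where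
  app k := AddCommGrpCat.ofHom (te K g k)
  naturality k k' φ := by
    ext y
    exact te_naturality K g φ y

theorem isExact_bidK : Dev.IsExact (bidK K g) := by
  intro T₀ hT x
  constructor
  · intro hx
    obtain ⟨C, j, δ, hd⟩ := distinguished_cocone_triangle₁ (Rmap T₀.mor₁ K)
    have hj : j ≫ Rmap T₀.mor₁ K = 0 := comp_distTriang_mor_zero₁₂ _ hd
    let z := ((adjR T₀.obj₂).homEquiv _ _).symm j
    have hz : ((T X).obj C).map T₀.mor₁ ≫ z = 0 := by
      rw [← comp_Rmap, hj, Adjunction.homEquiv_counit]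
      exact (congrArg (· ≫ _) (((T X).flip.obj T₀.obj₁).map_zero _ _)).trans zero_comp
    obtain ⟨r, hr⟩ := Dev.exists_factor_map (Adjunction.ofIsLeftAdjoint ((T X).obj C)) _ hT _ hz
    let t := (adjR T₀.obj₃).homEquiv _ _ r
    have htj : t ≫ Rmap T₀.mor₂ K = j := ((adjR _).homEquiv _ _).symm.injective (by
      rw [comp_Rmap, Equiv.symm_apply_apply]; exact hr)
    have h0 : ((T X).obj g).map j ≫ x = 0 := by
      rw [← htj, Functor.map_comp, Category.assoc]
      exact (congrArg (_ ≫ ·) hx).trans comp_zero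
    obtain ⟨q, hq⟩ := Dev.exists_factor_map (Adjunction.ofIsLeftAdjoint ((T X).obj g)) _ hd x h0
    exact ⟨q, hq⟩
  · rintro ⟨y, rfl⟩
    change ((T X).obj g).map (Rmap T₀.mor₂ K) ≫ ((T X).obj g).map (Rmap T₀.mor₁ K) ≫ y = 0
    rw [← Functor.map_comp_assoc, ← LeadBrown.Rmap_comp, comp_distTriang_mor_zero₁₂ _ hT, LeadBrown.Rmap_zero,
      Functor.map_zero, zero_comp]

variable {g}

/-- `η` is an isomorphism over `A` for all shifts. -/
def ReflK (A : X.Opens) (k : DCoh.D X) : Prop := ∀ n : ℤ, IsoOn A (η K (k⟦n⟧))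

lemma isoOn_η_iff (A : X.Opens) (k : DCoh.D X) :
    IsoOn A (η K k) ↔ ∀ H : DCoh.D X, Function.Bijective (te K (cut A H) k) := by
  rw [isoOn_iff_bijective]
  refine forall_congr' fun H => ?_
  have e : ⇑(te K (cut A H) k) = ((adjR (dK K k)).homEquiv _ _).symm ∘ fun y => y ≫ η K k :=
    funext fun y => te_eq K _ _ y
  rw [e, Function.Bijective.of_comp_iff' ((adjR (dK K k)).homEquiv _ _).symm.bijective]

lemma bijective_te_of_isIso {k : DCoh.D X} (h : IsIso (η K k)) (g : DCoh.D X) : Function.Bijective (te K g k) := by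
  have e : ⇑(te K g k) = ((adjR (dK K k)).homEquiv _ _).symm ∘ fun y => y ≫ η K k :=
    funext fun y => te_eq K _ _ y
  rw [e]
  exact ((adjR (dK K k)).homEquiv _ _).symm.bijective.comp ((isIso_iff_yoneda_map_bijective (η K k)).1 h g)

lemma te_bijective_iff_of_isoOn (A : X.Opens) {k k' : DCoh.D X} {φ : k ⟶ k'} (h : IsoOn A φ)
    (H : DCoh.D X) :
    Function.Bijective (te K (cut A H) k') ↔ Function.Bijective (te K (cut A H) k) := by
  have hl : Function.Bijective (fun y : cut A H ⟶ k => y ≫ φ) := (isoOn_iff_bijective A _).1 h H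
  haveI := isIso_TObj_cut A H (LeadBrown.isoOn_Rmap h K)
  have hr : Function.Bijective fun z : ((T X).obj (cut A H)).obj (dK K k) ⟶ K =>
      ((T X).obj (cut A H)).map (Rmap φ K) ≫ z :=
    ((asIso (((T X).obj (cut A H)).map (Rmap φ K))).symm.homCongr (Iso.refl K)).bijective |> fun hb => by
      convert hb using 1
      funext z
      simp
  have e : ⇑(te K (cut A H) k') ∘ (fun y => y ≫ φ) =
      (fun z => ((T X).obj (cut A H)).map (Rmap φ K) ≫ z) ∘ ⇑(te K (cut A H) k) :=
    funext fun y => te_naturality K _ φ y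
  rw [← Function.Bijective.of_comp_iff _ hl, e, Function.Bijective.of_comp_iff' hr]

theorem invOn_reflK (A : X.Opens) : InvOn A (ReflK K A) := fun {k k'} φ h => by
  refine forall_congr' fun n => ?_
  rw [isoOn_η_iff, isoOn_η_iff]
  exact forall_congr' fun H => te_bijective_iff_of_isoOn K A (h.shift n) H

theorem stable_reflK (A : X.Opens) : Stable (X := X) (ReflK K A) where
  of_iso e h := (invOn_reflK K A e.inv (isoOn_of_isIso A _)).1 h
  shift {k} h n p := by
    have := h (n + p)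
    rw [isoOn_η_iff] at this ⊢
    intro H
    exact (te_bijective_iff_of_isoOn K A
      (isoOn_of_isIso A ((shiftFunctorAdd (DCoh.D X) n p).app k).hom) H).2 (this H)
  ext₂ T₀ hT h₁ h₃ n := by
    rw [isoOn_η_iff]
    intro H
    exact Dev.bijective_shift_ext (teNat K (cut A H)) (Dual.isExact_coyoneda (g := cut A H)) (isExact_bidK K _)
      T₀ hT (fun p => (isoOn_η_iff K A _).1 (h₁ p) H) (fun p => (isoOn_η_iff K A _).1 (h₃ p) H) n
  of_isZero {k} hk n := by
    have hz : IsZero (k⟦n⟧) := Functor.map_isZero _ hk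
    have h2 : IsZero ((R (dK K (k⟦n⟧))).obj K) := by
      rw [IsZero.iff_id_eq_zero]
      apply ((adjR _).homEquiv _ _).symm.injective
      exact (Functor.map_isZero ((T X).obj _) (LeadBrown.isZero_R hz K)).eq_of_src _ _
    haveI : IsIso (η K (k⟦n⟧)) := isIso_of_source_target_iso_zero _ hz.isoZero h2.isoZero
    exact isoOn_of_isIso A _

/-- An adjoint of an isomorphism into an object isomorphic to one with commutative endomorphisms is invertible. -/
theorem isIso_homEquiv' {C D : Type*} [Category C] [Category D] {F : C ⥤ D} {G : D ⥤ C} (adj : F ⊣ G)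
    {c : C} (hcomm : ∀ p q : c ⟶ c, p ≫ q = q ≫ p) {L : D} (υ : F.obj c ⟶ L) [IsIso υ] (u : c ≅ G.obj L) :
    IsIso ((adj.homEquiv c L) υ) := by
  set x := (adj.homEquiv c L) υ
  let e : L ⟶ L := inv υ ≫ (adj.homEquiv c L).symm u.hom
  have h1 : x ≫ G.map e = u.hom := by
    rw [← adj.homEquiv_naturality_right, IsIso.hom_inv_id_assoc, Equiv.apply_symm_apply]
  let r : c ⟶ c := x ≫ u.inv
  let s : c ⟶ c := u.hom ≫ G.map e ≫ u.inv
  have h2 : r ≫ s = 𝟙 c := by
    simp only [r, s, Category.assoc, Iso.inv_hom_id_assoc]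
    rw [← Category.assoc x, h1, Iso.hom_inv_id]
  haveI : IsIso r := ⟨s, h2, (hcomm s r).trans h2⟩
  have h3 : x = r ≫ u.hom := by simp [r]
  rw [h3]
  infer_instance

theorem comm_of_iso {C : Type*} [Category C] {a b : C} (e : a ≅ b) (h : ∀ p q : a ⟶ a, p ≫ q = q ≫ p)
    (p q : b ⟶ b) : p ≫ q = q ≫ p := by
  have := h (e.hom ≫ p ≫ e.inv) (e.hom ≫ q ≫ e.inv)
  simpa using congrArg (fun z => e.inv ≫ z ≫ e.hom) this

theorem end_o_comm (m : ℤ) (p q : o X m ⟶ o X m) : p ≫ q = q ≫ p :=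
  comm_of_iso ((shiftFunctor (DCoh.D X) m).mapIso oneIso ≪≫ ((DerivedCategory.Q.commShiftIso m).app (S₀ X)).symm)
    (fun a b => by
      obtain ⟨a, rfl⟩ := (shiftFunctor (DCoh.D X) m).map_surjective a
      obtain ⟨b, rfl⟩ := (shiftFunctor (DCoh.D X) m).map_surjective b
      rw [← Functor.map_comp, ← Functor.map_comp, PnD.inD_end_comm]) p q

/-- Shifts of the unit are reflexive when `O ≅ RHom(K, K)`. -/
theorem isIso_η_o (u₀ : one X ≅ (R K).obj K) (m : ℤ) : IsIso (η K (o X m)) := by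
  haveI : ((T X).obj (o X m)).IsEquivalence := Functor.isEquivalence_of_iso (LeadBrown.tSwap (o X m))
  haveI : IsIso (evS (o X m) K) := inferInstanceAs (IsIso ((LeadBrown.adjS (o X m)).counit.app K))
  obtain ⟨eo⟩ := nonempty_o_tensor_o X (-m) m (by omega)
  let eN : ((T X).obj K).obj (o X (-m)) ≅ dK K (o X m) :=
    (asIso ((adjR (o X m)).unit.app (((T X).obj K).obj (o X (-m))))) ≪≫
      (R (o X m)).mapIso ((flipAssoc (o X (-m)) (o X m)).app K ≪≫ ((T X).obj K).mapIso eo ≪≫ (rightUnit X).app K)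
  let eN' : ((T X).obj (o X (-m))).obj K ≅ dK K (o X m) := σ (o X (-m)) K ≪≫ eN
  let u : o X m ≅ (R (dK K (o X m))).obj K :=
    (Dual.roOIso (-m) ≪≫ eqToIso (by rw [neg_neg])).symm ≪≫ (R (o X (-m))).mapIso u₀ ≪≫
      Dual.curryIso (o X (-m)) K K ≪≫ (Dual.RIso eN').app K
  exact isIso_homEquiv' (adjR (dK K (o X m))) (end_o_comm m) (evS (o X m) K) u

theorem reflK_o (u₀ : one X ≅ (R K).obj K) (A : X.Opens) (p : ℤ) : ReflK K A (o X p) := fun n => by
  haveI := isIso_η_o K u₀ (p + n)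
  rw [isoOn_η_iff]
  intro H
  exact (te_bijective_iff_of_isoOn K A (isoOn_of_isIso A (oShiftIso p n).hom) H).1
    ((isoOn_η_iff K A _).1 (isoOn_of_isIso A _) H)

/-- Perfect objects are reflexive when `O ≅ RHom(K, K)`. -/
theorem isIso_η_perfect (u₀ : one X ≅ (R K).obj K) {k : DCoh.D X} (hk : DCoh.IsPerfect k) : IsIso (η K k) := by
  refine isIso_of_isoOn_cover _ fun x => ?_
  obtain ⟨A, hx, hA⟩ := exists_freeModel hk x
  have h0 := freeModel_induction (stable_reflK K A) (invOn_reflK K A) (reflK_o K u₀ A) hA 0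
  rw [isoOn_η_iff] at h0
  exact ⟨A, hx, (isoOn_η_iff K A k).2 fun H => (te_bijective_iff_of_isoOn K A
    (isoOn_of_isIso A ((shiftFunctorZero (DCoh.D X) ℤ).app k).inv) H).1 (h0 H)⟩

section Transfer

variable {U : Scheme.{u}} (j : U ⟶ X) [IsOpenImmersion j] [DCoh.HasLpull j] [DCoh.HasRpush j]

/-- `η` restricts to `η`. -/
theorem isIso_lpull_η (k : DCoh.D X)
    (h : IsIso (η ((DCoh.Lpull j).obj K) ((DCoh.Lpull j).obj k))) : IsIso ((DCoh.Lpull j).map (η K k)) := by
  haveI := isIso_wR j k K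
  haveI := isIso_wRo j (dK K k) K
  haveI := LeadBrown.isIso_Rmap (wR j k K) ((DCoh.Lpull j).obj K)
  have h1 : (DCoh.Lpull j).map (η K k) ≫ wRo j (dK K k) K =
      η ((DCoh.Lpull j).obj K) ((DCoh.Lpull j).obj k) ≫ Rmap (wR j k K) ((DCoh.Lpull j).obj K) := by
    rw [η, map_wRo, ← wR_evS]
    apply ((adjR _).homEquiv _ _).symm.injective
    rw [comp_Rmap, η, Equiv.symm_apply_apply, Equiv.symm_apply_apply]
  haveI : IsIso ((DCoh.Lpull j).map (η K k) ≫ wRo j (dK K k) K) := by rw [h1]; infer_instance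
  exact IsIso.of_isIso_comp_right _ (wRo j (dK K k) K)

end Transfer

end Groth.Agent.H4RSH
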