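import Groth.Agent.H4RSH.CurveGen
import Groth.Agent.H4RSH.LineSection

/-!
# Torsion-free modules of rank one on curves
-/

set_option autoImplicit false
set_option linter.style.haveILetI false
set_option linter.unusedSectionVars false
set_option backward.isDefEq.respectTransparency false
set_option maxHeartbeats 1000000
set_option synthInstance.maxHeartbeats 400000

universe u

open CategoryTheory CategoryTheory.Limits AlgebraicGeometry TopologicalSpace Opposite

namespace Groth.Agent.H4RSH.CurveGen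

attribute [local instance 10000] H10Coh.hasSheafifyAb H10Coh.hasWeakSheafifyAb H10Coh.hasExtAb H10Coh.enoughInjAb

variable {X : Scheme.{u}} [AlgebraicGeometry.IsIntegral X] {W F Q M : X.Modules}

theorem FinSupp.notMem_generic (h : FinSupp M) (hdim : topologicalKrullDim X = 1) :
    genericPoint X ∉ CohB1.support M := fun hη => by
  have hcl := h.2 _ hη
  have h1 : (Set.univ : Set X) ⊆ {genericPoint X} := by
    rw [← hcl.closure_eq, genericPoint_closure]
  haveI : Subsingleton X := ⟨fun a b => (h1 (Set.mem_univ a)).trans (h1 (Set.mem_univ b)).symm⟩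
  have h2 : topologicalKrullDim X ≤ 0 := iSup_le fun l => by
    by_contra hl
    have h3 : l 0 < l (Fin.last _) := l.strictMono (by
      rcases Nat.eq_zero_or_pos l.length with h0 | h0
      · simp [h0] at hl
      · exact Fin.lt_def.2 (by simpa using h0))
    exact h3.ne (IrreducibleCloseds.ext
      ((Subsingleton.eq_univ_of_nonempty (l 0).2.nonempty).trans
        (Subsingleton.eq_univ_of_nonempty (l (Fin.last _)).2.nonempty).symm))
  rw [hdim] at h2
  exact absurd h2 (by decide)

/-- Sections are determined at the generic point. -/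
def GenInj (M : X.Modules) : Prop :=
  ∀ (U : X.Opens) (hU : genericPoint X ∈ U) (m : Γ(M, U)), M.presheaf.germ U (genericPoint X) hU m = 0 → m = 0

theorem genInj_of_torsionFree (hF : Coh.IsQCoh F) (htf : ∀ (x : X) (a : X.presheaf.stalk x) (m : F.presheaf.stalk x),
    a • m = 0 → a = 0 ∨ m = 0) : GenInj F := fun U hU m hm => by
  have hTF : TorSh.IsTorsionFree F := fun x => ⟨fun r hr m m' hmm => by
    rcases htf x r (m - m') (by rw [smul_sub]; exact sub_eq_zero.2 hmm) with h' | h'
    · exact absurd h' hr.ne_zero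
    · exact sub_eq_zero.1 h'⟩
  exact H29Ref.germ_generic_injective F hF hTF hU (hm.trans (map_zero _).symm)

theorem GenInj.of_mono (h : GenInj F) (i : M ⟶ F) [Mono i] : GenInj M := fun U hU m hm =>
  H10Coh.injective_app_of_mono' i U ((h U hU _ (by rw [← H06Mod.stalkLin_germ, hm, map_zero])).trans (map_zero _).symm)

theorem GenInj.eq_zero_of_stalk (h : GenInj M) {N : X.Modules} (φ : N ⟶ M)
    (hφ : ∀ v, H06Mod.stalkLin φ (genericPoint X) v = 0) : φ = 0 := by
  refine Scheme.Modules.hom_ext _ _ fun U => ?_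
  ext m
  rcases (U : Set X).eq_empty_or_nonempty with hU | ⟨y, hy⟩
  · refine TopCat.Presheaf.section_ext ⟨M.presheaf, M.isSheaf⟩ U _ _ fun y hy => ?_
    exact absurd hy (Set.eq_empty_iff_forall_notMem.1 hU y)
  · have hηU : genericPoint X ∈ U := ((genericPoint_spec X).specializes trivial).mem_open U.isOpen hy
    refine (h U hηU _ ?_).trans rfl
    rw [← H06Mod.stalkLin_germ]
    exact hφ _

theorem exists_preimage {f : W ⟶ F} {g : F ⟶ Q} {w : f ≫ g = 0} (hex : (ShortComplex.mk f g w).Exact) (x : X)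
    (hx : x ∉ CohB1.support Q) (v : F.presheaf.stalk x) : ∃ u, H06Mod.stalkLin f x u = v :=
  (ShortComplex.moduleCat_exact_iff _).1 (hex.map (DerSch.stalkFunctor X x)) v (@Subsingleton.elim _ (not_not.1 hx) _ _)

/-- A retraction forces the quotient to vanish. -/
theorem isIso_of_retraction {f : W ⟶ F} {g : F ⟶ Q} {w : f ≫ g = 0} (hex : (ShortComplex.mk f g w).Exact)
    (hη : genericPoint X ∉ CohB1.support Q) (hF : GenInj F) (r : F ⟶ W) (hr : f ≫ r = 𝟙 W) : IsIso f := by
  have h : kernel.ι r = 0 := hF.eq_zero_of_stalk (kernel.ι r) fun v => by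
    obtain ⟨u, hu⟩ := exists_preimage hex _ hη (H06Mod.stalkLin (kernel.ι r) (genericPoint X) v)
    have h2 := congrArg (H06Mod.stalkLin r (genericPoint X)) hu
    rw [← H29Omega.stalkLin_comp, hr, ← H29Omega.stalkLin_comp, kernel.condition,
      H4RSH.LineSection.stalkLin_zero_apply] at h2
    have hid : H06Mod.stalkLin (𝟙 W) (genericPoint X) u = u := by
      obtain ⟨U, hU, m, rfl⟩ := W.presheaf.exists_germ_eq u
      rw [H06Mod.stalkLin_germ]
      rfl
    rw [hid] at h2
    rw [← hu, h2, map_zero]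
  haveI : Mono r := Preadditive.mono_of_kernel_zero h
  exact ⟨r, hr, by rw [← cancel_mono r, Category.assoc, hr, Category.comp_id, Category.id_comp]⟩

/-- In rank one a nonzero germ spans. -/
theorem exists_smul_eq {f : W ⟶ F} {g : F ⟶ Q} {w : f ≫ g = 0} (hex : (ShortComplex.mk f g w).Exact)
    (hη : genericPoint X ∉ CohB1.support Q)
    (hW : ProperLocal.Cyclic (X.presheaf.stalk (genericPoint X)) (W.presheaf.stalk (genericPoint X)))
    {γ : F.presheaf.stalk (genericPoint X)} (hγ : γ ≠ 0) (v : F.presheaf.stalk (genericPoint X)) :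
    ∃ r : X.presheaf.stalk (genericPoint X), r • γ = v := by
  letI : Field (X.presheaf.stalk (genericPoint X)) := inferInstanceAs (Field X.functionField)
  obtain ⟨v0, hv0⟩ := hW
  have hf : ∀ v', ∃ c : X.presheaf.stalk (genericPoint X), c • H06Mod.stalkLin f (genericPoint X) v0 = v' := fun v' => by
    obtain ⟨u, hu⟩ := exists_preimage hex _ hη v'
    obtain ⟨c, hc⟩ := hv0 u
    exact ⟨c, by rw [← map_smul, hc, hu]⟩
  obtain ⟨c, hc⟩ := hf v
  obtain ⟨d, hd⟩ := hf γ
  have hd0 : d ≠ 0 := fun h' => hγ (by rw [← hd, h', zero_smul])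
  exact ⟨c * d⁻¹, by rw [← hd, smul_smul, mul_assoc, inv_mul_cancel₀ hd0, mul_one, hc]⟩

/-- A nonzero map out of a rank one submodule is injective on global sections. -/
theorem injective_app_top {I : X.Modules} (hI : GenInj I) (φ : I ⟶ W) (hφ : φ ≠ 0) (hW : GenInj W)
    (γ : I.presheaf.stalk (genericPoint X))
    (hγ : ∀ v, ∃ r : X.presheaf.stalk (genericPoint X), r • γ = v) : Function.Injective (φ.app ⊤) := by
  letI : Field (X.presheaf.stalk (genericPoint X)) := inferInstanceAs (Field X.functionField)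
  have hφγ : H06Mod.stalkLin φ (genericPoint X) γ ≠ 0 := fun h' => hφ (hW.eq_zero_of_stalk φ fun v => by
    obtain ⟨r, rfl⟩ := hγ v
    rw [map_smul, h', smul_zero])
  refine (injective_iff_map_eq_zero (φ.app ⊤).hom).2 fun m hm => ?_
  obtain ⟨r, hr⟩ := hγ (I.presheaf.germ ⊤ (genericPoint X) trivial m)
  have h1 : r • H06Mod.stalkLin φ (genericPoint X) γ = 0 := by
    rw [← map_smul, hr, H06Mod.stalkLin_germ]
    exact (congrArg _ hm).trans (map_zero _)
  have hr0 : r = 0 := by
    by_contra hr0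
    exact hφγ (by rw [← one_smul (X.presheaf.stalk (genericPoint X)) (H06Mod.stalkLin φ _ γ),
      ← inv_mul_cancel₀ hr0, mul_smul, h1, smul_zero])
  exact hI ⊤ trivial m (by rw [← hr, hr0, zero_smul])

variable {k : Type u} [Field k] [X.Over (Spec (CommRingCat.of k))] [IsProper (X ↘ Spec (CommRingCat.of k))]

/-- The sections of a rank one extension outnumber those of the submodule. -/
theorem finrank_lt [IsNoetherian X] (hdim : topologicalKrullDim X ≤ 1) {f : W ⟶ F} {g : F ⟶ Q} {w : f ≫ g = 0}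
    (hex : (ShortComplex.mk f g w).ShortExact) (hW : Coh.IsCoh W) (hF : Coh.IsCoh F) (hQ : Coh.IsCoh Q)
    (hQ1 : Subsingleton (Coh.HH X Q 1)) (h : Module.finrank k (Coh.HH X W 1) < Module.finrank k (Coh.HH X Q 0)) :
    Module.finrank k (Coh.HH X W 0) < Module.finrank k (Coh.HH X F 0) := by
  haveI := H10Coh.finite_HH_proper k X F hF 0
  haveI := H10Coh.finite_HH_proper k X W hW 0
  have h1 := finrank_le_range_add (k := k) (S := ShortComplex.mk f g w) hdim hex hW hF hQ hQ1
  dsimp only at h1
  have h2 := LinearMap.finrank_range_add_finrank_ker (Canon.HHlin k g 0)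
  have h3 := H25Par.hhlin_exact (k := k) (S := ShortComplex.mk f g w) hex
  dsimp only at h3
  haveI : Mono f := hex.mono_f
  rw [h3, LinearMap.finrank_range_of_inj (H29RR.hhlin_zero_injective (k := k) f)] at h2
  omega

/-- A coherent rank one module receiving more sections than a subsheaf of the dualizing module can hold is generated. -/
theorem isIso_image [IsNoetherian X] (hdim : topologicalKrullDim X = 1) (hF : Coh.IsCoh F) (hFg : GenInj F)
    (hWc : Coh.IsCoh W) (hWg : GenInj W) (t : Coh.HH X W 1 →ₗ[k] k)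
    (ht : ∀ G : X.Modules, Coh.IsQCoh G → ∀ ψ : Coh.HH X G 1 →ₗ[k] k,
      ∃! φ : G ⟶ W, t ∘ₗ Canon.HHlin k φ 1 = ψ)
    (hspan : ∀ γ : F.presheaf.stalk (genericPoint X), γ ≠ 0 → ∀ v, ∃ r : X.presheaf.stalk (genericPoint X), r • γ = v)
    (hbig : Module.finrank k (Coh.HH X W 0) < Module.finrank k (Coh.HH X F 0))
    {I : X.Modules} (hIc : Coh.IsCoh I) (ι : I ⟶ F) [Mono ι] (hs : Function.Surjective (ι.app ⊤)) : IsIso ι := by
  haveI := H10Coh.finite_HH_proper k X W hWc 0
  haveI := H10Coh.finite_HH_proper k X I hIc 0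
  haveI : Nontrivial (Coh.HH X F 0) := Module.nontrivial_of_finrank_pos (R := k) (by omega)
  obtain ⟨x, hx⟩ := exists_ne (0 : Coh.HH X F 0)
  obtain ⟨m0, hm0⟩ := hs (H10Coh.HH0Equiv F x)
  let η := genericPoint X
  let γ := I.presheaf.germ ⊤ η trivial m0
  have hι := H10Coh.FibreLift.injective_stalkLin_of_mono ι η
  have hιγ : H06Mod.stalkLin ι η γ ≠ 0 := fun h' => hx (by
    rw [H06Mod.stalkLin_germ, hm0] at h'
    exact (H10Coh.HH0Equiv F).injective ((hFg ⊤ trivial _ h').trans (map_zero _).symm))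
  have hR : FinSupp (cokernel ι) := by
    refine H25Par.finite_of_isClosed_of_notMem (le_of_eq hdim)
      (H10Coh.isClosed_support _ (H10Coh.isCoh_cokernel ι hIc.1 hF).2) fun hη => hη ?_
    refine subsingleton_of_forall_eq 0 fun c => ?_
    obtain ⟨v, rfl⟩ := H06Mod.surjective_stalk_of_epi (cokernel.π ι) η c
    obtain ⟨r, rfl⟩ := hspan _ hιγ v
    show H06Mod.stalkLin (cokernel.π ι) η (r • H06Mod.stalkLin ι η γ) = 0
    rw [map_smul, ← H29Omega.stalkLin_comp, cokernel.condition, H4RSH.LineSection.stalkLin_zero_apply, smul_zero]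
  refine isIso_of_sections ι hs ?_ hR
  by_contra hI1
  haveI : Nontrivial (Coh.HH X I 1) := not_subsingleton_iff_nontrivial.1 hI1
  haveI : Module.Projective k (Coh.HH X I 1) := Module.Projective.of_basis (Module.Basis.ofVectorSpace k _)
  obtain ⟨v, hv⟩ := exists_ne (0 : Coh.HH X I 1)
  obtain ⟨ψ, hψ⟩ : ∃ ψ : Module.Dual k (Coh.HH X I 1), ψ v ≠ 0 :=
    not_forall.1 (mt (Module.forall_dual_apply_eq_zero_iff k v).1 hv)
  obtain ⟨φ, hφ, -⟩ := ht I hIc.1 ψ
  have hφ0 : φ ≠ 0 := fun h' => hψ (by
    rw [← hφ, h']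
    exact (congrArg t (H4RSH.LineSection.HHlin_zero 1 v)).trans (map_zero t))
  have hinj := injective_app_top (hFg.of_mono ι) φ hφ0 hWg γ fun w => by
    obtain ⟨r, hr⟩ := hspan _ hιγ (H06Mod.stalkLin ι η w)
    exact ⟨r, hι (by rw [map_smul, hr])⟩
  have h1 := (H10Coh.CurveTwist.surjective_app_top_iff (k := k) ι).1 hs
  have h2 : Function.Injective (Canon.HHlin k φ 0) := fun a b hab => by
    refine (H10Coh.HH0Equiv _).injective (hinj ?_)
    exact (H28NT.HH0Equiv_map φ a).symm.trans ((congrArg _ hab).trans (H28NT.HH0Equiv_map φ b))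
  have h3 := LinearMap.finrank_le_finrank_of_injective (f := Canon.HHlin k φ 0) h2
  have h4 := LinearMap.finrank_le_finrank_of_surjective (f := Canon.HHlin k ι 0) h1
  omega

end Groth.Agent.H4RSH.CurveGen
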