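import Groth.Agent.H4RSH.ProperCurve
import Groth.Agent.H4DR.Dualizing.Artinian

/-!
# The dualizing module has rank one at the generic point
-/

set_option autoImplicit false
set_option linter.style.haveILetI false
set_option linter.unusedSectionVars false
set_option backward.isDefEq.respectTransparency false
set_option maxHeartbeats 1000000
set_option synthInstance.maxHeartbeats 400000

universe u

open CategoryTheory CategoryTheory.Limits AlgebraicGeometry TopologicalSpace Opposite
open Groth.Agent.H4DR.Dualizing (Loc loc)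

attribute [local instance] HasDerivedCategory.standard

namespace Groth.Agent.H4RSH.ProperLocal

/-- Every element is a multiple of one. -/
def Cyclic (R M : Type*) [CommRing R] [AddCommGroup M] [Module R M] : Prop := ∃ v : M, ∀ w, ∃ r : R, r • v = w

theorem Cyclic.transfer {R S M N : Type*} [CommRing R] [CommRing S] [AddCommGroup M] [Module R M] [AddCommGroup N]
    [Module S N] (h : Cyclic R M) (φ : R → S) (T : M ≃+ N) (hT : ∀ r v, T (r • v) = φ r • T v) :
    Cyclic S N := by
  obtain ⟨v, hv⟩ := h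
  refine ⟨T v, fun w => ?_⟩
  obtain ⟨r, hr⟩ := hv (T.symm w)
  exact ⟨φ r, by rw [← hT, hr, T.apply_symm_apply]⟩

theorem cyclic_transfer_symm {R S M N : Type*} [CommRing R] [CommRing S] [AddCommGroup M] [Module R M]
    [AddCommGroup N] [Module S N] (h : Cyclic S N) (φ : R → S) (hφ : Function.Surjective φ) (T : M ≃+ N)
    (hT : ∀ r v, T (r • v) = φ r • T v) : Cyclic R M := by
  obtain ⟨v, hv⟩ := h
  refine ⟨T.symm v, fun w => ?_⟩
  obtain ⟨s, hs⟩ := hv (T w)
  obtain ⟨r, rfl⟩ := hφ s
  exact ⟨r, T.injective (by rw [hT, T.apply_symm_apply, hs])⟩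

/-- Cohomology of a dualizing complex over a field is cyclic. -/
theorem cyclic_HD_field (A : Type u) [CommRing A] [IsLocalRing A] [IsNoetherianRing A] [IsDomain A]
    (h0 : ringKrullDim A = 0) {ω : Dual.D A} (hω : Dual.IsDualizing A ω) (i : ℤ) : Cyclic A (Dual.HD A ω i) := by
  obtain ⟨c, hn, -, -⟩ := H4DR.Dualizing.exists_normalized hω
  have hd : Dual.IsDualizing A (ω⟦c⟧) := H4DR.Dualizing.isDualizing_shift hω c
  obtain ⟨e⟩ := H4DR.Dualizing.nonempty_iso_inD_of_dim_zero h0 hd hn
  let N := Dual.HD A (ω⟦c⟧) 0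
  by_cases hi : i = c
  · subst hi
    obtain ⟨f, hf⟩ := H4DR.Dualizing.exists_hull h0 hd hn e
    let T := H4DR.PCoh.hShift ω i 0 i (add_zero i)
    have hm : IsLocalRing.maximalIdeal A = ⊥ := by
      haveI : Ring.KrullDimLE 0 A := by rw [Ring.krullDimLE_iff, h0]; rfl
      exact (IsLocalRing.eq_maximalIdeal (Ideal.isMaximal_of_isPrime (⊥ : Ideal A))).symm
    have hF : IsField A := (IsLocalRing.isField_iff_maximalIdeal_eq).2 hm
    letI := hF.toField
    have htop : LinearMap.range f = ⊤ := by
      by_contra hne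
      obtain ⟨C, hC⟩ := Submodule.exists_isCompl (LinearMap.range f)
      have hC0 : C ≠ ⊥ := fun h => hne (by simpa [h] using hC.codisjoint.eq_top)
      exact hf.essential C hC0 (hC.symm.disjoint.eq_bot)
    refine ⟨T (f (Submodule.Quotient.mk 1)), fun w => ?_⟩
    obtain ⟨z, hz⟩ : T.symm w ∈ LinearMap.range f := htop ▸ Submodule.mem_top
    obtain ⟨r, rfl⟩ := Submodule.Quotient.mk_surjective _ z
    refine ⟨r, ?_⟩
    rw [← map_smul, ← map_smul, ← Submodule.Quotient.mk_smul, smul_eq_mul, mul_one, hz, T.apply_symm_apply]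
  · haveI : Subsingleton (Dual.HD A (ω⟦c⟧) (i - c)) := by
      haveI : Subsingleton (Dual.HD A (Dual.inD A N) (i - c)) := by
        refine ModuleCat.subsingleton_of_isZero ?_
        rcases lt_or_gt_of_ne (show i - c ≠ 0 by omega) with h | h
        · exact DerivedCategory.isZero_of_isGE _ 0 (i - c) h
        · exact DerivedCategory.isZero_of_isLE _ 0 (i - c) h
      exact ((DerivedCategory.homologyFunctor (ModuleCat.{u} A) (i - c)).mapIso e).toLinearEquiv.toEquiv.subsingleton
    haveI : Subsingleton (Dual.HD A ω i) :=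
      (H4DR.PCoh.hShift ω c (i - c) i (by omega)).toEquiv.symm.subsingleton
    exact ⟨0, fun w => ⟨0, Subsingleton.elim _ _⟩⟩

variable {X : Scheme.{u}} {E : DCoh.D X}
  (hE : ∀ x₀ : X, IsClosed ({x₀} : Set X) → Nonempty (PtChart E x₀))

include hE in
/-- The cohomology at the generic point has rank at most one. -/
theorem cyclic_stalk_generic [IsIntegral X] [CompactSpace X] (i : ℤ) :
    Cyclic (X.presheaf.stalk (genericPoint X)) ((DCoh.HD E i).presheaf.stalk (genericPoint X)) := by
  obtain ⟨x₀, hx₀, -⟩ := exists_closed_specialization (genericPoint X)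
  obtain ⟨c⟩ := hE x₀ hx₀
  haveI : Nonempty (Spec (CommRingCat.of c.B)) := ⟨c.m⟩
  haveI : IsIntegral (Spec (CommRingCat.of c.B)) := isIntegral_of_isOpenImmersion c.j
  haveI : IsDomain c.B := by
    haveI : IsDomain Γ(Spec (CommRingCat.of c.B), ⊤) := inferInstance
    exact (Scheme.ΓSpecIso (CommRingCat.of c.B)).symm.commRingCatIsoToRingEquiv.toMulEquiv.isDomain
  haveI : IsDomain (Loc c.m) := IsLocalization.isDomain_localization c.m.asIdeal.primeCompl_le_nonZeroDivisors
  haveI : IsNoetherianRing (Loc c.m) := c.dual.isNoetherianRing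
  let P : PrimeSpectrum (Loc c.m) := ⟨⊥, Ideal.isPrime_bot⟩
  haveI : IsDomain (Loc P) := IsLocalization.isDomain_localization P.asIdeal.primeCompl_le_nonZeroDivisors
  haveI : IsNoetherianRing (Loc P) := IsLocalization.isNoetherianRing P.asIdeal.primeCompl (Loc P) ‹_›
  have h0 : ringKrullDim (Loc P) = 0 := by
    rw [IsLocalization.AtPrime.ringKrullDim_eq_height P.asIdeal (Loc P)]
    simp [P, Ideal.height_bot]
  have hd := H4DR.Dualizing.isDualizing_loc c.dual P
  have h1 : Cyclic (Loc P) (LocalizedModule P.asIdeal.primeCompl (Dual.HD (Loc c.m) (loc c.ω c.m) i)) :=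
    (cyclic_HD_field (Loc P) h0 hd i).transfer id (locHD (loc c.ω c.m) P i).symm.toAddEquiv
      (fun r v => map_smul (locHD (loc c.ω c.m) P i).symm r v)
  obtain ⟨v, hv⟩ := h1
  let M := LocalizedModule.map P.asIdeal.primeCompl (locHD c.ω c.m i).symm.toLinearMap
  have h2 : Cyclic (Loc P) (LocalizedModule P.asIdeal.primeCompl
      (LocalizedModule c.m.asIdeal.primeCompl (Dual.HD c.B c.ω i))) := by
    refine ⟨M v, fun w => ?_⟩
    obtain ⟨w', rfl⟩ := LocalizedModule.map_surjective P.asIdeal.primeCompl _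
      (locHD c.ω c.m i).symm.surjective w
    obtain ⟨r, hr⟩ := hv w'
    exact ⟨r, by rw [← map_smul, hr]⟩
  obtain ⟨φ, hφ, e, he⟩ := H06EGA12.exists_semilinear_localization (Dual.HD c.B c.ω i) c.m.asIdeal P.asIdeal
  have h3 := cyclic_transfer_symm h2 φ hφ e he
  obtain ⟨ψ, -, T, hT⟩ := exists_semilinear_HD_stalk c.j E c.ω c.e
    (PrimeSpectrum.comap (algebraMap c.B (Loc c.m)) P) i
  have h4 := h3.transfer ψ T hT
  have hgen : c.j.base (PrimeSpectrum.comap (algebraMap c.B (Loc c.m)) P) = genericPoint X := by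
    rw [← genericPoint_eq_of_isOpenImmersion c.j, genericPoint_eq_bot_of_affine (CommRingCat.of c.B)]
    congr 1
    apply PrimeSpectrum.ext
    show (⊥ : Ideal (Loc c.m)).comap (algebraMap c.B (Loc c.m)) = ⊥
    exact Ideal.comap_bot_of_injective _
      (IsLocalization.injective _ c.m.asIdeal.primeCompl_le_nonZeroDivisors)
  exact hgen ▸ h4

end Groth.Agent.H4RSH.ProperLocal
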