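import Groth.Agent.H4RSH.AffineBidual
import Groth.Agent.H4RepDual.PointScheme
import Groth.Agent.LeadBrown.ShriekBC
import Groth.Agent.LeadBrown.BaseChange

/-!
# Biduality on a locally Noetherian scheme
-/

set_option autoImplicit false
set_option linter.style.haveILetI false
set_option linter.unusedSectionVars false
set_option backward.isDefEq.respectTransparency false
set_option synthInstance.maxHeartbeats 400000
set_option maxHeartbeats 1000000

universe u

open CategoryTheory CategoryTheory.Limits AlgebraicGeometry Pretriangulated Opposite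
open DerivedCategory.TStructure (t)

attribute [local instance] HasDerivedCategory.standard

namespace Groth.Agent.H4RSH

open Groth.Agent.H16Derived Groth.Agent.H16Derived.QCohD Groth.Agent.H16Derived.Dual Groth.Agent.H25DTen
open Groth.Agent.LeadBrown (evS wR)
open Groth.Agent.H16Derived.KFlat.Stalk (rd rdComp homologyRdIso)
open Groth.Agent.LeadBrown (isZero_rd_iff)

variable {X : Scheme.{u}}

lemma isIso_η_iff_te (K k : DCoh.D X) :
    IsIso (η K k) ↔ ∀ g : DCoh.D X, Function.Bijective (te K g k) := by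
  refine ⟨fun h g => bijective_te_of_isIso K h g, fun h => (isIso_iff_yoneda_map_bijective _).2 fun g => ?_⟩
  have e : ⇑(te K g k) = ((adjR (dK K k)).homEquiv _ _).symm ∘ fun y => y ≫ η K k :=
    funext fun y => te_eq K _ _ y
  exact (Function.Bijective.of_comp_iff' ((adjR (dK K k)).homEquiv _ _).symm.bijective _).1 (e ▸ h g)

/-- Biduality only depends on the isomorphism class. -/
theorem isIso_η_of_iso (K : DCoh.D X) {k k' : DCoh.D X} (φ : k ≅ k') (h : IsIso (η K k')) : IsIso (η K k) := by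
  rw [isIso_η_iff_te] at h ⊢
  intro g
  let a : (((T X).obj g).obj (dK K k) ⟶ K) ≃ (((T X).obj g).obj (dK K k') ⟶ K) :=
    (((T X).obj g).mapIso
      ({ hom := Rmap φ.inv K, inv := Rmap φ.hom K
         hom_inv_id := by rw [← LeadBrown.Rmap_comp, φ.hom_inv_id, LeadBrown.Rmap_id]
         inv_hom_id := by rw [← LeadBrown.Rmap_comp, φ.inv_hom_id, LeadBrown.Rmap_id] } :
        dK K k ≅ dK K k')).homCongr (Iso.refl K)
  have e : ⇑(te K g k') ∘ (fun y => y ≫ φ.hom) = a ∘ ⇑(te K g k) := funext fun y => by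
    simp only [Function.comp_apply, te_naturality, a, Iso.homCongr_apply, Functor.mapIso_inv, Iso.refl_hom,
      Category.comp_id]
  have h1 : Function.Bijective fun y : g ⟶ k => y ≫ φ.hom := ((Iso.refl g).homCongr φ).bijective |> fun hb => by
    convert hb using 1
    funext y
    simp
  exact (Function.Bijective.of_comp_iff' a.bijective _).1 (e ▸ (h g).comp h1)

/-- Biduality only depends on the isomorphism class of the dualizing object. -/
theorem isIso_η_of_isoK {K K' : DCoh.D X} (e : K' ≅ K) (k : DCoh.D X) (h : IsIso (η K k)) : IsIso (η K' k) := by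
  rw [isIso_η_iff_te] at h ⊢
  intro g
  let a : (((T X).obj g).obj (dK K k) ⟶ K) ≃ (((T X).obj g).obj (dK K' k) ⟶ K') :=
    (((T X).obj g).mapIso ((R k).mapIso e.symm)).homCongr e.symm
  have he : evS k K' = ((T X).obj k).map ((R k).map e.hom) ≫ evS k K ≫ e.inv := by
    rw [← Category.assoc, Iso.eq_comp_inv]
    exact ((LeadBrown.adjS k).counit.naturality e.hom).symm
  have ea : ⇑(te K' g k) = a ∘ ⇑(te K g k) := funext fun y => by
    show ((T X).map y).app (dK K' k) ≫ evS k K' = _ ≫ (((T X).map y).app (dK K k) ≫ evS k K) ≫ e.inv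
    rw [he, Category.assoc, ← NatTrans.naturality_assoc]
    rfl
  rw [ea]
  exact a.bijective.comp (h g)

theorem isIso_of_isIso_rd_cover {E E' : DCoh.D X} (φ : E ⟶ E')
    (h : ∀ x : X, ∃ (U : Scheme.{u}) (j : U ⟶ X) (_ : IsOpenImmersion j), x ∈ Set.range j.base ∧ IsIso ((rd j).map φ)) :
    IsIso φ := by
  obtain ⟨C, a, b, hT⟩ := distinguished_cocone_triangle φ
  refine (Triangle.isZero₃_iff_isIso₁ _ hT).1 (Thomason.isZero_of_suppIn_empty fun i y hy => ?_)
  obtain ⟨U, j, hj, hy', hiso⟩ := h y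
  exact ((isZero_rd_iff j C).1 ((Triangle.isZero₃_iff_isIso₁ _ ((rd j).map_distinguished _ hT)).2 hiso) i hy) hy'

/-- An object with finite models on charts is coherent. -/
theorem isCohD_of_tilde_charts [IsLocallyNoetherian X] [∀ (R : CommRingCat.{u}), PreservesFiniteLimits (tilde.functor R)]
    (Z : DCoh.D X) (h : ∀ x : X, ∃ (A : Type u) (_ : CommRing A) (j : Spec (CommRingCat.of A) ⟶ X) (_ : IsOpenImmersion j),
      x ∈ Set.range j.base ∧ ∃ F : Dual.D A, IsNoetherianRing A ∧ (∀ i, Module.Finite A (Dual.HD A F i)) ∧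
        Nonempty ((rd j).obj Z ≅ (DCoh.tildeD (CommRingCat.of A)).obj F)) : DCoh.IsCohD Z := by
  choose A iA j hj hx F hN hF he using h
  refine H4RepDual.isCohD_of_charts (fun i => KFlat.Stalk.isQCoh_of_local _ fun x => ?_) fun x => ?_
  · obtain ⟨e⟩ := he x
    let c := (j x).isoOpensRange.inv
    have h0 : DCoh.IsQCohD ((rd (j x).opensRange.ι).obj Z) :=
      QCohD.isQCohD_iso (rdComp c (j x) _ (j x).isoOpensRange_inv_comp _).symm
        (QCohD.isQCohD_rd c (QCohD.isQCohD_iso e.symm (QCohD.isQCohD_tildeD (CommRingCat.of (A x)) (F x))))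
    exact ⟨(j x).opensRange, hx x, QCohD.isQCoh_iso (homologyRdIso _ _ i) (h0 i)⟩
  · obtain ⟨e⟩ := he x
    haveI := hN x
    refine ⟨A x, iA x, j x, hj x, hx x, fun i => ?_⟩
    exact H10Coh.isCoh_of_iso
      ((show tilde (R := CommRingCat.of (A x)) _ ≅ _ from (KFlat.Stalk.hdTilde (F x) i).symm) ≪≫
        (DerivedCategory.homologyFunctor _ i).mapIso e.symm ≪≫ homologyRdIso (j x) _ i)
      (@H10Coh.isCoh_tilde (CommRingCat.of (A x))
        ((DerivedCategory.homologyFunctor (ModuleCat.{u} (A x)) i).obj (F x)) (hF x i))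

/-- A coherent object has a finite model on every affine chart. -/
theorem exists_finite_model [IsLocallyNoetherian X] [∀ (R : CommRingCat.{u}), PreservesFiniteLimits (tilde.functor R)]
    {B : Type u} [CommRing B] (j : Spec (CommRingCat.of B) ⟶ X) [IsOpenImmersion j] {E : DCoh.D X}
    (hE : DCoh.IsCohD E) : ∃ M : Dual.D B, (∀ i, Module.Finite B (Dual.HD B M i)) ∧
      Nonempty ((rd j).obj E ≅ (DCoh.tildeD (CommRingCat.of B)).obj M) := by
  obtain ⟨M, ⟨eM⟩⟩ := QCohD.exists_tildeD_iso (R := CommRingCat.of B) (QCohD.isQCohD_rd j fun i => (hE i).1)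
  refine ⟨M, fun i => ?_, ⟨eM.symm⟩⟩
  let N := (DerivedCategory.homologyFunctor (ModuleCat.{u} B) i).obj M
  have h1 : Coh.IsCoh (tilde (R := CommRingCat.of B) N) := H10Coh.isCoh_of_iso
    ((homologyRdIso j E i).symm ≪≫ (DerivedCategory.homologyFunctor _ i).mapIso eM.symm ≪≫
      (show _ ≅ tilde (R := CommRingCat.of B) N from KFlat.Stalk.hdTilde M i))
    (H10Coh.isCoh_restrict j _ (hE i))
  haveI : (tilde (R := CommRingCat.of B) N).IsQuasicoherent := h1.1
  haveI := H10Coh.finite_sections (tilde (R := CommRingCat.of B) N) h1.2 (isAffineOpen_top (Spec (CommRingCat.of B)))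
  exact (H8Props.FinLocFree.finite_top_iff (M := N)).1 ‹_›

variable [IsLocallyNoetherian X]
  [∀ (U : Scheme.{u}) (j : U ⟶ X) [IsOpenImmersion j], PreservesFiniteLimits (Scheme.Modules.restrictFunctor j)]
  [∀ (R : CommRingCat.{u}), PreservesFiniteLimits (tilde.functor R)]
  {K : DCoh.D X} (hK : Dual2.IsDualizingSch X K) {k : DCoh.D X} (hk : DCoh.IsCohD k)
include hK hk

/-- A chart at a point. -/
theorem exists_chart (x : X) : ∃ (A : Type u) (_ : CommRing A) (j : Spec (CommRingCat.of A) ⟶ X) (_ : IsOpenImmersion j),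
    x ∈ Set.range j.base ∧ ∃ (ω M : Dual.D A), Dual.IsDualizing A ω ∧ (∀ i, Module.Finite A (Dual.HD A M i)) ∧
      Nonempty ((rd j).obj K ≅ (DCoh.tildeD (CommRingCat.of A)).obj ω) ∧
      Nonempty ((rd j).obj k ≅ (DCoh.tildeD (CommRingCat.of A)).obj M) := by
  obtain ⟨B, j, hj, hx⟩ : ∃ (B : CommRingCat.{u}) (j : Spec B ⟶ X), IsOpenImmersion j ∧ x ∈ Set.range j.base :=
    let ⟨i, y, hy⟩ := X.affineCover.exists_eq x
    ⟨_, X.affineCover.f i, inferInstance, y, hy⟩
  refine ⟨B, inferInstance, j, hj, hx, ?_⟩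
  haveI : IsOpenImmersion (X := Spec (CommRingCat.of B)) j := hj
  obtain ⟨ω, hω, ⟨e⟩⟩ := hK B (j : Spec (CommRingCat.of B) ⟶ X)
  obtain ⟨M, hM, eM⟩ := exists_finite_model (B := B) (j : Spec (CommRingCat.of B) ⟶ X) hk
  exact ⟨ω, M, hω, hM, ⟨e⟩, eM⟩

/-- The dual of a coherent object is coherent. -/
theorem isCohD_R : DCoh.IsCohD ((R k).obj K) := by
  have h : ∀ x : X, ∃ (A : Type u) (_ : CommRing A) (j : Spec (CommRingCat.of A) ⟶ X) (_ : IsOpenImmersion j),
      x ∈ Set.range j.base ∧ ∃ F : Dual.D A, IsNoetherianRing A ∧ (∀ i, Module.Finite A (Dual.HD A F i)) ∧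
        Nonempty ((rd j).obj ((R k).obj K) ≅ (DCoh.tildeD (CommRingCat.of A)).obj F) := fun x => by
    obtain ⟨A, iA, j, hj, hx, ω, M, hω, hM, ⟨eω⟩, ⟨eM⟩⟩ := exists_chart hK hk x
    haveI := hω.isNoetherianRing
    haveI := QCohD.hasRpush j
    haveI := KFlat.Stalk.hasLpull j
    let ρ := LeadBrown.rdIsoLpull j
    obtain ⟨F, hF, ⟨eF⟩⟩ := exists_dual hω M hM
    haveI := isIso_wR j k K
    exact ⟨A, iA, j, hj, hx, F, inferInstance, hF, ⟨ρ.app _ ≪≫ asIso (wR j k K) ≪≫
      (Dual.RIso ((ρ.app k).symm ≪≫ eM)).app _ ≪≫ (R _).mapIso ((ρ.app K).symm ≪≫ eω) ≪≫ eF⟩⟩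
  exact isCohD_of_tilde_charts _ h

/-- **Biduality.** -/
theorem isIso_η : IsIso (η K k) := by
  refine isIso_of_isIso_rd_cover _ fun x => ?_
  obtain ⟨A, iA, j, hj, hx, ω, M, hω, hM, ⟨eω⟩, ⟨eM⟩⟩ := exists_chart hK hk x
  refine ⟨_, j, hj, hx, ?_⟩
  haveI := hω.isNoetherianRing
  haveI := QCohD.hasRpush j
  haveI := KFlat.Stalk.hasLpull j
  let ρ := LeadBrown.rdIsoLpull j
  refine (NatIso.isIso_map_iff ρ _).2 (isIso_lpull_η K j k ?_)
  exact isIso_η_of_isoK ((ρ.app K).symm ≪≫ eω) _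
    (isIso_η_of_iso _ ((ρ.app k).symm ≪≫ eM) (isIso_η_tilde hω M hM))

end Groth.Agent.H4RSH
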