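import Groth.Agent.H4RSH.Invertible
import Groth.Agent.H25Gor.Scheme
import Groth.Agent.H7Lim.GorOpen
import Groth.Agent.H4DR.Dualizing.GorensteinFibre
import Groth.Agent.H02CA.GorRing
import Groth.Agent.S1830

/-!
# Dualizing complexes and Gorenstein morphisms
-/

set_option autoImplicit false
set_option linter.style.haveILetI false
set_option linter.unusedSectionVars false
set_option backward.isDefEq.respectTransparency false
set_option synthInstance.maxHeartbeats 400000
set_option maxHeartbeats 1000000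

universe u

open CategoryTheory CategoryTheory.Limits AlgebraicGeometry
open scoped TensorProduct

attribute [local instance] HasDerivedCategory.standard

namespace Groth.Agent.H4RSH

open Groth.Agent.H16Derived
open Groth.Agent.H16Derived.KFlat.Stalk (rd rdComp)
open Groth.Agent.H4DR.Dualizing (Loc loc FibreLoc)
open Groth.Agent.H4DR.FlatBC (FD)

section Ring

variable {A B : Type u} [CommRing A] [CommRing B] [Algebra A B] [Module.Flat A B]
  [IsNoetherianRing A] [IsNoetherianRing B] {ω : Dual.D A}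

theorem isDualizing_FD_of_fibreLoc (hω : Dual.IsDualizing A ω) (hdim : ringKrullDim B < ⊤)
    (hG : ∀ q : PrimeSpectrum B, LocCoh.IsGorensteinLocalRing (FibreLoc A q)) :
    Dual.IsDualizing B ((FD A B).obj ω) := by
  obtain ⟨a, b, hab⟩ := H4DR.Dualizing.exists_bounds hω
  refine H4DR.Dualizing.isDualizing_of_pointwise hdim _ (H4DR.FlatBC.finite_HD_FD hω.finite_cohomology)
    ⟨a, fun i hi => H4DR.FlatBC.subsingleton_HD_FD (hab i (Or.inl hi))⟩ fun q => ?_
  haveI : Module.Flat B (Loc q) := IsLocalization.flat (Loc q) q.asIdeal.primeCompl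
  haveI : IsNoetherianRing (Loc q) := IsLocalization.isNoetherianRing q.asIdeal.primeCompl (Loc q) ‹_›
  haveI := hG q
  obtain ⟨hv, ⟨e⟩⟩ := H4DR.Dualizing.exists_fibre_ex hω q
  let K := ((PrimeSpectrum.comap (algebraMap A B) q).asIdeal.map (algebraMap A B)).map (algebraMap B (Loc q))
  refine H4DR.Dualizing.isDualizing_of_quotient (Ideal.Quotient.mk K) Ideal.Quotient.mk_surjective _
    (H4DR.FlatBC.finite_HD_FD (H4DR.FlatBC.finite_HD_FD hω.finite_cohomology))
    ⟨a, fun i hi => H4DR.FlatBC.subsingleton_HD_FD (H4DR.FlatBC.subsingleton_HD_FD (hab i (Or.inl hi)))⟩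
    (H4DR.Dualizing.deg hω (PrimeSpectrum.comap (algebraMap A B) q)) (fun i hi => ?_) ?_
  · haveI := hv i hi
    exact (H4DR.Ext.exCongr (H4DR.Dualizing.compHomEquiv K) _).symm.injective.subsingleton
  · exact ⟨((H4DR.Ext.exCongr (H4DR.Dualizing.compHomEquiv K) _).symm.trans e).trans
      (H4DR.Dualizing.compHomEquiv K).symm⟩

end Ring

theorem map_maximal_of_bijective {R S : Type u} [CommRing R] [CommRing S] [IsLocalRing R] [IsLocalRing S]
    (f : R →+* S) [IsLocalHom f] (h : Function.Surjective f) :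
    (IsLocalRing.maximalIdeal R).map f = IsLocalRing.maximalIdeal S := by
  rw [← IsLocalRing.maximalIdeal_comap f, Ideal.map_comap_of_surjective f h]

/-- A chart of a morphism with flat finite type ring map and Gorenstein fibres. -/
def HasGorensteinCharts {X Y : Scheme.{u}} (f : X ⟶ Y) : Prop :=
  ∀ x : X, ∃ (A B : Type u) (_ : CommRing A) (_ : CommRing B) (φ : A →+* B)
    (j : Spec (CommRingCat.of B) ⟶ X) (_ : IsOpenImmersion j) (l : Spec (CommRingCat.of A) ⟶ Y) (_ : IsOpenImmersion l),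
    x ∈ Set.range j.base ∧ Spec.map (CommRingCat.ofHom φ) ≫ l = j ≫ f ∧ φ.Flat ∧ φ.FiniteType ∧
      letI := φ.toAlgebra
      ∀ q : PrimeSpectrum B, LocCoh.IsGorensteinLocalRing (FibreLoc A q)

theorem gor_fibreLoc {X Y : Scheme.{u}} (f : X ⟶ Y) [Flat f] {A B : Type u} [CommRing A] [CommRing B] [Algebra A B]
    (j : Spec (CommRingCat.of B) ⟶ X) [IsOpenImmersion j] (l : Spec (CommRingCat.of A) ⟶ Y) [IsOpenImmersion l]
    (w : Spec.map (CommRingCat.ofHom (algebraMap A B)) ≫ l = j ≫ f) (q : PrimeSpectrum B)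
    (h : Dual3.IsGorensteinAt f (j.base q)) : LocCoh.IsGorensteinLocalRing (FibreLoc A q) := by
  let v := Spec.map (CommRingCat.ofHom (algebraMap A B))
  have h1 : Dual3.IsGorensteinAt (j ≫ f) q := (H7Lim.GorOpen.isGorensteinAt_openImmersion_comp j f q).2 h
  rw [← w, H25Gor.isGorensteinAt_iff] at h1
  obtain ⟨-, h2⟩ := h1
  let p : PrimeSpectrum A := PrimeSpectrum.comap (algebraMap A B) q
  let e := (Spec.stalkIso (CommRingCat.of B) q).commRingCatIsoToRingEquiv
  refine (H02CA.GorFlat.gor_iff_of_ringEquiv (Ideal.quotientEquiv _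
    ((p.asIdeal.map (algebraMap A B)).map (algebraMap B (Loc q))) e ?_)).1 h2
  rw [Scheme.Hom.stalkMap_comp, CommRingCat.hom_comp, ← Ideal.map_map]
  erw [map_maximal_of_bijective (l.stalkMap (v.base q)).hom (ConcreteCategory.bijective_of_isIso (l.stalkMap (v.base q))).2]
  have hc : (e : _ →+* Loc q).comp (v.stalkMap q).hom =
      (Localization.localRingHom p.asIdeal q.asIdeal (algebraMap A B) rfl).comp
        (Spec.stalkIso (CommRingCat.of A) p).hom.hom :=
    congr(($((Scheme.arrowStalkMapSpecIso (CommRingCat.ofHom (algebraMap A B)) q).hom.w)).hom).symm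
  refine Eq.symm ?_
  show Ideal.map (e : _ →+* Loc q) ((IsLocalRing.maximalIdeal _).map (v.stalkMap q).hom) = _
  rw [Ideal.map_map, hc, ← Ideal.map_map]
  haveI : IsLocalHom (Spec.stalkIso (CommRingCat.of A) p).hom.hom :=
    ⟨fun a ha => (isUnit_map_iff (Spec.stalkIso (CommRingCat.of A) p).commRingCatIsoToRingEquiv a).1 ha⟩
  refine (congrArg (Ideal.map _) (map_maximal_of_bijective (Spec.stalkIso (CommRingCat.of A) p).hom.hom
    (ConcreteCategory.bijective_of_isIso (Spec.stalkIso (CommRingCat.of A) p).hom).2)).trans ?_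
  rw [← Localization.AtPrime.map_eq_maximalIdeal, Ideal.map_map, Ideal.map_map]
  congr 1
  exact RingHom.ext fun x => Localization.localRingHom_to_map p.asIdeal q.asIdeal (algebraMap A B) rfl x

theorem hasGorensteinCharts_of_isGorensteinMor {X Y : Scheme.{u}} (f : X ⟶ Y) [Flat f] [LocallyOfFiniteType f]
    (hf : Dual3.IsGorensteinMor f) : HasGorensteinCharts f := fun x => by
  obtain ⟨_, ⟨V, hV : IsAffineOpen V, rfl⟩, hxV, -⟩ :=
    Y.isBasis_affineOpens.exists_subset_of_mem_open (Set.mem_univ (f.base x)) isOpen_univ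
  obtain ⟨_, ⟨U, hU : IsAffineOpen U, rfl⟩, hxU, hUV⟩ :=
    X.isBasis_affineOpens.exists_subset_of_mem_open hxV (f ⁻¹ᵁ V).isOpen
  refine ⟨Γ(Y, V), Γ(X, U), inferInstance, inferInstance, (f.appLE V U hUV).hom, hU.fromSpec, inferInstance,
    hV.fromSpec, inferInstance, hU.range_fromSpec.symm.subset hxU, IsAffineOpen.SpecMap_appLE_fromSpec f hV hU hUV,
    HasRingHomProperty.appLE (P := @Flat) f inferInstance ⟨V, hV⟩ ⟨U, hU⟩ hUV,
    HasRingHomProperty.appLE (P := @LocallyOfFiniteType) f inferInstance ⟨V, hV⟩ ⟨U, hU⟩ hUV, ?_⟩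
  letI := (f.appLE V U hUV).hom.toAlgebra
  intro q
  exact gor_fibreLoc f hU.fromSpec hV.fromSpec (IsAffineOpen.SpecMap_appLE_fromSpec f hV hU hUV) q (hf _)

theorem hasGorensteinCharts_of_isLCIMor {X Y : Scheme.{u}} [IsLocallyNoetherian X] [IsLocallyNoetherian Y]
    (f : X ⟶ Y) [Flat f] (hf : Dual3.IsLCIMor f) : HasGorensteinCharts f := fun x => by
  obtain ⟨U, V, e, hxU, hl⟩ := hf x
  letI := (f.appLE V.1 U.1 e).hom.toAlgebra
  haveI : Module.Flat Γ(Y, V.1) Γ(X, U.1) := HasRingHomProperty.appLE (P := @Flat) f inferInstance V U e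
  haveI : IsNoetherianRing Γ(Y, V.1) := IsLocallyNoetherian.component_noetherian V
  haveI : IsNoetherianRing Γ(X, U.1) := IsLocallyNoetherian.component_noetherian U
  refine ⟨Γ(Y, V.1), Γ(X, U.1), inferInstance, inferInstance, (f.appLE V.1 U.1 e).hom, U.2.fromSpec, inferInstance,
    V.2.fromSpec, inferInstance, U.2.range_fromSpec.symm.subset hxU, IsAffineOpen.SpecMap_appLE_fromSpec f V.2 U.2 e,
    HasRingHomProperty.appLE (P := @Flat) f inferInstance V U e, hl.1, ?_⟩
  intro q
  exact H4DR.Dualizing.isGorensteinLocalRing_fibreLoc q (H02CA.GorFlat.isGorensteinRing_of_ringEquiv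
    (Algebra.TensorProduct.comm Γ(Y, V.1) Γ(X, U.1) _).toRingEquiv
    (S1830.result Γ(Y, V.1) Γ(X, U.1) hl (PrimeSpectrum.comap (algebraMap Γ(Y, V.1) Γ(X, U.1)) q)))

variable {X Y : Scheme.{u}} [IsLocallyNoetherian X] [IsLocallyNoetherian Y]
  [∀ (U V : Scheme.{u}) (j : U ⟶ V) [IsOpenImmersion j], PreservesFiniteLimits (Scheme.Modules.restrictFunctor j)]
  [∀ (R : CommRingCat.{u}), PreservesFiniteLimits (tilde.functor R)]
  (f : X ⟶ Y) [DCoh.HasLpull f]

/-- The restriction of `Lf^*K` to a chart. -/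
theorem nonempty_chart_lpull {A B : Type u} [CommRing A] [CommRing B] [Algebra A B] [Module.Flat A B]
    (j : Spec (CommRingCat.of B) ⟶ X) [IsOpenImmersion j] (l : Spec (CommRingCat.of A) ⟶ Y) [IsOpenImmersion l]
    (w : Spec.map (CommRingCat.ofHom (algebraMap A B)) ≫ l = j ≫ f) {K : DCoh.D Y} {ω : Dual.D A}
    (e : (rd l).obj K ≅ (DCoh.tildeD (CommRingCat.of A)).obj ω) :
    Nonempty ((rd j).obj ((DCoh.Lpull f).obj K) ≅ (DCoh.tildeD (CommRingCat.of B)).obj ((FD A B).obj ω)) := by
  haveI := KFlat.Stalk.hasLpull (Spec.map (CommRingCat.ofHom (algebraMap A B)))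
  haveI := H4DR.TorAmp.hasLBaseChange (algebraMap A B)
  obtain ⟨a⟩ := QCohD.lpull_factor f j (Spec.map (CommRingCat.ofHom (algebraMap A B))) l w K
  exact ⟨a ≪≫ (DCoh.Lpull _).mapIso e ≪≫ ((QCohD.lpullTildeIso (algebraMap A B)).app ω).symm ≪≫
    (DCoh.tildeD (CommRingCat.of B)).mapIso (H4DR.FlatBC.lbaseIso ω)⟩

theorem isDualizingSch_lpull (hf : HasGorensteinCharts f) {K : DCoh.D Y} (hK : Dual2.IsDualizingSch Y K) :
    Dual2.IsDualizingSch X ((DCoh.Lpull f).obj K) := by
  refine LeadBrown.isDualizingSch_of_cover _ fun x => ?_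
  obtain ⟨A, B, _, _, φ, j, hj, l, hl, hx, w, hfl, hft, hG⟩ := hf x
  letI := φ.toAlgebra
  haveI : Module.Flat A B := hfl
  haveI : Algebra.FiniteType A B := hft
  obtain ⟨ω, hω, ⟨e⟩⟩ := hK A l
  haveI := hω.isNoetherianRing
  haveI : IsNoetherianRing B := isLocallyNoetherian_Spec.1 (isLocallyNoetherian_of_isOpenImmersion j)
  exact ⟨B, inferInstance, j, hj, hx, _, isDualizing_FD_of_fibreLoc hω
    (H4DR.Dualizing.ringKrullDim_lt_top_of_finiteType (H4DR.Dualizing.ringKrullDim_lt_top hω)) hG,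
    nonempty_chart_lpull f j l w e⟩

theorem isDualizingSch_of_lpull [Surjective f] (hf : HasGorensteinCharts f) {K : DCoh.D Y} (hq : DCoh.IsQCohD K)
    (hK : Dual2.IsDualizingSch X ((DCoh.Lpull f).obj K)) : Dual2.IsDualizingSch Y K := by
  refine LeadBrown.isDualizingSch_of_cover _ fun y => ?_
  obtain ⟨x, rfl⟩ := f.surjective y
  obtain ⟨A, B, _, _, φ, j, hj, l, hl, hx, w, hfl, hft, -⟩ := hf x
  letI := φ.toAlgebra
  haveI : Module.Flat A B := hfl
  haveI : Algebra.FiniteType A B := hft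
  haveI : IsNoetherianRing A := isLocallyNoetherian_Spec.1 (isLocallyNoetherian_of_isOpenImmersion l)
  haveI : IsNoetherianRing B := isLocallyNoetherian_Spec.1 (isLocallyNoetherian_of_isOpenImmersion j)
  haveI : Algebra.FinitePresentation A B := Algebra.FinitePresentation.of_finiteType.1 inferInstance
  obtain ⟨q, rfl⟩ := hx
  have hopen := PrimeSpectrum.isOpenMap_comap_of_hasGoingDown_of_finitePresentation (R := A) (S := B)
  obtain ⟨_, ⟨g, rfl⟩, hpg, hgW⟩ := PrimeSpectrum.isTopologicalBasis_basic_opens.exists_subset_of_mem_open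
    (Set.mem_range_self q : PrimeSpectrum.comap (algebraMap A B) q ∈ _) hopen.isOpen_range
  let A' := Localization.Away g
  let B' := Localization.Away (φ g)
  letI : Algebra A' B' := (IsLocalization.Away.map A' B' φ g).toAlgebra
  haveI : IsScalarTower A A' B' := IsScalarTower.of_algebraMap_eq fun a => by
    show algebraMap B B' (φ a) = IsLocalization.Away.map A' B' φ g (algebraMap A A' a)
    rw [IsLocalization.Away.map, IsLocalization.map_eq]
  haveI : IsNoetherianRing A' := IsLocalization.isNoetherianRing (Submonoid.powers g) A' ‹_›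
  haveI : Module.Flat B B' := IsLocalization.flat B' (Submonoid.powers (φ g))
  haveI : Module.Flat A B' := Module.Flat.trans A B B'
  haveI : Module.Flat A' B' := (Module.flat_iff_of_isLocalization A' (Submonoid.powers g) B').2 ‹_›
  haveI : Module.FaithfullyFlat A' B' := Module.FaithfullyFlat.of_comap_surjective fun P => by
    obtain ⟨Q, hQ⟩ := hgW (show PrimeSpectrum.comap (algebraMap A A') P ∈ PrimeSpectrum.basicOpen g from
      (PrimeSpectrum.localization_away_comap_range A' g).subset ⟨P, rfl⟩)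
    obtain ⟨Q', rfl⟩ : Q ∈ Set.range (PrimeSpectrum.comap (algebraMap B B')) := by
      rw [PrimeSpectrum.localization_away_comap_range B' (φ g)]
      show φ g ∉ Q.asIdeal
      intro hm
      have h0 : g ∈ (PrimeSpectrum.comap (algebraMap A A') P).asIdeal := by rw [← hQ]; exact hm
      exact ((PrimeSpectrum.localization_away_comap_range A' g).subset ⟨P, rfl⟩) h0
    refine ⟨Q', PrimeSpectrum.localization_comap_injective A' (Submonoid.powers g) ?_⟩
    rw [← hQ]
    exact congrArg (fun r => PrimeSpectrum.comap r Q') ((IsScalarTower.algebraMap_eq A A' B').symm.trans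
      (IsScalarTower.algebraMap_eq A B B'))
  let u := Spec.map (CommRingCat.ofHom (algebraMap A A'))
  let u' := Spec.map (CommRingCat.ofHom (algebraMap B B'))
  haveI : IsOpenImmersion u := IsOpenImmersion.of_isLocalization (S := A') g
  haveI : IsOpenImmersion u' := IsOpenImmersion.of_isLocalization (S := B') (φ g)
  have w' : Spec.map (CommRingCat.ofHom (algebraMap A' B')) ≫ u ≫ l = (u' ≫ j) ≫ f := by
    rw [Category.assoc, ← w, ← Category.assoc, ← Category.assoc, ← Spec.map_comp, ← Spec.map_comp,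
      ← CommRingCat.ofHom_comp, ← CommRingCat.ofHom_comp, ← IsScalarTower.algebraMap_eq]
    rfl
  obtain ⟨ω, ⟨e⟩⟩ := QCohD.exists_tildeD_iso (R := CommRingCat.of A') (QCohD.isQCohD_rd (u ≫ l) hq)
  obtain ⟨e'⟩ := nonempty_chart_lpull f (u' ≫ j) (u ≫ l) w' e.symm
  obtain ⟨ω', hω', ⟨e''⟩⟩ := hK B' (u' ≫ j)
  haveI := (QCohD.full_faithful (CommRingCat.of B')).1
  haveI := (QCohD.full_faithful (CommRingCat.of B')).2
  have hd := H4DR.Dualizing.isDualizing_of_FD (A := A') (B := B') (K := ω)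
    (H4DR.Dualizing.isDualizing_of_iso ((DCoh.tildeD (CommRingCat.of B')).preimageIso (e''.symm ≪≫ e')) hω')
  refine ⟨A', inferInstance, u ≫ l, inferInstance, ?_, ω, hd, ⟨e.symm⟩⟩
  obtain ⟨P, hP⟩ : PrimeSpectrum.comap (algebraMap A B) q ∈ Set.range (PrimeSpectrum.comap (algebraMap A A')) := by
    rw [PrimeSpectrum.localization_away_comap_range A' g]; exact hpg
  refine ⟨P, ?_⟩
  show l.base (PrimeSpectrum.comap (algebraMap A A') P) = f.base (j.base q)
  rw [hP]
  exact congr(($w).base q)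

end Groth.Agent.H4RSH
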