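import Groth.Agent.H4RSH.ProperLocal
import Groth.Agent.H4RSH.Invertible
import Groth.Agent.H4DR.Dualizing.Ordinary
import Groth.Agent.H4DR.Dualizing.Shift
import Groth.Agent.H4LC.FiniteH1
import Groth.Agent.H4Depth.EquidimS2
import Groth.Agent.H4Depth.Regular
import Groth.Agent.H05EGA4.CohenAlg
import Groth.Prelude.Def_DualSch

/-!
# The lowest cohomology of a dualizing complex is `(S₂)`
-/

set_option autoImplicit false
set_option linter.style.haveILetI false
set_option linter.unusedSectionVars false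
set_option backward.isDefEq.respectTransparency false
set_option maxHeartbeats 1000000
set_option synthInstance.maxHeartbeats 400000

universe u

open CategoryTheory CategoryTheory.Limits AlgebraicGeometry
open Groth.Agent.H4DR.Dualizing
open Groth.Agent.H4DR.Ext (Ex)

attribute [local instance] HasDerivedCategory.standard

namespace Groth.Agent.H4RSH.LowestS2

open ProperLocal (hasSk_of_subsingleton locHD exists_semilinear_HD_stalk)

/-- The local statement. -/
theorem hasSk_two_lowest {R : Type u} [CommRing R] [IsLocalRing R] {ω : Dual.D R}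
    (hω : Dual.IsDualizing R ω) (n : ℤ) (hlow : ∀ i : ℤ, i < n → Subsingleton (Dual.HD R ω i)) :
    LocCoh.HasSk 2 R (Dual.HD R ω n) ∧
      Module.IsTorsionFree R (Dual.HD R ω n) := by
  haveI := hω.isNoetherianRing
  haveI := hω.finite_cohomology n
  rcases subsingleton_or_nontrivial (Dual.HD R ω n) with h | h
  · exact ⟨hasSk_of_subsingleton _ 2, ⟨fun a _ x y _ => Subsingleton.elim _ _⟩⟩
  obtain ⟨m, hn, -, -⟩ := exists_normalized hω
  let Ω : Dual.D R := ω⟦m⟧
  have hΩ : Dual.IsDualizing R Ω := isDualizing_shift hω m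
  obtain ⟨d, hd⟩ : ∃ d : ℕ, ringKrullDim R = d :=
    H4Depth.exists_nat_ringKrullDim_eq (R := R)
  have hM : Module.supportDim R R = d := (Module.supportDim_self_eq_ringKrullDim (R := R)).trans hd
  let e : ∀ i : ℤ, Dual.HD R Ω i ≃ₗ[R] Dual.HD R ω (m + i) := fun i => H4DR.PCoh.hShift ω m i (m + i) rfl
  let s : Dual.HD R Ω (-(d : ℤ)) ≃ₗ[R] Ex (Dual.inD R R) Ω (-(d : ℤ)) := (H4DR.Ext.evalEquiv Ω _).symm
  obtain ⟨q₀, hq, hqd⟩ := exists_dim_minimal (A := R) hd
  let q : PrimeSpectrum R := ⟨q₀, hq.1.1⟩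
  have htop : ∀ p : PrimeSpectrum R, q ≤ p → p ∈ Module.support R (Dual.HD R Ω (-(d : ℤ))) := fun p hp => by
    rw [s.support_eq, mem_support_top_iff hΩ hn R hM]
    refine ⟨q, ?_, hp, hqd⟩
    rw [Module.mem_support_iff_of_finite, Module.annihilator_eq_bot.2 inferInstance]
    exact bot_le
  have h1 : n ≤ m + -(d : ℤ) := not_lt.1 fun hlt => by
    haveI := hlow _ hlt
    haveI : Subsingleton (Dual.HD R Ω (-(d : ℤ))) := (e _).toEquiv.subsingleton
    have := htop q le_rfl
    rw [Module.support_eq_empty] at this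
    exact this
  have h2 : -(d : ℤ) ≤ n - m := by
    haveI : Nontrivial (Dual.HD R Ω (n - m)) :=
      ((H4DR.PCoh.hShift ω m (n - m) n (by omega))).toEquiv.nontrivial
    haveI := (H4DR.Ext.evalEquiv Ω (n - m)).toEquiv.nontrivial
    obtain ⟨g1, g2⟩ := (dimBound hΩ hn R (n - m)).2 inferInstance
    rw [hM] at g1
    have g3 : (-(n - m)).toNat ≤ d := by exact_mod_cast g1
    omega
  obtain rfl : n = m + -(d : ℤ) := by omega
  have hS : LocCoh.HasSk 2 R (Dual.HD R ω (m + -(d : ℤ))) :=
    (H06EGA12.hasSk_iff_of_semilinear (RingHom.id R) Function.surjective_id (e (-(d : ℤ))).toAddEquiv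
      (fun a x => map_smul (e _) a x) 2).2 (hasSk_two_top hΩ hn R hM s)
  refine ⟨hS, ?_⟩
  haveI := hΩ.finite_cohomology (-(d : ℤ))
  refine ⟨fun a ha => ?_⟩
  have key : ∀ v : Dual.HD R Ω (-(d : ℤ)), a • v = 0 → v = 0 := fun v h => by
    by_contra hv
    have h1 : a ∈ ⋃ p ∈ associatedPrimes R (Dual.HD R Ω (-(d : ℤ))), (p : Set R) := by
      rw [biUnion_associatedPrimes_eq_zero_divisors R]
      exact ⟨v, hv, h⟩
    obtain ⟨p, hp, hap⟩ := Set.mem_iUnion₂.1 h1
    rw [associatedPrimes_top hΩ hn R hM s] at hp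
    have h2 : a ∈ ((nonZeroDivisors R : Set R))ᶜ := by
      rw [← biUnion_associatedPrimes_eq_compl_nonZeroDivisors]
      exact Set.mem_iUnion₂.2 ⟨p, hp.1, hap⟩
    exact h2 (mem_nonZeroDivisors_iff_right.2 fun z hz => ha.right (hz.trans (zero_mul a).symm))
  intro x y hxy
  refine (e (-(d : ℤ))).symm.injective (sub_eq_zero.1 (key _ ?_))
  rw [smul_sub, ← map_smul, ← map_smul, show a • x = a • y from hxy, sub_self]

/-- The scheme statement at a point. -/
theorem stalk_spec {X : Scheme.{u}}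
    [∀ (U : Scheme.{u}) (j : U ⟶ X) [IsOpenImmersion j], PreservesFiniteLimits (Scheme.Modules.restrictFunctor j)]
    [∀ (R : CommRingCat.{u}), PreservesFiniteLimits (tilde.functor R)]
    {K : DCoh.D X} (hK : Dual2.IsDualizingSch X K) (n : ℤ) (hlt : ∀ i : ℤ, i < n → IsZero (DCoh.HD K i)) (x : X) :
    LocCoh.HasSk 2 (X.presheaf.stalk x) ((DCoh.HD K n).presheaf.stalk x) ∧
      Module.IsTorsionFree (X.presheaf.stalk x) ((DCoh.HD K n).presheaf.stalk x) := by
  obtain ⟨B, j, hj, q, rfl⟩ := exists_affine_chart x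
  obtain ⟨ω, hω, ⟨e⟩⟩ := hK B j
  haveI := hω.isNoetherianRing
  have hlow : ∀ i : ℤ, i < n → Subsingleton (Dual.HD (Loc q) (loc ω q) i) := fun i hi => by
    obtain ⟨φ, hφ, T, -⟩ := exists_semilinear_HD_stalk j K ω e q i
    haveI : Subsingleton ((DCoh.HD K i).presheaf.stalk (j.base q)) :=
      AddCommGrpCat.subsingleton_of_isZero
        ((TopCat.Presheaf.stalkFunctor _ _).map_isZero ((Scheme.Modules.toPresheaf X).map_isZero (hlt i hi)))
    haveI : Subsingleton (LocalizedModule q.asIdeal.primeCompl (Dual.HD B ω i)) := T.toEquiv.subsingleton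
    exact (locHD ω q i).symm.toEquiv.subsingleton
  obtain ⟨h2, htf⟩ := hasSk_two_lowest (isDualizing_loc hω q) n hlow
  obtain ⟨φ, hφ, T, hT⟩ := exists_semilinear_HD_stalk j K ω e q n
  let t := locHD ω q n
  have h2' : LocCoh.HasSk 2 (Loc q) (LocalizedModule q.asIdeal.primeCompl (Dual.HD B ω n)) :=
    (H06EGA12.hasSk_iff_of_semilinear (RingHom.id (Loc q)) Function.surjective_id t.toAddEquiv
      (fun a x => map_smul t a x) 2).1 h2
  refine ⟨(H06EGA12.hasSk_iff_of_semilinear φ hφ T hT 2).2 h2', ⟨fun a ha x y hxy => ?_⟩⟩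
  haveI := htf
  obtain ⟨r, rfl⟩ := hφ a
  obtain ⟨σ⟩ := H4DualSch.exists_stalk_ringEquiv j q
  have hr : IsRegular r := by
    haveI := IsLocalization.isNoetherianRing q.asIdeal.primeCompl (Loc q) ‹IsNoetherianRing B›
    have hinj : Function.Injective φ := fun u v huv =>
      (H05EGA4.bijective_of_surjective_ringEndo (σ.symm.toRingHom.comp φ) (σ.symm.surjective.comp hφ)).1
        (congrArg σ.symm huv)
    exact isRegular_iff.2 ⟨fun u v h => hinj (ha.left (by simpa [map_mul] using congrArg φ h)), fun u v h => hinj (ha.right (by simpa [map_mul] using congrArg φ h))⟩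
  refine T.symm.injective (t.injective (Module.IsTorsionFree.isSMulRegular hr ?_))
  show r • t (T.symm x) = r • t (T.symm y)
  rw [← map_smul t, ← map_smul t]
  refine congrArg t (T.injective ?_)
  rw [hT, hT, T.apply_symm_apply, T.apply_symm_apply]
  exact hxy

end Groth.Agent.H4RSH.LowestS2
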