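import Groth.Agent.H4RSH.Tests
import Groth.Agent.LeadBrown.RHomPull
import Groth.Agent.LeadBrown.ShriekBC

/-!
# Inverse image along open immersions commutes with `RHom`
-/

set_option autoImplicit false
set_option linter.style.haveILetI false
set_option linter.unusedSectionVars false
set_option backward.isDefEq.respectTransparency false
set_option maxHeartbeats 1000000

universe u

open CategoryTheory CategoryTheory.Limits CategoryTheory.Pretriangulated AlgebraicGeometry Opposite

attribute [local instance] HasDerivedCategory.standard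

namespace Groth.Agent.H4RSH

open Groth.Agent.H10Coh Groth.Agent.H16Derived Groth.Agent.H16Derived.QCohD Groth.Agent.H16Derived.KFlat
  Groth.Agent.H16Derived.KFlat.Stalk Groth.Agent.H16Derived.Dual
open Groth.Agent.LeadBrown (cT cT_naturality_left cT_naturality_right adjS evS wR adjS_symm_wR rdIsoLpull)

variable {X : Scheme.{u}}

/-- The cohomology sheaves vanish on `V` when tests inside `V` vanish. -/
theorem isZero_restrict_hd_of_tests (Z : DCoh.D X) (i : ℤ) (V : X.Opens)
    (h : ∀ W : X.Opens, W ≤ V → ∀ f : (DerivedCategory.singleFunctor X.Modules i).obj (freeSh W) ⟶ Z, f = 0) :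
    IsZero ((DCoh.HD Z i).restrict V.ι) := by
  let C := DerivedCategory.Q.objPreimage Z
  let e : DerivedCategory.Q.obj C ≅ Z := DerivedCategory.Q.objObjPreimageIso Z
  let H := DCoh.HD Z i
  let i' : C.homology i ≅ H :=
    ((DerivedCategory.homologyFunctorFactors X.Modules i).app C).symm ≪≫
      (DerivedCategory.homologyFunctor X.Modules i).mapIso e
  haveI : Epi (C.homologyπ i ≫ i'.hom) := @epi_comp _ _ _ _ _ _ inferInstance i'.hom inferInstance
  have main : ∀ (U : X.Opens), U ≤ V → ∀ s : Γ(H, U), s = 0 := fun U hUV s => by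
    refine TopCat.Presheaf.section_ext (sh H) U _ _ fun x hx => ?_
    obtain ⟨W, hW, hxW, z, hz⟩ := exists_nhds_lift_of_epi (C.homologyπ i ≫ i'.hom) U s x hx
    let φ : freeSh W ⟶ C.cycles i := (freeShEquiv W _).symm z
    obtain ⟨a, ha⟩ := comp_homologyπ_mem_range C i e φ
    rw [h W (hW.trans hUV) a, θ_zero] at ha
    have h2 : freeShEquiv W H (φ ≫ C.homologyπ i ≫ i'.hom) = 0 := by
      have h3 := freeShEquiv_comp W (0 : freeSh W ⟶ H) (0 : H ⟶ H)
      rw [comp_zero] at h3
      exact (congrArg (freeShEquiv W H) ha.symm).trans h3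
    rw [freeShEquiv_comp, Equiv.apply_symm_apply] at h2
    show H.presheaf.germ U x hx s = H.presheaf.germ U x hx 0
    rw [map_zero]
    refine germ_eq_zero_of_le H hW hxW _ ?_
    exact hz.symm.trans h2
  rw [IsZero.iff_id_eq_zero]
  exact Scheme.Modules.hom_ext _ _ fun U => AddCommGrpCat.hom_ext (AddMonoidHom.ext fun s =>
    main _ (((V.ι.image_mono le_top).trans (le_of_eq (Scheme.Hom.image_top_eq_opensRange V.ι))).trans
      (le_of_eq V.opensRange_ι)) s)

/-- `RHom(k, C)` vanishes on `V` when `C` does. -/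
theorem isZero_rA_R (V : X.Opens) (k : DCoh.D X) {C : DCoh.D X} (hC : IsZero ((rA V).obj C)) :
    IsZero ((rA V).obj ((R k).obj C)) := by
  refine MVPush.isZero_of_hd _ fun i => ?_
  refine IsZero.of_iso ?_ (homologyRdIso V.ι _ i)
  refine isZero_restrict_hd_of_tests _ i V fun W hW f => ?_
  have hz : IsZero ((rA W).obj (C⟦i⟧)) := by
    refine IsZero.of_iso ?_ (((rA W).commShiftIso i).app C)
    exact Functor.map_isZero (shiftFunctor _ i)
      (((rd (X.homOfLE hW)).map_isZero hC).of_iso (rdComp (X.homOfLE hW) V.ι W.ι (X.homOfLE_ι hW) C))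
  haveI : Subsingleton ((rA W).obj k ⟶ (rA W).obj (C⟦i⟧)) := ⟨fun a b => hz.eq_of_tgt a b⟩
  haveI := subsingleton_test k C i W this
  exact Subsingleton.elim _ _

/-- `T(H|_V, k)` has no maps to objects vanishing on `V`. -/
theorem subsingleton_cut_T (V : X.Opens) (H k : DCoh.D X) {C : DCoh.D X} (hC : IsZero ((rA V).obj C)) :
    Subsingleton (((T X).obj (cut V H)).obj k ⟶ C) := by
  haveI : Subsingleton (cut V H ⟶ (R k).obj C) := by
    haveI : Subsingleton ((rA V).obj H ⟶ (rA V).obj ((R k).obj C)) :=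
      ⟨fun a b => (isZero_rA_R V k hC).eq_of_tgt a b⟩
    exact ((cutAdj V).homEquiv _ _).injective.subsingleton
  exact ((adjR k).homEquiv (cut V H) C).injective.subsingleton

/-- Maps out of `Z` only depend on the restriction to `V`. -/
def SupIn (V : X.Opens) (Z : DCoh.D X) : Prop :=
  ∀ {Y Y' : DCoh.D X} (φ : Y ⟶ Y'), IsoOn V φ → Function.Bijective fun x : Z ⟶ Y => x ≫ φ

theorem supIn_cut (V : X.Opens) (H : DCoh.D X) : SupIn V (cut V H) :=
  fun φ hφ => (isoOn_iff_bijective V φ).1 hφ H

theorem supIn_T_cut (V : X.Opens) (H k : DCoh.D X) : SupIn V (((T X).obj (cut V H)).obj k) := by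
  intro Y Y' φ hφ
  obtain ⟨C, p, w, hT⟩ := distinguished_cocone_triangle φ
  haveI : IsIso ((rA V).map φ) := hφ
  have hC : IsZero ((rA V).obj C) :=
    (Triangle.isZero₃_iff_isIso₁ _ ((rA V).map_distinguished _ hT)).2 ‹_›
  have hC' : IsZero ((rA V).obj (C⟦(-1 : ℤ)⟧)) :=
    IsZero.of_iso (Functor.map_isZero (shiftFunctor _ (-1 : ℤ)) hC) (((rA V).commShiftIso (-1 : ℤ)).app C)
  haveI h₃ := subsingleton_cut_T V H k hC
  haveI h₀ := subsingleton_cut_T V H k hC'
  refine ⟨fun a b hab => ?_, fun y => ?_⟩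
  · obtain ⟨r, hr⟩ := Triangle.coyoneda_exact₂ _ (inv_rot_of_distTriang _ hT) (a - b)
      (by show (a - b) ≫ φ = 0; rw [Preadditive.sub_comp]; exact sub_eq_zero.2 hab)
    have hr0 : r = 0 := @Subsingleton.elim _ h₀ _ _
    rw [hr0, zero_comp] at hr
    exact sub_eq_zero.1 hr
  · obtain ⟨x, hx⟩ := Triangle.coyoneda_exact₂ _ hT y (@Subsingleton.elim _ h₃ _ _)
    exact ⟨x, hx.symm⟩

theorem SupIn.of_iso {V : X.Opens} {Z Z' : DCoh.D X} (e : Z ≅ Z') (h : SupIn V Z) : SupIn V Z' := by
  intro Y Y' φ hφ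
  have := ((e.homCongr (Iso.refl Y')).bijective.comp (h φ hφ)).comp (e.homCongr (Iso.refl Y)).symm.bijective
  convert this using 1
  funext x
  simp

theorem supIn_T_cut' (V : X.Opens) (k H : DCoh.D X) : SupIn V (((T X).obj k).obj (cut V H)) :=
  SupIn.of_iso (σ (cut V H) k) (supIn_T_cut V H k)

variable {U : Scheme.{u}} (j : U ⟶ X) [IsOpenImmersion j] [DCoh.HasLpull j] [DCoh.HasRpush j]

theorem isoOn_unit_lpullRpush (Y : DCoh.D X) : IsoOn j.opensRange ((lpullRpushAdj j).unit.app Y) := by
  haveI := Thomason.isIso_restrictRpushAdj_counit j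
  let a := Thomason.restrictRpushAdj j
  haveI : IsIso (a.counit.app ((rd j).obj Y)) := NatIso.isIso_app_of_isIso _ _
  haveI : IsIso ((rd j).map (a.unit.app Y)) := by
    haveI : IsIso ((rd j).map (a.unit.app Y) ≫ a.counit.app ((rd j).obj Y)) := by
      rw [a.left_triangle_components Y]; exact (inferInstance : IsIso (𝟙 ((rd j).obj Y)))
    exact IsIso.of_isIso_comp_right _ (a.counit.app ((rd j).obj Y))
  obtain ⟨κ⟩ := LeadBrown.nonempty_rdCompIso j.isoOpensRange.hom j.opensRange.ι j j.isoOpensRange_hom_ι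
  haveI := LeadBrown.faithful_rd_of_isIso j.isoOpensRange.hom
  haveI h1 : IsoOn j.opensRange (a.unit.app Y) := by
    haveI : IsIso ((rd j.isoOpensRange.hom).map ((rA j.opensRange).map (a.unit.app Y))) :=
      (NatIso.isIso_map_iff κ (a.unit.app Y)).1 ‹_›
    exact isIso_of_reflects_iso _ (rd j.isoOpensRange.hom)
  have h2 : a.unit.app Y ≫ (DCoh.Rpush j).map ((rdIsoLpull j).hom.app Y) = (lpullRpushAdj j).unit.app Y :=
    Adjunction.unit_leftAdjointUniq_hom_app _ _ Y
  rw [← h2]
  exact IsoOn.comp h1 (isoOn_of_isIso _ _)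

/-- Restriction is bijective on maps out of objects supported in the open. -/
theorem bijective_lpull_map {Z : DCoh.D X} (h : SupIn j.opensRange Z) (Y : DCoh.D X) :
    Function.Bijective fun x : Z ⟶ Y => (DCoh.Lpull j).map x := by
  have e : (fun x : Z ⟶ Y => (DCoh.Lpull j).map x) =
      ((lpullRpushAdj j).homEquiv Z ((DCoh.Lpull j).obj Y)).symm ∘ fun x => x ≫ (lpullRpushAdj j).unit.app Y := by
    funext x
    simp [Adjunction.homEquiv_counit]
  rw [e]
  exact ((lpullRpushAdj j).homEquiv _ _).symm.bijective.comp (h _ (isoOn_unit_lpullRpush j Y))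

theorem exists_supIn_lift (G : DCoh.D U) :
    ∃ H : DCoh.D X, Nonempty ((DCoh.Lpull j).obj (cut j.opensRange H) ≅ G) := by
  let H := (DCoh.Rpush j).obj G
  haveI := Thomason.isIso_restrictRpushAdj_counit j
  obtain ⟨κ⟩ := LeadBrown.nonempty_rdCompIso j.isoOpensRange.hom j.opensRange.ι j j.isoOpensRange_hom_ι
  haveI : IsIso ((rA j.opensRange).map ((cutAdj j.opensRange).counit.app H)) :=
    isoOn_cutAdj_counit j.opensRange H
  haveI : IsIso ((rd j).map ((cutAdj j.opensRange).counit.app H)) :=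
    (NatIso.isIso_map_iff κ _).2 (Functor.map_isIso (rd j.isoOpensRange.hom) ((rA j.opensRange).map _))
  haveI : IsIso ((Thomason.restrictRpushAdj j).counit.app G) := NatIso.isIso_app_of_isIso _ _
  exact ⟨H, ⟨(rdIsoLpull j).symm.app _ ≪≫ asIso ((rd j).map ((cutAdj j.opensRange).counit.app H)) ≪≫
    asIso ((Thomason.restrictRpushAdj j).counit.app G)⟩⟩

/-- Mates of comparisons compatible with restriction are invertible. -/
theorem isIso_mate {F G : DCoh.D X ⥤ DCoh.D X} (adj : F ⊣ G) {F' G' : DCoh.D U ⥤ DCoh.D U} (adj' : F' ⊣ G')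
    (c : F ⋙ DCoh.Lpull j ≅ DCoh.Lpull j ⋙ F') (hF : ∀ H, SupIn j.opensRange (F.obj (cut j.opensRange H)))
    (K : DCoh.D X) :
    IsIso ((adj'.homEquiv _ _) (c.inv.app (G.obj K) ≫ (DCoh.Lpull j).map (adj.counit.app K))) := by
  set w := (adj'.homEquiv _ _) (c.inv.app (G.obj K) ≫ (DCoh.Lpull j).map (adj.counit.app K))
  refine (isIso_iff_yoneda_map_bijective w).2 fun G₀ => ?_
  obtain ⟨H, ⟨u⟩⟩ := exists_supIn_lift j G₀
  let Z := cut j.opensRange H
  have key : ∀ x : Z ⟶ G.obj K, (adj'.homEquiv _ _).symm ((DCoh.Lpull j).map x ≫ w) =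
      c.inv.app Z ≫ (DCoh.Lpull j).map ((adj.homEquiv _ _).symm x) := fun x => by
    rw [Adjunction.homEquiv_naturality_left_symm, Equiv.symm_apply_apply, adj.homEquiv_counit, Functor.map_comp,
      ← Category.assoc, ← Category.assoc]
    exact congrArg (· ≫ _) (c.inv.naturality x)
  have h1 : Function.Bijective fun x : Z ⟶ G.obj K => (DCoh.Lpull j).map x ≫ w := by
    have hc : Function.Bijective fun x : Z ⟶ G.obj K =>
        c.inv.app Z ≫ (DCoh.Lpull j).map ((adj.homEquiv _ _).symm x) := by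
      have hb := ((c.app Z).homCongr (Iso.refl ((DCoh.Lpull j).obj K))).bijective.comp
        ((bijective_lpull_map j (hF H) K).comp (adj.homEquiv Z K).symm.bijective)
      convert hb using 1
      funext x
      exact (congrArg (c.inv.app Z ≫ ·) (Category.comp_id _)).symm
    rw [← funext key] at hc
    exact (Function.Bijective.of_comp_iff' (adj'.homEquiv _ _).symm.bijective _).1 hc
  have h2 := (Function.Bijective.of_comp_iff (fun y => y ≫ w)
    (bijective_lpull_map j (supIn_cut j.opensRange H) (G.obj K))).1 h1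
  have := ((u.homCongr (Iso.refl _)).bijective.comp h2).comp (u.homCongr (Iso.refl _)).symm.bijective
  convert this using 1
  funext y
  simp

/-- `Lj^*` commutes with `RHom` for open immersions. -/
theorem isIso_wR (k L : DCoh.D X) : IsIso (wR j k L) :=
  isIso_mate j (adjS k) (adjS ((DCoh.Lpull j).obj k))
    (NatIso.ofComponents (fun a => cT j k a) fun f => cT_naturality_right j k f)
    (fun H => supIn_T_cut' _ k H) L

/-- The comparison for the other evaluation. -/
noncomputable def wRo (k L : DCoh.D X) :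
    (DCoh.Lpull j).obj ((R k).obj L) ⟶ (R ((DCoh.Lpull j).obj k)).obj ((DCoh.Lpull j).obj L) :=
  (adjR _).homEquiv _ _ ((cT j ((R k).obj L) k).inv ≫ (DCoh.Lpull j).map ((adjR k).counit.app L))

theorem isIso_wRo (k L : DCoh.D X) : IsIso (wRo j k L) :=
  isIso_mate j (adjR k) (adjR ((DCoh.Lpull j).obj k))
    (NatIso.ofComponents (fun a => cT j a k) fun f => cT_naturality_left j f k)
    (fun H => supIn_T_cut _ H k) L

/-- `wRo` on adjoint maps. -/
theorem map_wRo {k L G : DCoh.D X} (z : ((T X).obj G).obj k ⟶ L) :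
    (DCoh.Lpull j).map ((adjR k).homEquiv G L z) ≫ wRo j k L =
      (adjR _).homEquiv _ _ ((cT j G k).inv ≫ (DCoh.Lpull j).map z) := by
  apply ((adjR _).homEquiv _ _).symm.injective
  rw [Equiv.symm_apply_apply, wRo, Adjunction.homEquiv_naturality_left_symm, Equiv.symm_apply_apply]
  show ((T U).map _).app ((DCoh.Lpull j).obj k) ≫ _ = _
  have hr := cT_naturality_left j ((adjR k).homEquiv G L z) k
  rw [← cancel_epi (cT j G k).hom, ← reassoc_of% hr, Iso.hom_inv_id_assoc, ← Functor.map_comp,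
    Iso.hom_inv_id_assoc]
  exact congrArg (DCoh.Lpull j).map (((adjR k).homEquiv_counit _ _ _).symm.trans (Equiv.symm_apply_apply _ _))

end Groth.Agent.H4RSH
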