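import Groth.Agent.H4DR.Dualizing.TopModule
import Groth.Agent.H4DR.Dualizing.Loci
import Groth.Agent.H06EGA12.Semilinear

/-!
# A complex at a prime where it is dualizing and normalized
-/

set_option autoImplicit false
set_option linter.style.haveILetI false
set_option linter.unusedSectionVars false
set_option backward.isDefEq.respectTransparency false
set_option synthInstance.maxHeartbeats 400000

universe u

open CategoryTheory CategoryTheory.Limits
open Groth.Agent.H4DR.Dualizing
open Groth.Agent.H4DR.Ext (Ex)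

attribute [local instance] HasDerivedCategory.standard

namespace Groth.Agent.H4RSH.ProperLocal

section Over

variable {B : Type u} [CommRing B] {m : PrimeSpectrum B}

theorem exists_over {q : PrimeSpectrum B} (h : q ≤ m) :
    ∃ P : PrimeSpectrum (Loc m), PrimeSpectrum.comap (algebraMap B (Loc m)) P = q := by
  have : q ∈ Set.range (PrimeSpectrum.comap (algebraMap B (Loc m))) := by
    rw [PrimeSpectrum.localization_comap_range (Loc m) m.asIdeal.primeCompl]
    exact Set.disjoint_left.2 fun z hz hz' => hz (h hz')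
  exact this

theorem comap_le (P : PrimeSpectrum (Loc m)) : PrimeSpectrum.comap (algebraMap B (Loc m)) P ≤ m := by
  show P.asIdeal.comap (algebraMap B (Loc m)) ≤ m.asIdeal
  exact (Ideal.comap_mono (IsLocalRing.le_maximalIdeal P.2.ne_top)).trans_eq
    (IsLocalization.AtPrime.under_maximalIdeal (Loc m) m.asIdeal)

theorem over_le_iff (P Q : PrimeSpectrum (Loc m)) :
    PrimeSpectrum.comap (algebraMap B (Loc m)) P ≤ PrimeSpectrum.comap (algebraMap B (Loc m)) Q ↔ P ≤ Q := by
  refine ⟨fun h => ?_, fun h => Ideal.comap_mono h⟩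
  show P.asIdeal ≤ Q.asIdeal
  rw [← IsLocalization.map_under m.asIdeal.primeCompl (Loc m) P.asIdeal,
    ← IsLocalization.map_under m.asIdeal.primeCompl (Loc m) Q.asIdeal]
  exact Ideal.map_mono h

set_option maxHeartbeats 1000000 in
theorem mem_support_over (N : Type u) [AddCommGroup N] [Module B N] (P : PrimeSpectrum (Loc m)) :
    P ∈ Module.support (Loc m) (LocalizedModule m.asIdeal.primeCompl N) ↔
      PrimeSpectrum.comap (algebraMap B (Loc m)) P ∈ Module.support B N := by
  obtain ⟨φ, -, e, -⟩ := H06EGA12.exists_semilinear_localization N m.asIdeal P.asIdeal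
  rw [Module.mem_support_iff, Module.mem_support_iff]
  exact e.toEquiv.symm.nontrivial_congr

end Over

variable {B : Type u} [CommRing B] [IsNoetherianRing B] (ω : Dual.D B) (m : PrimeSpectrum B)

/-- Cohomology at `m`. -/
noncomputable def locHD (i : ℤ) :
    LocalizedModule m.asIdeal.primeCompl (Dual.HD B ω i) ≃ₗ[Loc m] Dual.HD (Loc m) (loc ω m) i :=
  haveI : Module.Flat B (Loc m) := IsLocalization.flat _ m.asIdeal.primeCompl
  (LocalizedModule.equivTensorProduct m.asIdeal.primeCompl (Dual.HD B ω i)).trans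
    ((H4DR.FlatBC.hBC (Loc m) i ω).symm)

theorem mem_support_HD_over (i : ℤ) (P : PrimeSpectrum (Loc m)) :
    P ∈ Module.support (Loc m) (Dual.HD (Loc m) (loc ω m) i) ↔
      PrimeSpectrum.comap (algebraMap B (Loc m)) P ∈ Module.support B (Dual.HD B ω i) := by
  rw [← (locHD ω m i).support_eq]
  exact mem_support_over _ P

variable (hd : Dual.IsDualizing (Loc m) (loc ω m)) (hn : Dual.IsNormalized (Loc m) (loc ω m))

theorem nontrivial_of_mem {q : PrimeSpectrum B} (hq : q ≤ m) {i : ℤ}
    (h : q ∈ Module.support B (Dual.HD B ω i)) : Nontrivial (Dual.HD (Loc m) (loc ω m) i) :=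
  haveI := Module.mem_support_iff.1 (Module.mem_support_mono (p := q) (q := m) hq h)
  (locHD ω m i).toEquiv.symm.nontrivial

include hd hn in
theorem supportDim_loc_le (i : ℤ) :
    Module.supportDim (Loc m) (LocalizedModule m.asIdeal.primeCompl (Dual.HD B ω i)) ≤
      ((-i).toNat : WithBot ℕ∞) := by
  haveI : IsNoetherianRing (Loc m) := hd.isNoetherianRing
  have h1 := (dimBound hd hn (Loc m) i).1
  rw [Module.supportDim_eq_of_equiv (H4DR.Ext.evalEquiv (loc ω m) i)] at h1
  exact (Module.supportDim_eq_of_equiv (locHD ω m i)).trans_le h1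

include hd hn in
theorem range_of_mem {n : ℕ} (hdim : ringKrullDim (Loc m) ≤ (n : WithBot ℕ∞)) {q : PrimeSpectrum B}
    (hq : q ≤ m) {i : ℤ} (h : q ∈ Module.support B (Dual.HD B ω i)) :
    -(n : ℤ) ≤ i ∧ i ≤ 0 ∧ (i = -(n : ℤ) → ringKrullDim (Loc m) = (n : WithBot ℕ∞)) := by
  haveI : IsNoetherianRing (Loc m) := hd.isNoetherianRing
  haveI := nontrivial_of_mem ω m hq h
  haveI := (H4DR.Ext.evalEquiv (loc ω m) i).toEquiv.nontrivial
  obtain ⟨h1, h2⟩ := (dimBound hd hn (Loc m) i).2 inferInstance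
  rw [Module.supportDim_self_eq_ringKrullDim] at h1
  have h3 : (-i).toNat ≤ n := by exact_mod_cast h1.trans hdim
  refine ⟨by omega, h2, fun hi => le_antisymm hdim ?_⟩
  rwa [show (-i).toNat = n by omega] at h1

include hd hn in
/-- Top support: a component of full dimension passes. -/
theorem exists_dim_of_mem_top {n : ℕ} (hdim : ringKrullDim (Loc m) ≤ (n : WithBot ℕ∞)) {q : PrimeSpectrum B}
    (hq : q ≤ m) (h : q ∈ Module.support B (Dual.HD B ω (-(n : ℤ)))) :
    ∃ P : PrimeSpectrum (Loc m), PrimeSpectrum.comap (algebraMap B (Loc m)) P ≤ q ∧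
      ringKrullDim (Loc m ⧸ P.asIdeal) = (n : WithBot ℕ∞) := by
  haveI : IsNoetherianRing (Loc m) := hd.isNoetherianRing
  have hn' := (range_of_mem ω m hd hn hdim hq h).2.2 rfl
  obtain ⟨Q, rfl⟩ := exists_over hq
  have hM : Module.supportDim (Loc m) (Loc m) = (n : WithBot ℕ∞) :=
    (Module.supportDim_self_eq_ringKrullDim (R := Loc m)).trans hn'
  have h1 := (mem_support_HD_over ω m _ Q).2 h
  rw [← (H4DR.Ext.evalEquiv (loc ω m) _).support_eq] at h1
  obtain ⟨P, -, hPQ, hP⟩ := (mem_support_top_iff hd hn (Loc m) hM Q).1 h1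
  exact ⟨P, (over_le_iff P Q).2 hPQ, hP⟩

include hd hn in
/-- Top support: full dimension suffices. -/
theorem mem_top_of_dim {n : ℕ} (hdim : ringKrullDim (Loc m) ≤ (n : WithBot ℕ∞)) (P : PrimeSpectrum (Loc m))
    (hP : (n : WithBot ℕ∞) ≤ ringKrullDim (Loc m ⧸ P.asIdeal)) :
    PrimeSpectrum.comap (algebraMap B (Loc m)) P ∈ Module.support B (Dual.HD B ω (-(n : ℤ))) := by
  haveI : IsNoetherianRing (Loc m) := hd.isNoetherianRing
  have hP' : ringKrullDim (Loc m ⧸ P.asIdeal) = (n : WithBot ℕ∞) :=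
    le_antisymm ((ringKrullDim_quotient_le _).trans hdim) hP
  have hM : Module.supportDim (Loc m) (Loc m) = (n : WithBot ℕ∞) :=
    (Module.supportDim_self_eq_ringKrullDim (R := Loc m)).trans (le_antisymm hdim (hP.trans (ringKrullDim_quotient_le _)))
  rw [← mem_support_HD_over, ← (H4DR.Ext.evalEquiv (loc ω m) _).support_eq]
  refine (mem_support_top_iff hd hn (Loc m) hM P).2 ⟨P, ?_, le_rfl, hP'⟩
  rw [Module.mem_support_iff_of_finite, Module.annihilator_eq_bot.2 inferInstance]
  exact bot_le

theorem hasSk_of_subsingleton {R : Type u} [CommRing R] (N : Type u) [AddCommGroup N] [Module R N] [Subsingleton N]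
    (k : ℕ) : LocCoh.HasSk k R N := fun p _ => by
  haveI : Subsingleton (LocalizedModule p.primeCompl N) := inferInstance
  rw [Module.supportDim_eq_bot_of_subsingleton]
  exact (min_le_right _ _).trans bot_le

include hd hn in
/-- The top cohomology is `(S₂)`. -/
theorem hasSk_two_loc {n : ℕ} (hdim : ringKrullDim (Loc m) ≤ (n : WithBot ℕ∞)) {q : PrimeSpectrum B} (hq : q ≤ m) :
    LocCoh.HasSk 2 (Loc q) (LocalizedModule q.asIdeal.primeCompl (Dual.HD B ω (-(n : ℤ)))) := by
  haveI : IsNoetherianRing (Loc m) := hd.isNoetherianRing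
  have h : LocCoh.HasSk 2 (Loc m) (LocalizedModule m.asIdeal.primeCompl (Dual.HD B ω (-(n : ℤ)))) := by
    rcases subsingleton_or_nontrivial (LocalizedModule m.asIdeal.primeCompl (Dual.HD B ω (-(n : ℤ)))) with h | h
    · exact hasSk_of_subsingleton _ 2
    · have hn' := (range_of_mem ω m hd hn hdim le_rfl (Module.mem_support_iff.2 h)).2.2 rfl
      have hM : Module.supportDim (Loc m) (Loc m) = (n : WithBot ℕ∞) :=
        (Module.supportDim_self_eq_ringKrullDim (R := Loc m)).trans hn'
      let t := locHD ω m (-(n : ℤ))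
      exact (H06EGA12.hasSk_iff_of_semilinear (RingHom.id (Loc m)) Function.surjective_id t.toAddEquiv
        (fun a x => map_smul t a x) 2).1 (hasSk_two_top hd hn (Loc m) hM (H4DR.Ext.evalEquiv (loc ω m) (-(n : ℤ))).symm)
  rw [H06EGA12.hasSk_localization_iff] at h ⊢
  exact fun Q' hQ' => h Q' (hQ'.trans hq)

include hd hn in
/-- A single degree: the module is zero or Cohen–Macaulay at every generization. -/
theorem cm_or_zero_loc (c : ℤ) (h1 : ∀ i : ℤ, i ≠ c → Subsingleton (Dual.HD (Loc m) (loc ω m) i))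
    {q : PrimeSpectrum B} (hq : q ≤ m) :
    Subsingleton (LocalizedModule q.asIdeal.primeCompl (Dual.HD B ω c)) ∨
      LocCoh.IsCohenMacaulayModule (Loc q) (LocalizedModule q.asIdeal.primeCompl (Dual.HD B ω c)) := by
  haveI : IsNoetherianRing (Loc m) := hd.isNoetherianRing
  haveI := hd.finite_cohomology c
  obtain ⟨eω⟩ := H4DR.Dualizing.nonempty_iso_single (X := loc ω m) c h1
    (LinearEquiv.refl (Loc m) (Dual.HD (Loc m) (loc ω m) c))
  have hsup : ∀ i : ℤ, i ≠ c → supEx (loc ω m) (Dual.HD (Loc m) (loc ω m) c) i = ∅ := fun i hi => by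
    haveI := hd.ext_self_subsingleton (i + -c) (by omega)
    haveI : Subsingleton (Ex (Dual.inD (Loc m) (Dual.HD (Loc m) (loc ω m) c)) (loc ω m) i) :=
      ((H4DR.Ext.shiftSrc _ (loc ω m) (-c) i _ rfl).trans (H4DR.Ext.preIso eω _)).injective.subsingleton
    exact Module.support_eq_empty_iff.2 inferInstance
  obtain ⟨P, rfl⟩ := exists_over hq
  obtain ⟨φ, hφ, e, he⟩ := H06EGA12.exists_semilinear_localization (Dual.HD B ω c) m.asIdeal P.asIdeal
  have hcm := (cm_or_zero_iff hd (Dual.HD (Loc m) (loc ω m) c) P).2 fun i j hi hj => by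
    by_contra hne
    rcases em (i = c) with rfl | hic
    · rw [hsup j (fun h => hne h.symm)] at hj; exact hj
    · rw [hsup i hic] at hi; exact hi
  let l := IsLocalizedModule.mapEquiv P.asIdeal.primeCompl
    (LocalizedModule.mkLinearMap P.asIdeal.primeCompl (LocalizedModule m.asIdeal.primeCompl (Dual.HD B ω c)))
    (LocalizedModule.mkLinearMap P.asIdeal.primeCompl (Dual.HD (Loc m) (loc ω m) c))
    (Localization.AtPrime P.asIdeal) (locHD ω m c)
  have he' : ∀ a x, (e.trans l.toAddEquiv) (a • x) = φ a • (e.trans l.toAddEquiv) x := fun a x => by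
    show l (e (a • x)) = φ a • l (e x)
    rw [he, map_smul]
  obtain ⟨-, -, -, h4, h5⟩ := H06EGA12.invariants_of_semilinear φ hφ (e.trans l.toAddEquiv) he'
  exact hcm.imp h4.1 h5.1

end Groth.Agent.H4RSH.ProperLocal
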