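import Groth.Agent.LeadBrown.Rel.Grade
import Groth.Agent.LeadBrown.Aff.Bound
import Groth.Agent.H4LC.Rees
import Groth.Agent.H17.KoszTwist.Lci
import Groth.Agent.H1CAlg.DepthHom
import Groth.Agent.H06EGA12.Semilinear
import Groth.Agent.H13CInt.FibreDim
import Groth.Agent.H4DR.Dualizing.FiniteMap
import Groth.Agent.H4RSH.Invertible
import Groth.Agent.H26Grass.Cone
import Groth.Agent.H8Props.CMAt

/-!
# `(S₂)` for the lowest cohomology of `φ^! R` over a Cohen–Macaulay point of the base
-/

set_option autoImplicit false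
set_option linter.style.haveILetI false
set_option linter.unusedSectionVars false
set_option backward.isDefEq.respectTransparency false
set_option maxHeartbeats 2000000
set_option synthInstance.maxHeartbeats 400000

universe u

open CategoryTheory CategoryTheory.Limits AlgebraicGeometry TensorProduct
open Groth.Agent.H4DR.Ext (Ex preIso postIso exCongr evalEquiv)

attribute [local instance] HasDerivedCategory.standard

namespace Groth.Agent.H4RSH.RelDualS2

open Groth.Agent.H8Props

section Scheme

variable {U W Y : Scheme.{u}} [IsLocallyNoetherian Y] [IsLocallyNoetherian W] (i : U ⟶ W) [IsClosedImmersion i]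
  (g : W ⟶ Y) (N : ℕ) [SmoothOfRelativeDimension N g]

include N in
/-- A smooth scheme is Cohen–Macaulay over Cohen–Macaulay points. -/
theorem isCM_stalk (w : W) (h : LocCoh.IsCohenMacaulayLocalRing (Y.presheaf.stalk (g w))) :
    LocCoh.IsCohenMacaulayLocalRing (W.presheaf.stalk w) := by
  haveI : Smooth g := SmoothOfRelativeDimension.smooth N g
  letI := (g.stalkMap w).hom.toAlgebra
  haveI : IsLocalHom (algebraMap (Y.presheaf.stalk (g w)) (W.presheaf.stalk w)) :=
    inferInstanceAs (IsLocalHom (g.stalkMap w).hom)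
  haveI : Module.Flat (Y.presheaf.stalk (g w)) (W.presheaf.stalk w) := Flat.stalkMap g w
  haveI hreg : IsRegularLocalRing (W.presheaf.stalk w ⧸
      (IsLocalRing.maximalIdeal (Y.presheaf.stalk (g w))).map (algebraMap (Y.presheaf.stalk (g w)) (W.presheaf.stalk w))) :=
    H06EGA17.isRegularLocalRing_fibre g w (by rw [g.smoothLocus_eq_top]; trivial)
  refine { supportDim_eq_depth := le_antisymm ?_ ?_ }
  · rw [Module.supportDim_self_eq_ringKrullDim]
    refine (H13CInt.ringKrullDim_le_add (Y.presheaf.stalk (g w)) (W.presheaf.stalk w)).trans ?_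
    rw [FlatDepth.depth_eq_add (Y.presheaf.stalk (g w)) (W.presheaf.stalk w), WithBot.coe_add,
      ← h.supportDim_eq_depth, Module.supportDim_self_eq_ringKrullDim]
    exact add_le_add le_rfl (H4Depth.depth_self_eq_ringKrullDim_of_regular _).ge
  · rw [Module.supportDim_self_eq_ringKrullDim]
    exact FlatDepth.depth_le_dim _

/-- The depth of a smooth scheme at a point of a closed subscheme with residue field of small transcendence degree. -/
theorem le_depth_stalk (r : ℕ) (u : U) (h : Dual3.resTrdeg (i ≫ g) u ≤ (r : Cardinal.{u})) :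
    ((N - r : ℕ) : ℕ∞) ≤ LocCoh.depth (W.presheaf.stalk (i u)) (W.presheaf.stalk (i u)) := by
  haveI : Smooth g := SmoothOfRelativeDimension.smooth N g
  let w := i u
  letI := (g.stalkMap w).hom.toAlgebra
  haveI : IsLocalHom (algebraMap (Y.presheaf.stalk (g w)) (W.presheaf.stalk w)) :=
    inferInstanceAs (IsLocalHom (g.stalkMap w).hom)
  haveI : Module.Flat (Y.presheaf.stalk (g w)) (W.presheaf.stalk w) := Flat.stalkMap g w
  haveI hreg : IsRegularLocalRing (W.presheaf.stalk w ⧸
      (IsLocalRing.maximalIdeal (Y.presheaf.stalk (g w))).map (algebraMap (Y.presheaf.stalk (g w)) (W.presheaf.stalk w))) :=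
    H06EGA17.isRegularLocalRing_fibre g w (by rw [g.smoothLocus_eq_top]; trivial)
  obtain ⟨t, ht, htr⟩ := FieldDim.fibreDimAt_eq g w
  have htr' : (t : Cardinal.{u}) ≤ (r : Cardinal.{u}) := by
    letI := (g.residueFieldMap w).hom.toAlgebra
    letI : Algebra (Y.residueField (g w)) (U.residueField u) := ((i ≫ g).residueFieldMap u).hom.toAlgebra
    have hb : Function.Bijective (i.residueFieldMap u).hom := by
      refine ⟨RingHom.injective _, fun y => ?_⟩
      obtain ⟨s, rfl⟩ := U.residue_surjective u y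
      obtain ⟨r, rfl⟩ := i.stalkMap_surjective u s
      exact ⟨W.residue (i u) r, congr($(Scheme.residue_residueFieldMap i u).hom r)⟩
    have hc : ∀ c : Y.residueField (g w), (i.residueFieldMap u).hom ((g.residueFieldMap w).hom c) =
        ((i ≫ g).residueFieldMap u).hom c := fun c => by
      rw [Scheme.residueFieldMap_comp]; rfl
    let e : W.residueField w ≃ₐ[Y.residueField (g w)] U.residueField u :=
      AlgEquiv.ofRingEquiv (f := RingEquiv.ofBijective _ hb) hc
    exact (htr.symm.trans e.trdeg_eq).trans_le h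
  have htn : t ≤ r := by exact_mod_cast htr'
  rw [FieldDim.fibreDimAt_of_smoothOfRelativeDimension g N w] at ht
  have hdep := H4Depth.depth_self_eq_ringKrullDim_of_regular (W.presheaf.stalk w ⧸
      (IsLocalRing.maximalIdeal (Y.presheaf.stalk (g w))).map (algebraMap (Y.presheaf.stalk (g w)) (W.presheaf.stalk w)))
  rw [show ringKrullDim (W.presheaf.stalk w ⧸ (IsLocalRing.maximalIdeal (Y.presheaf.stalk (g w))).map
    (algebraMap (Y.presheaf.stalk (g w)) (W.presheaf.stalk w))) = ringKrullDim (W.presheaf.stalk w ⧸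
      (IsLocalRing.maximalIdeal (Y.presheaf.stalk (g w))).map (g.stalkMap w).hom) from rfl] at hdep
  rw [← hdep] at ht
  obtain ⟨d, hd⟩ : ∃ d : ℕ, LocCoh.depth (W.presheaf.stalk w ⧸
      (IsLocalRing.maximalIdeal (Y.presheaf.stalk (g w))).map (algebraMap (Y.presheaf.stalk (g w)) (W.presheaf.stalk w)))
      (W.presheaf.stalk w ⧸ (IsLocalRing.maximalIdeal (Y.presheaf.stalk (g w))).map
        (algebraMap (Y.presheaf.stalk (g w)) (W.presheaf.stalk w))) = (d : ℕ∞) :=
    (ENat.ne_top_iff_exists.1 (FlatDepth.depth_ne_top _ _)).imp fun _ h => h.symm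
  rw [hd] at ht
  have hN : N = d + t := by exact_mod_cast ht
  rw [FlatDepth.depth_eq_add (Y.presheaf.stalk (g w)) (W.presheaf.stalk w), hd]
  refine le_trans ?_ le_add_self
  exact_mod_cast (by omega : N - r ≤ d)

end Scheme

section Affine

variable {R A : Type u} [CommRing R] [CommRing A] [IsNoetherianRing R] [IsNoetherianRing A] [Algebra R A]
  {n : ℕ} (ψ : MvPolynomial (Fin n) R →ₐ[R] A) (hψ : Function.Surjective ψ)

include hψ in
/-- The polynomial ring at a prime of `A` over a prime below a Cohen–Macaulay point. -/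
theorem cm_and_depth (p : Ideal R) [p.IsPrime] [LocCoh.IsCohenMacaulayLocalRing (Localization.AtPrime p)] (r : ℕ)
    (hr : ∀ q : PrimeSpectrum A, q.asIdeal ∈ minimalPrimes A →
      Dual3.resTrdeg (Spec.map (CommRingCat.ofHom (algebraMap R A))) q ≤ (r : Cardinal.{u}))
    (q : PrimeSpectrum A) (hq : q.asIdeal.comap (algebraMap R A) ≤ p) :
    LocCoh.IsCohenMacaulayLocalRing (Localization.AtPrime (q.asIdeal.comap ψ.toRingHom)) ∧
    ((n - r : ℕ) : ℕ∞) ≤ LocCoh.depth (Localization.AtPrime (q.asIdeal.comap ψ.toRingHom))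
      (Localization.AtPrime (q.asIdeal.comap ψ.toRingHom)) := by
  let P := MvPolynomial (Fin n) R
  let i := Spec.map (CommRingCat.ofHom ψ.toRingHom)
  let g := Spec.map (CommRingCat.ofHom (algebraMap R P))
  haveI : IsClosedImmersion i := IsClosedImmersion.spec_of_surjective _ hψ
  haveI := LeadBrown.Aff.smoothOfRelativeDimension_mvPolynomial R n
  have hw : i ≫ g = Spec.map (CommRingCat.ofHom (algebraMap R A)) := by
    rw [← Spec.map_comp, ← CommRingCat.ofHom_comp]
    congr 2
    exact ψ.comp_algebraMap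
  have hcm : ∀ w : PrimeSpectrum P, w.asIdeal.comap (algebraMap R P) ≤ p →
      LocCoh.IsCohenMacaulayLocalRing (Localization.AtPrime w.asIdeal) := by
    intro w hw'
    obtain ⟨e⟩ := H4DualSch.exists_stalk_ringEquiv (A := P) (𝟙 (Spec (CommRingCat.of P))) w
    obtain ⟨e'⟩ := H4DualSch.exists_stalk_ringEquiv (A := R) (𝟙 (Spec (CommRingCat.of R)))
      (PrimeSpectrum.comap (algebraMap R P) w)
    haveI : LocCoh.IsCohenMacaulayLocalRing
        (Localization.AtPrime (PrimeSpectrum.comap (algebraMap R P) w).asIdeal) :=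
      H26Grass.isCM_localization_of_le hw'
    have h0 := isCM_stalk (N := n) g w (H8Props.CMAt.isCohenMacaulayLocalRing_of_ringEquiv e')
    exact @H8Props.CMAt.isCohenMacaulayLocalRing_of_ringEquiv _ _ _ _ e.symm h0
  have hcomap : ∀ q' : PrimeSpectrum A,
      (q'.asIdeal.comap ψ.toRingHom).comap (algebraMap R P) = q'.asIdeal.comap (algebraMap R A) := fun q' => by
    rw [Ideal.comap_comap]
    exact congrArg (fun f => Ideal.comap f q'.asIdeal) ψ.comp_algebraMap
  have hCMq : LocCoh.IsCohenMacaulayLocalRing (Localization.AtPrime (q.asIdeal.comap ψ.toRingHom)) := hcm (PrimeSpectrum.comap ψ.toRingHom q) (by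
    show (q.asIdeal.comap ψ.toRingHom).comap (algebraMap R P) ≤ p
    rw [hcomap]; exact hq)
  refine ⟨hCMq, ?_⟩
  obtain ⟨q₀, hq₀, hle⟩ := Ideal.exists_minimalPrimes_le (bot_le : (⊥ : Ideal A) ≤ q.asIdeal)
  haveI : q₀.IsPrime := hq₀.1.1
  let Q₀ : PrimeSpectrum A := ⟨q₀, hq₀.1.1⟩
  have h1 := le_depth_stalk i g n r Q₀ (by rw [hw]; exact hr Q₀ hq₀)
  obtain ⟨e₀⟩ := H4DualSch.exists_stalk_ringEquiv (A := P) (𝟙 (Spec (CommRingCat.of P)))
    (PrimeSpectrum.comap ψ.toRingHom Q₀)
  have h2 : ((n - r : ℕ) : ℕ∞) ≤ LocCoh.depth (Localization.AtPrime (q₀.comap ψ.toRingHom))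
      (Localization.AtPrime (q₀.comap ψ.toRingHom)) :=
    h1.trans_eq (LeadBrown.Rel.depth_eq_of_ringEquiv e₀)
  refine WithBot.coe_le_coe.1 ((WithBot.coe_le_coe.2 h2).trans ((FlatDepth.depth_le_dim _).trans ?_))
  rw [← hCMq.supportDim_eq_depth, Module.supportDim_self_eq_ringKrullDim,
    IsLocalization.AtPrime.ringKrullDim_eq_height (q₀.comap ψ.toRingHom),
    IsLocalization.AtPrime.ringKrullDim_eq_height (q.asIdeal.comap ψ.toRingHom)]
  exact WithBot.coe_le_coe.2 (Ideal.height_mono (Ideal.comap_mono hle))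

end Affine

section Local

variable {L : Type u} [CommRing L] [IsNoetherianRing L] [IsLocalRing L]

theorem hasSk_two_of_isCM (N : Type u) [AddCommGroup N] [Module L N] [Module.Finite L N]
    (h : LocCoh.IsCohenMacaulayModule L N) : LocCoh.HasSk 2 L N := fun p hp => by
  by_cases hmem : (⟨p, hp⟩ : PrimeSpectrum L) ∈ Module.support L N
  · exact (min_le_right _ _).trans_eq (H4Depth.IsCM.localization h p hmem).1
  · haveI : Subsingleton (LocalizedModule p.primeCompl N) := Module.notMem_support_iff.1 hmem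
    rw [Module.supportDim_eq_bot_of_subsingleton]
    simp

/-- `Ext` into a Cohen–Macaulay local ring from a module killed by an ideal of grade at least `c`. -/
theorem local_ext (hCM : LocCoh.IsCohenMacaulayLocalRing L) (M : Type u) [AddCommGroup M] [Module L M]
    [Module.Finite L M] {J : Ideal L} (hJ : J ≤ IsLocalRing.maximalIdeal L) (hM : J ≤ Module.annihilator L M)
    (c : ℕ) (hc : (c : ℕ∞) ≤ LocCoh.idealDepth J L) :
    (∀ j < c, Subsingleton (Abelian.Ext (ModuleCat.of L M) (ModuleCat.of L L) j)) ∧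
      LocCoh.HasSk 2 L (Abelian.Ext (ModuleCat.of L M) (ModuleCat.of L L) c) := by
  have hIM : J • (⊤ : Submodule L L) ≠ ⊤ := by
    rw [smul_eq_mul, Ideal.mul_top]
    exact ne_top_of_le_ne_top (IsLocalRing.maximalIdeal.isMaximal L).ne_top hJ
  obtain ⟨rs, rfl, hmem, hreg⟩ := H4Depth.exists_isWeaklyRegular_of_le_idealDepth hIM hc
  obtain ⟨hvan, ⟨e⟩⟩ := H4LC.ext_rees M rs L hreg fun r hr => hM (hmem r hr)
  refine ⟨hvan, ?_⟩
  have hN := H17.KoszTwist.isCM_quotient_list rs L (fun r hr => hJ (hmem r hr)) hreg hCM.supportDim_eq_depth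
  exact (H06EGA12.hasSk_iff_of_semilinear (RingHom.id L) Function.surjective_id e.toAddEquiv
    (fun a x => map_smul e a x) 2).1 (H1CAlg.hasSk_two_hom M (hasSk_two_of_isCM _ hN))

end Local

section Assembly

variable {R A : Type u} [CommRing R] [CommRing A] [IsNoetherianRing R] [IsNoetherianRing A] [Algebra R A]
  {n : ℕ} (ψ : MvPolynomial (Fin n) R →ₐ[R] A) (hψ : Function.Surjective ψ)
  [DRing.HasLBaseChange (algebraMap R (MvPolynomial (Fin n) R))]
  {Rψ : Dual.D (MvPolynomial (Fin n) R) ⥤ Dual.D A} (adj : DRing.restrictD ψ.toRingHom ⊣ Rψ)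

include adj in
/-- The cohomology of `φ^! R` is `Ext` into the polynomial ring, additively. -/
theorem exists_addEquiv_ext (i : ℤ) :
    letI := Module.compHom A ψ.toRingHom
    ∃ e : Dual.HD A (Dual2.shriekVia n Rψ (Dual.inD R R)) i ≃+
        Ex (Dual.inD (MvPolynomial (Fin n) R) A) (Dual.inD _ (MvPolynomial (Fin n) R)) (n + i),
      ∀ (a : MvPolynomial (Fin n) R) (x), e (ψ a • x) = a • e x := by
  letI := Module.compHom A ψ.toRingHom
  let P := MvPolynomial (Fin n) R
  let r : (DRing.restrictD ψ.toRingHom).obj (Dual.inD A A) ≅ Dual.inD P A :=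
    ((H26Dual2.reF ψ.toRingHom).mapDerivedCategorySingleFunctor 0).app (ModuleCat.of A A)
  let X := Rψ.obj ((DRing.LBaseChange (algebraMap R P)).obj (Dual.inD R R))
  let e₁ : Dual.HD A (Dual2.shriekVia n Rψ (Dual.inD R R)) i ≃ₗ[A] Dual.HD A X (n + i) :=
    H4DR.PCoh.hShift X n i (n + i) rfl
  let K := (DRing.LBaseChange (algebraMap R P)).obj (Dual.inD R R)
  let e₂ : Ex (Dual.inD P A) K ((n : ℤ) + i) ≃ₗ[P] Ex (Dual.inD P A) (Dual.inD P P) ((n : ℤ) + i) :=
    postIso _ ((shiftFunctor _ ((n : ℤ) + i)).mapIso LeadBrown.Aff.lbaseUnit)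
  let E₀ := H4DR.Dualizing.exAdj adj (Dual.inD A A) K ((n : ℤ) + i)
  have hadd : ∀ f f', E₀ (f + f') = E₀ f + E₀ f' := fun f f' => by
    haveI : (DRing.restrictD ψ.toRingHom).Additive := inferInstance
    show (adj.homEquiv _ _).symm ((f + f') ≫ _) = (adj.homEquiv _ _).symm (f ≫ _) + (adj.homEquiv _ _).symm (f' ≫ _)
    simp only [Adjunction.homEquiv_counit, Preadditive.add_comp, Functor.map_add]
  let E₁ : Ex (Dual.inD A A) (Rψ.obj K) ((n : ℤ) + i) ≃+ Ex ((DRing.restrictD ψ.toRingHom).obj (Dual.inD A A)) K ((n : ℤ) + i) :=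
    { E₀ with map_add' := hadd }
  refine ⟨(e₁.trans (evalEquiv X (n + i)).symm).toAddEquiv.trans (E₁.trans
    ((preIso r.symm _).trans e₂).toAddEquiv), fun a x => ?_⟩
  show e₂ (preIso r.symm _ (H4DR.Dualizing.exAdj adj _ _ _ ((evalEquiv X (n + i)).symm (e₁ (ψ.toRingHom a • x))))) =
    a • e₂ (preIso r.symm _ (H4DR.Dualizing.exAdj adj _ _ _ ((evalEquiv X (n + i)).symm (e₁ x))))
  rw [map_smul, map_smul, H4DR.Dualizing.exAdj_smul, map_smul, map_smul]

include hψ in
/-- The grade at a prime of `A`. -/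
theorem le_idealDepth_atPrime (p : Ideal R) [p.IsPrime] [LocCoh.IsCohenMacaulayLocalRing (Localization.AtPrime p)]
    (r : ℕ) (hr : ∀ q : PrimeSpectrum A, q.asIdeal ∈ minimalPrimes A →
      Dual3.resTrdeg (Spec.map (CommRingCat.ofHom (algebraMap R A))) q ≤ (r : Cardinal.{u}))
    (q : PrimeSpectrum A) (hq : q.asIdeal.comap (algebraMap R A) ≤ p) :
    ((n - r : ℕ) : ℕ∞) ≤ LocCoh.idealDepth
      ((RingHom.ker ψ.toRingHom).map (algebraMap _ (Localization.AtPrime (q.asIdeal.comap ψ.toRingHom))))
      (Localization.AtPrime (q.asIdeal.comap ψ.toRingHom)) := by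
  let P := MvPolynomial (Fin n) R
  let 𝔮 := q.asIdeal.comap ψ.toRingHom
  let L := Localization.AtPrime 𝔮
  let I' := (RingHom.ker ψ.toRingHom).map (algebraMap P L)
  haveI : IsNoetherianRing L := IsLocalization.isNoetherianRing 𝔮.primeCompl L inferInstance
  by_cases hI : I' • (⊤ : Submodule L L) = ⊤
  · rw [H4Depth.idealDepth_eq_top hI]; exact le_top
  obtain ⟨Q, hQ, hIQ, hd⟩ := H4Depth.exists_prime_depth_localization_eq I' L hI
  rw [← hd]
  let 𝔔 : Ideal P := Q.comap (algebraMap P L)
  have hk : RingHom.ker ψ.toRingHom ≤ 𝔔 := Ideal.map_le_iff_le_comap.1 hIQ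
  obtain ⟨q', hq'0⟩ : (⟨𝔔, inferInstance⟩ : PrimeSpectrum P) ∈ Set.range (PrimeSpectrum.comap ψ.toRingHom) := by
    rw [range_comap_of_surjective _ _ hψ]
    exact hk
  have hq' : q'.asIdeal.comap ψ.toRingHom = 𝔔 := congrArg PrimeSpectrum.asIdeal hq'0
  have hle : q'.asIdeal ≤ q.asIdeal := by
    rw [← Ideal.map_comap_of_surjective ψ.toRingHom hψ q'.asIdeal, hq', Ideal.map_le_iff_le_comap]
    intro z hz
    by_contra hz'
    exact hQ.ne_top (Ideal.eq_top_of_isUnit_mem Q hz (IsLocalization.map_units L (⟨z, hz'⟩ : 𝔮.primeCompl)))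
  obtain ⟨-, h1⟩ := cm_and_depth ψ hψ p r hr q' ((Ideal.comap_mono hle).trans hq)
  let e : Localization.AtPrime (q'.asIdeal.comap ψ.toRingHom) ≃+* Localization.AtPrime Q :=
    (IsLocalization.ringEquivOfRingEquiv (M := (q'.asIdeal.comap ψ.toRingHom).primeCompl)
      (T := 𝔔.primeCompl) (Localization.AtPrime (q'.asIdeal.comap ψ.toRingHom)) (Localization.AtPrime 𝔔)
      (RingEquiv.refl P) (Submonoid.ext fun x => ⟨fun ⟨y, hy, hyx⟩ => hyx ▸ (hq' ▸ hy : y ∉ 𝔔), fun hx => ⟨x, (hq'.symm ▸ hx : x ∉ q'.asIdeal.comap ψ.toRingHom), rfl⟩⟩)).trans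
      (IsLocalization.localizationLocalizationAtPrimeIsoLocalization 𝔮.primeCompl Q).toRingEquiv
  refine (h1.trans_eq (LeadBrown.Rel.depth_eq_of_ringEquiv (R := Localization.AtPrime (q'.asIdeal.comap ψ.toRingHom)) (S := Localization.AtPrime Q) e).symm).trans_eq ?_
  exact H4Depth.depth_congr ((IsLocalizedModule.linearEquiv Q.primeCompl (Algebra.linearMap L (Localization.AtPrime Q))
    (LocalizedModule.mkLinearMap Q.primeCompl L)).extendScalarsOfIsLocalization Q.primeCompl (Localization.AtPrime Q))

/-- Localisation of `Ext` into the ring at a prime. -/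
theorem localized_ext_equiv {P : Type u} [CommRing P] [IsNoetherianRing P] (M : Type u) [AddCommGroup M] [Module P M]
    [Module.Finite P M] (𝔮 : Ideal P) [𝔮.IsPrime] (N : Type u) [AddCommGroup N] [Module P N] (j : ℤ) (k : ℕ)
    (hk : (k : ℤ) = j) (l : N ≃ₗ[P] Ex (Dual.inD P M) (Dual.inD P P) j) :
    Nonempty (LocalizedModule 𝔮.primeCompl N ≃ₗ[Localization.AtPrime 𝔮]
      Abelian.Ext (ModuleCat.of (Localization.AtPrime 𝔮) (Localization.AtPrime 𝔮 ⊗[P] M))
        (ModuleCat.of (Localization.AtPrime 𝔮) (Localization.AtPrime 𝔮)) k) := by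
  subst hk
  let L := Localization.AtPrime 𝔮
  haveI : Module.Flat P L := IsLocalization.flat _ 𝔮.primeCompl
  have hB : H4DR.FlatBC.Bij L (Dual.inD P M) ((Dual.inD P P)⟦(k : ℤ)⟧) :=
    H4DR.FlatBC.bij_module_of_bounded (a := -(k : ℤ)) (fun i' hi' =>
      H4DR.FlatBC.subsingleton_HD_shift (c := 0)
        (fun l hl => H4DR.PCoh.subsingleton_HD_inD (ModuleCat.of P P) l hl.ne) (k : ℤ) i' (by omega)) M
  let eM : (H4DR.FlatBC.FD P L).obj (Dual.inD P M) ≅ Dual.inD L (L ⊗[P] M) :=
    ((H4DR.FlatBC.F P L).mapDerivedCategorySingleFunctor 0).app (ModuleCat.of P M) ≪≫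
      (DerivedCategory.singleFunctor (ModuleCat.{u} L) 0).mapIso
        (H4DR.FlatBC.toFₗ L (ModuleCat.of P M)).symm.toModuleIso
  let eP : (H4DR.FlatBC.FD P L).obj (Dual.inD P P) ≅ Dual.inD L L :=
    ((H4DR.FlatBC.F P L).mapDerivedCategorySingleFunctor 0).app (ModuleCat.of P P) ≪≫
      (DerivedCategory.singleFunctor (ModuleCat.{u} L) 0).mapIso
        ((H4DR.FlatBC.toFₗ L (ModuleCat.of P P)).symm.trans (TensorProduct.AlgebraTensorModule.rid P L L)).toModuleIso
  let hom : Abelian.Ext (ModuleCat.of L (L ⊗[P] M)) (ModuleCat.of L L) k ≃ₗ[L]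
      Ex (Dual.inD L (L ⊗[P] M)) (Dual.inD L L) (k : ℤ) :=
    CategoryTheory.Abelian.Ext.homLinearEquiv (R := L)
  exact ⟨(LocalizedModule.equivTensorProduct 𝔮.primeCompl N).trans
      ((LinearEquiv.baseChange P L _ _ l).trans ((H4DR.FlatBC.exBC (B := L) hB).trans
        (((preIso eM _).symm.trans (postIso _ ((shiftFunctor _ (k : ℤ)).mapIso eP))).trans hom.symm)))⟩

/-- Depth and dimension of a localisation of `Ext`, read over a quotient. -/
theorem localized_ext_invariants {P B : Type u} [CommRing P] [IsNoetherianRing P] [CommRing B] [IsNoetherianRing B]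
    [Algebra P B] [Module.Finite P B] (hs : Function.Surjective (algebraMap P B)) (q : Ideal B) [q.IsPrime] (N : Type u)
    [AddCommGroup N] [Module B N] (j : ℤ) (k : ℕ) (hk : (k : ℤ) = j)
    (e : N ≃+ Ex (Dual.inD P B) (Dual.inD P P) j) (he : ∀ (a : P) (x), e (algebraMap P B a • x) = a • e x) :
    LocCoh.depth (Localization.AtPrime q) (LocalizedModule q.primeCompl N) =
        LocCoh.depth (Localization.AtPrime (q.comap (algebraMap P B)))
          (Abelian.Ext (ModuleCat.of (Localization.AtPrime (q.comap (algebraMap P B))) (Localization.AtPrime (q.comap (algebraMap P B)) ⊗[P] B))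
            (ModuleCat.of (Localization.AtPrime (q.comap (algebraMap P B))) (Localization.AtPrime (q.comap (algebraMap P B)))) k) ∧
      Module.supportDim (Localization.AtPrime q) (LocalizedModule q.primeCompl N) =
        Module.supportDim (Localization.AtPrime (q.comap (algebraMap P B)))
          (Abelian.Ext (ModuleCat.of (Localization.AtPrime (q.comap (algebraMap P B))) (Localization.AtPrime (q.comap (algebraMap P B)) ⊗[P] B))
            (ModuleCat.of (Localization.AtPrime (q.comap (algebraMap P B))) (Localization.AtPrime (q.comap (algebraMap P B)))) k) := by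
  letI : Module P N := Module.compHom N (algebraMap P B)
  haveI : IsScalarTower P B N := .of_algebraMap_smul fun _ _ => rfl
  let l : N ≃ₗ[P] Ex (Dual.inD P B) (Dual.inD P P) j := e.toLinearEquiv he
  obtain ⟨h1, h2⟩ := H06EGA12.localization_invariants (N := N) hs q
  rw [h1, h2]
  obtain ⟨T⟩ := localized_ext_equiv B (q.comap (algebraMap P B)) N j k hk l
  exact ⟨H4Depth.depth_congr T, Module.supportDim_eq_of_equiv T⟩

/-- The condition `(S₂)` at the closed point. -/
theorem depth_at_closed_point {L : Type u} [CommRing L] [IsNoetherianRing L] [IsLocalRing L] (X : Type u)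
    [AddCommGroup X] [Module L X] (h : LocCoh.HasSk 2 L X) :
    min ((2 : ℕ) : WithBot ℕ∞) (Module.supportDim L X) ≤ ((LocCoh.depth L X : ℕ∞) : WithBot ℕ∞) := by
  have h3 := h (IsLocalRing.maximalIdeal L)
  have hu : (IsLocalRing.maximalIdeal L).primeCompl ≤ IsUnit.submonoid L := fun s hs => by
    by_contra hn
    exact hs ((IsLocalRing.mem_maximalIdeal s).2 hn)
  haveI := IsLocalization.self hu
  haveI : IsLocalizedModule (IsLocalRing.maximalIdeal L).primeCompl (LinearMap.id : X →ₗ[L] X) :=
    isLocalizedModule_id (IsLocalRing.maximalIdeal L).primeCompl X L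
  let t := (IsLocalizedModule.iso (IsLocalRing.maximalIdeal L).primeCompl (LinearMap.id : X →ₗ[L] X))
  let a := IsLocalization.atUnits L (IsLocalRing.maximalIdeal L).primeCompl
    (S := Localization.AtPrime (IsLocalRing.maximalIdeal L)) hu
  obtain ⟨g1, g2, -⟩ := H06EGA12.invariants_of_semilinear a.toAlgHom.toRingHom
    a.surjective t.symm.toAddEquiv (fun c x => by
      show t.symm (c • x) = a c • t.symm x
      rw [map_smul, show a c = algebraMap L _ c from a.commutes c, algebraMap_smul])
  rwa [g1, g2] at h3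

/-- The local input at a prime. -/
theorem local_input {P B : Type u} [CommRing P] [IsNoetherianRing P] [CommRing B]
    [Algebra P B] [Module.Finite P B] (q : Ideal B) [q.IsPrime] (c : ℕ)
    (hCM : LocCoh.IsCohenMacaulayLocalRing (Localization.AtPrime (q.comap (algebraMap P B))))
    (hdep : (c : ℕ∞) ≤ LocCoh.idealDepth
      ((RingHom.ker (algebraMap P B)).map (algebraMap P (Localization.AtPrime (q.comap (algebraMap P B)))))
      (Localization.AtPrime (q.comap (algebraMap P B)))) :
    (∀ j < c, Subsingleton (Abelian.Ext (ModuleCat.of (Localization.AtPrime (q.comap (algebraMap P B))) (Localization.AtPrime (q.comap (algebraMap P B)) ⊗[P] B))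
            (ModuleCat.of (Localization.AtPrime (q.comap (algebraMap P B))) (Localization.AtPrime (q.comap (algebraMap P B)))) j)) ∧
      LocCoh.HasSk 2 (Localization.AtPrime (q.comap (algebraMap P B))) (Abelian.Ext (ModuleCat.of (Localization.AtPrime (q.comap (algebraMap P B))) (Localization.AtPrime (q.comap (algebraMap P B)) ⊗[P] B))
            (ModuleCat.of (Localization.AtPrime (q.comap (algebraMap P B))) (Localization.AtPrime (q.comap (algebraMap P B)))) c) := by
  haveI : IsNoetherianRing (Localization.AtPrime (q.comap (algebraMap P B))) :=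
    IsLocalization.isNoetherianRing (q.comap (algebraMap P B)).primeCompl _ inferInstance
  refine local_ext hCM _ ?_ ?_ c hdep
  · refine Ideal.map_le_iff_le_comap.2 fun z hz => ?_
    rw [show (IsLocalRing.maximalIdeal (Localization.AtPrime (q.comap (algebraMap P B)))).comap (algebraMap P _) = q.comap (algebraMap P B)
      from IsLocalization.AtPrime.under_maximalIdeal _ (q.comap (algebraMap P B))]
    rw [Ideal.mem_comap, RingHom.mem_ker.1 hz]
    exact zero_mem _
  · refine Ideal.map_le_iff_le_comap.2 fun a ha => Module.mem_annihilator.2 fun t => ?_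
    rw [algebraMap_smul]
    induction t using TensorProduct.induction_on with
    | zero => simp
    | add u v hu hv => rw [smul_add, hu, hv, add_zero]
    | tmul l m =>
      rw [← TensorProduct.tmul_smul, Algebra.smul_def, RingHom.mem_ker.1 ha, zero_mul, TensorProduct.tmul_zero]

include hψ adj in
/-- Vanishing over a generization of a Cohen–Macaulay point. -/
theorem point_vanish (p : Ideal R) [p.IsPrime] [LocCoh.IsCohenMacaulayLocalRing (Localization.AtPrime p)]
    (r : ℕ) (hr : ∀ q : PrimeSpectrum A, q.asIdeal ∈ minimalPrimes A →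
      Dual3.resTrdeg (Spec.map (CommRingCat.ofHom (algebraMap R A))) q ≤ (r : Cardinal.{u}))
    (q : PrimeSpectrum A) (hq : q.asIdeal.comap (algebraMap R A) ≤ p) (i : ℤ) (hi : i < -(r : ℤ)) :
    Subsingleton (LocalizedModule q.asIdeal.primeCompl (Dual.HD A (Dual2.shriekVia n Rψ (Dual.inD R R)) i)) := by
  obtain ⟨e, he⟩ := exists_addEquiv_ext ψ adj i
  letI : Algebra (MvPolynomial (Fin n) R) A := ψ.toRingHom.toAlgebra
  haveI : Module.Finite (MvPolynomial (Fin n) R) A := Module.Finite.of_surjective (Algebra.linearMap _ A) hψ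
  rcases lt_or_ge ((n : ℤ) + i) 0 with hneg | hpos
  · haveI := H4DR.Dualizing.subsingleton_ex_neg (A := MvPolynomial (Fin n) R) A (MvPolynomial (Fin n) R) hneg
    haveI := e.toEquiv.subsingleton
    infer_instance
  obtain ⟨k, hk⟩ := Int.eq_ofNat_of_zero_le hpos
  obtain ⟨-, h2⟩ := localized_ext_invariants hψ q.asIdeal
    (Dual.HD A (Dual2.shriekVia n Rψ (Dual.inD R R)) i) _ k hk.symm e he
  haveI := (local_input q.asIdeal (n - r) (cm_and_depth ψ hψ p r hr q hq).1
    (le_idealDepth_atPrime ψ hψ p r hr q hq)).1 k (by omega)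
  exact (Module.supportDim_eq_bot_iff_subsingleton _ _).1 (h2.trans (Module.supportDim_eq_bot_of_subsingleton _ _))

include hψ adj in
/-- Depth over a generization of a Cohen–Macaulay point. -/
theorem point_depth (p : Ideal R) [p.IsPrime] [LocCoh.IsCohenMacaulayLocalRing (Localization.AtPrime p)]
    (r : ℕ) (hr : ∀ q : PrimeSpectrum A, q.asIdeal ∈ minimalPrimes A →
      Dual3.resTrdeg (Spec.map (CommRingCat.ofHom (algebraMap R A))) q ≤ (r : Cardinal.{u}))
    (q : PrimeSpectrum A) (hq : q.asIdeal.comap (algebraMap R A) ≤ p) :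
    min ((2 : ℕ) : WithBot ℕ∞) (Module.supportDim (Localization.AtPrime q.asIdeal)
        (LocalizedModule q.asIdeal.primeCompl (Dual.HD A (Dual2.shriekVia n Rψ (Dual.inD R R)) (-(r : ℤ))))) ≤
      ((LocCoh.depth (Localization.AtPrime q.asIdeal)
        (LocalizedModule q.asIdeal.primeCompl (Dual.HD A (Dual2.shriekVia n Rψ (Dual.inD R R)) (-(r : ℤ)))) : ℕ∞) :
          WithBot ℕ∞) := by
  obtain ⟨e, he⟩ := exists_addEquiv_ext ψ adj (-(r : ℤ))
  letI : Algebra (MvPolynomial (Fin n) R) A := ψ.toRingHom.toAlgebra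
  haveI : Module.Finite (MvPolynomial (Fin n) R) A := Module.Finite.of_surjective (Algebra.linearMap _ A) hψ
  rcases lt_or_ge n r with hneg | hpos
  · haveI := H4DR.Dualizing.subsingleton_ex_neg (A := MvPolynomial (Fin n) R) A (MvPolynomial (Fin n) R)
      (show (n : ℤ) + -(r : ℤ) < 0 by omega)
    haveI := e.toEquiv.subsingleton
    rw [Module.supportDim_eq_bot_of_subsingleton]
    simp
  obtain ⟨h1, h2⟩ := localized_ext_invariants hψ q.asIdeal
    (Dual.HD A (Dual2.shriekVia n Rψ (Dual.inD R R)) (-(r : ℤ))) _ (n - r) (by omega) e he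
  haveI : IsNoetherianRing (Localization.AtPrime (q.asIdeal.comap (algebraMap (MvPolynomial (Fin n) R) A))) :=
    IsLocalization.isNoetherianRing (q.asIdeal.comap (algebraMap (MvPolynomial (Fin n) R) A)).primeCompl _ inferInstance
  rw [h1, h2]
  exact depth_at_closed_point _ (local_input q.asIdeal (n - r) (cm_and_depth ψ hψ p r hr q hq).1
    (le_idealDepth_atPrime ψ hψ p r hr q hq)).2

end Assembly


section Submonoid

variable {F : Type u} [CommRing F] (N : Type u) [AddCommGroup N] [Module F N] (T : Submonoid F)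

/-- Localising at a prime a module localised at a submonoid. -/
theorem exists_semilinear_submonoid (P' : Ideal (Localization T)) [P'.IsPrime] :
    ∃ φ : Localization.AtPrime (P'.comap (algebraMap F (Localization T))) →+* Localization.AtPrime P',
      Function.Surjective φ ∧
      ∃ e : LocalizedModule (P'.comap (algebraMap F (Localization T))).primeCompl N ≃+
          LocalizedModule P'.primeCompl (LocalizedModule T N),
        ∀ a m, e (a • m) = φ a • e m := by
  let q := P'.comap (algebraMap F (Localization T))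
  let A := Localization.AtPrime P'
  haveI : IsLocalization.AtPrime A q :=
    IsLocalization.isLocalization_isLocalization_atPrime_isLocalization T A P'
  let e := IsLocalization.algEquiv q.primeCompl (Localization.AtPrime q) A
  obtain ⟨l, hl⟩ := H06EGA12.exists_semilinear
    (IsLocalizedModule.isBaseChange q.primeCompl (Localization.AtPrime q)
      (LocalizedModule.mkLinearMap q.primeCompl N))
    ((IsLocalizedModule.isBaseChange T (Localization T)
      (LocalizedModule.mkLinearMap T N)).comp
        (IsLocalizedModule.isBaseChange P'.primeCompl A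
          (LocalizedModule.mkLinearMap P'.primeCompl (LocalizedModule T N))))
    e.toAlgHom e.surjective (fun a ha m => by
      rw [show a = 0 from (map_eq_zero_iff _ e.injective).1 ha, zero_smul])
  exact ⟨e.toAlgHom.toRingHom, e.surjective, l, hl⟩

/-- A localisation vanishes if it vanishes at all primes not meeting the submonoid. -/
theorem subsingleton_localizedModule (h : ∀ q : PrimeSpectrum F, Disjoint (T : Set F) q.asIdeal →
      Subsingleton (LocalizedModule q.asIdeal.primeCompl N)) :
    Subsingleton (LocalizedModule T N) := by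
  rw [← Module.support_eq_empty_iff (R := Localization T), Set.eq_empty_iff_forall_notMem]
  intro P' hP'
  rw [Module.mem_support_iff, ← not_subsingleton_iff_nontrivial] at hP'
  obtain ⟨φ, -, e, -⟩ := exists_semilinear_submonoid N T P'.asIdeal
  haveI := h ⟨P'.asIdeal.comap (algebraMap F (Localization T)), inferInstance⟩
    (Set.disjoint_left.2 fun z hz hz' => P'.2.ne_top
      (Ideal.eq_top_of_isUnit_mem _ hz' (IsLocalization.map_units (Localization T) (⟨z, hz⟩ : T))))
  exact hP' e.symm.toEquiv.subsingleton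

/-- `(S_k)` for a localisation, checked at the primes not meeting the submonoid. -/
theorem hasSk_localizedModule (k : ℕ) (h : ∀ q : PrimeSpectrum F, Disjoint (T : Set F) q.asIdeal →
      min (k : WithBot ℕ∞) (Module.supportDim (Localization.AtPrime q.asIdeal) (LocalizedModule q.asIdeal.primeCompl N)) ≤
        ((LocCoh.depth (Localization.AtPrime q.asIdeal) (LocalizedModule q.asIdeal.primeCompl N) : ℕ∞) : WithBot ℕ∞)) :
    LocCoh.HasSk k (Localization T) (LocalizedModule T N) := by
  intro P' _
  obtain ⟨φ, hφ, e, he⟩ := exists_semilinear_submonoid N T P'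
  obtain ⟨g1, g2, -⟩ := H06EGA12.invariants_of_semilinear φ hφ e he
  rw [g1, g2]
  exact h ⟨P'.comap (algebraMap F (Localization T)), inferInstance⟩
    (Set.disjoint_left.2 fun z hz hz' => Ideal.IsPrime.ne_top ‹P'.IsPrime›
      (Ideal.eq_top_of_isUnit_mem _ hz' (IsLocalization.map_units (Localization T) (⟨z, hz⟩ : T))))

end Submonoid

end Groth.Agent.H4RSH.RelDualS2
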