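import Groth.Agent.H29Fitt.Sheaf
import Groth.Agent.H06EGA12.Semilinear
import Groth.Agent.H1CAlg.ReflexiveNormal
import Groth.Agent.H10Coh.FinType
import Groth.Prelude.Def_Pi1

/-!
# From stalks to sections over affine opens: `(Sₖ)`, torsion, reflexivity
-/

set_option autoImplicit false
set_option linter.style.haveILetI false
set_option linter.unusedSectionVars false
set_option maxHeartbeats 1000000
set_option synthInstance.maxHeartbeats 400000

universe u

open CategoryTheory CategoryTheory.Limits AlgebraicGeometry TopologicalSpace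

namespace Groth.Agent.H4RSH.SectionsS2

variable {X : Scheme.{u}} (F : X.Modules) (hF : Coh.IsQCoh F) {U : X.Opens} (hU : IsAffineOpen U)

include hF hU in
/-- The localisations of the sections are the stalks. -/
theorem exists_loc (q : PrimeSpectrum Γ(X, U)) :
    ∃ (x : X) (_ : x ∈ U) (φ : Localization.AtPrime q.asIdeal →+* X.presheaf.stalk x)
      (_ : Function.Bijective φ)
      (T : LocalizedModule q.asIdeal.primeCompl Γ(F, U) ≃+ F.presheaf.stalk x),
      ∀ (r : Localization.AtPrime q.asIdeal) (v), T (r • v) = φ r • T v := by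
  obtain ⟨x, hx⟩ : ∃ x : U, hU.primeIdealOf x = q := by
    refine ⟨⟨hU.fromSpec q, hU.range_fromSpec.subset ⟨q, rfl⟩⟩, hU.fromSpec.isOpenEmbedding.injective ?_⟩
    exact hU.fromSpec_primeIdealOf _
  subst hx
  letI := TopCat.Presheaf.algebra_section_stalk X.presheaf x
  letI := Module.compHom (F.presheaf.stalk x.1) (algebraMap Γ(X, U) (X.presheaf.stalk x.1))
  haveI : IsScalarTower Γ(X, U) (X.presheaf.stalk x.1) (F.presheaf.stalk x.1) :=
    .of_algebraMap_smul fun _ _ => rfl
  haveI := hU.isLocalization_stalk x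
  haveI := H29Fitt.isLocalizedModule_germLin F hF hU x
  let ψ := IsLocalization.algEquiv (hU.primeIdealOf x).asIdeal.primeCompl
    (Localization.AtPrime (hU.primeIdealOf x).asIdeal) (X.presheaf.stalk x.1)
  let T := IsLocalizedModule.iso (hU.primeIdealOf x).asIdeal.primeCompl (H29Fitt.germLin F x)
  refine ⟨x.1, x.2, ψ.toRingEquiv.toRingHom, ψ.bijective, T.toAddEquiv, fun r v => ?_⟩
  obtain ⟨a, s, rfl⟩ := IsLocalization.exists_mk'_eq (hU.primeIdealOf x).asIdeal.primeCompl r
  have hs := IsLocalization.map_units (X.presheaf.stalk x.1) s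
  refine hs.smul_left_cancel.1 ?_
  show algebraMap Γ(X, U) (X.presheaf.stalk x.1) s.1 • T _ = algebraMap Γ(X, U) (X.presheaf.stalk x.1) s.1 •
    (ψ (IsLocalization.mk' _ a s) • T v)
  rw [smul_smul, show ψ (IsLocalization.mk' _ a s) = IsLocalization.mk' (X.presheaf.stalk x.1) a s from
    IsLocalization.algEquiv_mk' a s, IsLocalization.mk'_spec', algebraMap_smul, algebraMap_smul, ← map_smul,
    ← map_smul, ← algebraMap_smul (Localization.AtPrime (hU.primeIdealOf x).asIdeal) s.1, smul_smul,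
    IsLocalization.mk'_spec', algebraMap_smul]

include hF hU in
/-- `(Sₖ)` for sections. -/
theorem hasSk_sections (k : ℕ) (h : ∀ x ∈ U, LocCoh.HasSk k (X.presheaf.stalk x) (F.presheaf.stalk x)) :
    LocCoh.HasSk k Γ(X, U) Γ(F, U) := fun q hq => by
  obtain ⟨x, hx, φ, hφ, T, hT⟩ := exists_loc F hF hU ⟨q, hq⟩
  have h1 : LocCoh.HasSk k (Localization.AtPrime q) (LocalizedModule q.primeCompl Γ(F, U)) :=
    (H06EGA12.hasSk_iff_of_semilinear φ hφ.2 T hT k).1 (h x hx)
  exact (H06EGA12.hasSk_localization_iff Γ(F, U) ⟨q, hq⟩ k).1 h1 ⟨q, hq⟩ le_rfl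

include hF hU in
/-- Torsion-freeness for sections. -/
theorem torsion_sections (h : ∀ x ∈ U, Module.IsTorsionFree (X.presheaf.stalk x) (F.presheaf.stalk x)) :
    Submodule.torsion Γ(X, U) Γ(F, U) = ⊥ := by
  refine (Submodule.eq_bot_iff _).2 fun v hv => ?_
  obtain ⟨⟨a, ha⟩, hav⟩ := hv
  refine Module.eq_zero_of_localization_maximal (fun (P : Ideal Γ(X, U)) [P.IsMaximal] => LocalizedModule P.primeCompl Γ(F, U)) (fun (P : Ideal Γ(X, U)) [P.IsMaximal] => LocalizedModule.mkLinearMap P.primeCompl Γ(F, U)) v fun J hJ => ?_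
  obtain ⟨x, hx, φ, hφ, T, hT⟩ := exists_loc F hF hU ⟨J, hJ.isPrime⟩
  haveI := h x hx
  let L := Localization.AtPrime J
  have hreg : IsRegular (algebraMap Γ(X, U) L a) := by
    have hb : algebraMap Γ(X, U) L a ∈ nonZeroDivisors L :=
      IsLocalization.map_nonZeroDivisors_le J.primeCompl L ⟨a, ha, rfl⟩
    exact isRegular_iff_mem_nonZeroDivisors.2 hb
  have hreg' : IsRegular (φ (algebraMap Γ(X, U) L a)) := by
    refine isRegular_iff.2 ⟨fun u w h => ?_, fun u w h => ?_⟩
    · obtain ⟨u, rfl⟩ := hφ.2 u; obtain ⟨w, rfl⟩ := hφ.2 w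
      exact congrArg φ (hreg.left (hφ.1 (by simpa [map_mul] using h)))
    · obtain ⟨u, rfl⟩ := hφ.2 u; obtain ⟨w, rfl⟩ := hφ.2 w
      exact congrArg φ (hreg.right (hφ.1 (by simpa [map_mul] using h)))
  refine T.injective ((Module.IsTorsionFree.isSMulRegular hreg') ?_)
  show φ _ • T _ = φ _ • T 0
  rw [← hT, ← hT, smul_zero, algebraMap_smul, LocalizedModule.mkLinearMap_apply, LocalizedModule.smul'_mk]
  rw [show a • v = 0 from hav, LocalizedModule.zero_mk]

include hF hU in
/-- Reflexivity for sections over a normal scheme. -/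
theorem isReflexive_sections [IsLocallyNoetherian X] (hft : Coh.IsCoh F) (hX : Pi1.IsNormalScheme X)
    (hS : ∀ x ∈ U, LocCoh.HasSk 2 (X.presheaf.stalk x) (F.presheaf.stalk x))
    (htf : ∀ x ∈ U, Module.IsTorsionFree (X.presheaf.stalk x) (F.presheaf.stalk x)) :
    Module.IsReflexive Γ(X, U) Γ(F, U) := by
  haveI : IsNoetherianRing Γ(X, U) := IsLocallyNoetherian.component_noetherian ⟨U, hU⟩
  haveI : F.IsQuasicoherent := hF
  haveI : Module.Finite Γ(X, U) Γ(F, U) := H10Coh.finite_sections F hft.2 hU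
  refine H1CAlg.isReflexive_of_forall_maximal Γ(F, U) fun J hJ => ?_
  obtain ⟨x, hx, φ, hφ, T, hT⟩ := exists_loc F hF hU ⟨J, hJ.isPrime⟩
  let L := Localization.AtPrime J
  let e : L ≃+* X.presheaf.stalk x := RingEquiv.ofBijective φ hφ
  haveI := (hX x).1
  haveI := (hX x).2
  haveI : IsDomain L := e.toMulEquiv.isDomain
  haveI : IsIntegrallyClosed L := IsIntegrallyClosed.of_equiv e.symm
  haveI := IsLocalization.isNoetherianRing J.primeCompl L inferInstance
  haveI := htf x hx
  refine H1CAlg.isReflexive_iff_torsionFree_S2.2 ⟨⟨fun r hr u v huv => ?_⟩,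
    (H06EGA12.hasSk_iff_of_semilinear φ hφ.2 T hT 2).1 (hS x hx)⟩
  have hr' : IsRegular (φ r) := IsRegular.of_ne_zero fun h0 => hr.ne_zero (hφ.1 (h0.trans (map_zero φ).symm))
  refine T.injective (Module.IsTorsionFree.isSMulRegular hr' ?_)
  show φ r • T u = φ r • T v
  rw [← hT, ← hT]
  exact congrArg T huv

end Groth.Agent.H4RSH.SectionsS2
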