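import Groth.Agent.H4RSH.CurveBidual
import Groth.Agent.H17.FLI.Adjunction
import Groth.Agent.H25Index.HHIneq
import Groth.Prelude.Def_MultCurve

/-!
# Duals twisted by an invertible dualizing module
-/

set_option autoImplicit false
set_option linter.style.haveILetI false
set_option backward.isDefEq.respectTransparency false
set_option maxHeartbeats 1000000
set_option synthInstance.maxHeartbeats 400000

universe u

open CategoryTheory CategoryTheory.Limits AlgebraicGeometry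
open Groth.Agent.H10Inj.SheafExt

namespace Groth.Agent.H4RSH.SerreTwist

variable {X : Scheme.{u}} {L : X.Modules}

/-- `𝓗om(B, 𝓗om(A, G)) ≅ 𝓗om(A ⊗ B, G)`. -/
theorem nonempty_homSh_homSh_iso (A B G : X.Modules) :
    Nonempty (RefHull.homSh B (RefHull.homSh A G) ≅ RefHull.homSh (CohB1.tensorMod A B) G) :=
  ⟨((homTensorIso B A).app G).symm⟩

theorem nonempty_homSh_inverse (hL : PicF.IsInvertible L) :
    ∃ L' : X.Modules, ∀ M, Nonempty (RefHull.homSh L' M ≅ CohB1.tensorMod L M) := by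
  obtain ⟨L', hL', ⟨e⟩⟩ := H11Sym.exists_inverse hL
  refine ⟨L', fun M => ?_⟩
  obtain ⟨c⟩ := H17.FLI.nonempty_homSh_tensor_iso hL' (CohB1.tensorMod L M)
  let a : CohB1.tensorMod L' (CohB1.tensorMod L M) ≅ M :=
    ((((H16Derived.KFlat.Stalk.sheafAssoc (X := X)).app L').app L).app M).symm ≪≫
      tensorModIso e (Iso.refl M) ≪≫ tensorSwapIso _ M ≪≫ SecTwist.unitorR M
  exact ⟨(homFunctor L').mapIso a.symm ≪≫ c⟩

/-- `𝓗om(F, L) ≅ F^∨ ⊗ L` for invertible `L`. -/
theorem nonempty_homSh_iso (hL : PicF.IsInvertible L) (F : X.Modules) :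
    Nonempty (RefHull.homSh F L ≅ CohB1.tensorMod (RefHull.dual F) L) := by
  obtain ⟨L', hL'⟩ := nonempty_homSh_inverse hL
  obtain ⟨a⟩ := hL' (Coh.structureModule X)
  obtain ⟨b⟩ := nonempty_homSh_homSh_iso L' F (Coh.structureModule X)
  obtain ⟨c⟩ := nonempty_homSh_homSh_iso F L' (Coh.structureModule X)
  obtain ⟨d⟩ := hL' (RefHull.dual F)
  exact ⟨(homFunctor F).mapIso ((SecTwist.unitorR L).symm ≪≫ a.symm) ≪≫ b ≪≫
    (homSwapIso L' F).app (Coh.structureModule X) ≪≫ c.symm ≪≫ d ≪≫ tensorSwapIso L _⟩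

/-- `𝓗om(F^∨ ⊗ L, L) ≅ F^∨∨`. -/
theorem nonempty_homSh_dual_iso (hL : PicF.IsInvertible L) (F : X.Modules) :
    Nonempty (RefHull.homSh (CohB1.tensorMod (RefHull.dual F) L) L ≅ RefHull.ddual F) := by
  obtain ⟨a⟩ := nonempty_homSh_homSh_iso (RefHull.dual F) L L
  obtain ⟨b⟩ := nonempty_homSh_iso hL (RefHull.dual F)
  obtain ⟨c⟩ := H17.FLI.nonempty_homSh_tensor_iso hL (RefHull.ddual F)
  exact ⟨a.symm ≪≫ (homFunctor L).mapIso (b ≪≫ tensorSwapIso _ L) ≪≫ c⟩

theorem topologicalKrullDim_le_one {k : Type u} [Field k] {C : Scheme.{u}} {i : C ⟶ X} {f : X ⟶ Spec (CommRingCat.of k)}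
    {n : ℕ} (hn : 1 ≤ n) (h : MultCurve.IsPrimitive k i f n) : topologicalKrullDim X = 1 := by
  obtain ⟨⟨hci, hI, -⟩, -, -, hdim⟩ := h
  haveI := hci
  have hs : Function.Surjective i := fun x => by
    have h1 : (i.ker.support : Set X) = Set.univ := by
      rw [← Scheme.IdealSheafData.support_pow i.ker n (by omega), hI, Scheme.IdealSheafData.support_bot]
      rfl
    rw [Scheme.Hom.support_ker] at h1
    have h2 : x ∈ closure (Set.range i) := h1.ge trivial
    rwa [i.isClosedEmbedding.isClosed_range.closure_eq] at h2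
  exact (IsHomeomorph.topologicalKrullDim_eq _
    (isHomeomorph_iff_isEmbedding_surjective.2 ⟨i.isClosedEmbedding.isEmbedding, hs⟩)).symm.trans hdim

end Groth.Agent.H4RSH.SerreTwist
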