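import Groth.Agent.H4RSH.BoundedInjective
import Groth.Agent.H16Derived.TorTest.RelTildeAmp
import Groth.Agent.H4DR.FlatBC.Descent
import Groth.Agent.H4RepDual.PointLoc

/-!
# Dualizing stalks
-/

set_option autoImplicit false
set_option linter.style.haveILetI false
set_option linter.unusedSectionVars false
set_option backward.isDefEq.respectTransparency false
set_option synthInstance.maxHeartbeats 400000
set_option maxHeartbeats 1000000

universe u

open CategoryTheory CategoryTheory.Limits AlgebraicGeometry MonoidalCategory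
open DerivedCategory.TStructure (t)

attribute [local instance] HasDerivedCategory.standard

namespace Groth.Agent.H4RSH

open Groth.Agent.H16Derived Groth.Agent.H16Derived.TorTest
open Groth.Agent.H16Derived.KFlat.Stalk (rd rdQ tf tfCx tildeDQ)
open Groth.Agent.H16Derived.KFlat.TildeStalk (toRing)
open Groth.Agent.H4DR.Dualizing (Loc loc)
open Groth.Agent.H4DR.FlatBC (FD)

theorem isLocalization_bot_of_bijective {R C : Type u} [CommRing R] [CommRing C] [Algebra R C]
    (h : Function.Bijective (algebraMap R C)) : IsLocalization (⊥ : Submonoid R) C := by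
  haveI : IsLocalization (⊥ : Submonoid R) R := IsLocalization.self fun x hx => by
    rw [Submonoid.mem_bot.1 hx]; exact isUnit_one
  exact IsLocalization.isLocalization_of_algEquiv (⊥ : Submonoid R)
    (AlgEquiv.ofBijective (Algebra.ofId R C) h)

/-- Being dualizing passes along a bijective ring map. -/
theorem isDualizing_of_res {R C : Type u} [CommRing R] [CommRing C] (φ : R →+* C) (hφ : Function.Bijective φ)
    {W : DRing.Cx C} (h : Dual.IsDualizing R (DRing.toD ((DTen.resCx φ).obj W))) :
    Dual.IsDualizing C (DRing.toD W) := by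
  letI := φ.toAlgebra
  haveI := h.isNoetherianRing
  haveI := isLocalization_bot_of_bijective (R := R) (C := C) hφ
  haveI : IsNoetherianRing C := IsLocalization.isNoetherianRing (⊥ : Submonoid R) C ‹_›
  haveI : Module.Flat R C := IsLocalization.flat C (⊥ : Submonoid R)
  have h1 := H4DR.FlatBC.isDualizing_localization (B := C) (⊥ : Submonoid R) h
  haveI : (ModuleCat.restrictScalars.{u} (algebraMap R C)).Full :=
    ⟨fun {N N'} g => by
      letI : Module R N := Module.compHom N (algebraMap R C)
      haveI : IsScalarTower R C N := .of_algebraMap_smul fun _ _ => rfl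
      letI : Module R N' := Module.compHom N' (algebraMap R C)
      haveI : IsScalarTower R C N' := .of_algebraMap_smul fun _ _ => rfl
      haveI := IsLocalization.linearMap_compatibleSMul (⊥ : Submonoid R) C N N'
      let g' : N →ₗ[R] N' := g.hom
      exact ⟨ModuleCat.ofHom { toFun := g', map_add' := g'.map_add, map_smul' := fun c n => g'.map_smul_of_tower c n },
        rfl⟩⟩
  haveI : IsIso (ModuleCat.extendRestrictScalarsAdj.{u, u, u} (algebraMap R C)).counit :=
    (ModuleCat.extendRestrictScalarsAdj.{u, u, u} (algebraMap R C)).counit_isIso_of_R_fully_faithful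
  exact H4DR.Dualizing.isDualizing_of_iso
    ((H4DR.FlatBC.F R C).mapDerivedCategoryFactors.app ((DTen.resCx φ).obj W) ≪≫
      DerivedCategory.Q.mapIso ((NatIso.mapHomologicalComplex (asIso (ModuleCat.extendRestrictScalarsAdj.{u, u, u}
        (algebraMap R C)).counit) (ComplexShape.up ℤ)).app W)) h1

variable {X : Scheme.{u}}

/-- Dualizing stalks give dualizing localisations on a chart. -/
theorem isDualizing_loc_of_stalk {A : Type u} [CommRing A] [IsNoetherianRing A]
    [PreservesFiniteLimits (tilde.functor (CommRingCat.of A))]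
    (j : Spec (CommRingCat.of A) ⟶ X) [IsOpenImmersion j] (I : CochainComplex X.Modules ℤ) (ω : Dual.D A)
    (e : (rd j).obj (DCoh.toD X I) ≅ (DCoh.tildeD (CommRingCat.of A)).obj ω) (p : PrimeSpectrum A)
    (h : ∀ x : X, Dual.IsDualizing (X.presheaf.stalk ((𝟙 X : X ⟶ X).base x))
      (DRing.toD ((DerSch.stalkCxOver (𝟙 X) x).obj I))) :
    Dual.IsDualizing (Loc p) (loc ω p) := by
  let S : Scheme.{u} := Spec (CommRingCat.of A)
  obtain ⟨K, ⟨eK⟩⟩ : ∃ K : DRing.Cx A, Nonempty (DRing.toD K ≅ ω) := ⟨_, ⟨DerivedCategory.Q.objObjPreimageIso ω⟩⟩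
  let x : X := j.base p
  have h1 : Dual.IsDualizing (X.presheaf.stalk x) (DRing.toD ((Sx x).obj I)) :=
    isDualizing_of_res ((𝟙 X : X ⟶ X).stalkMap x).hom
      (ConcreteCategory.bijective_of_isIso ((𝟙 X : X ⟶ X).stalkMap x)) (h x)
  let G := ((Scheme.Modules.restrictFunctor j).mapHomologicalComplex (ComplexShape.up ℤ)).obj I
  let e1 : DCoh.toD S G ≅ DCoh.toD S (tfCx K) :=
    ((rdQ j).app I).symm ≪≫ e ≪≫ (DCoh.tildeD (CommRingCat.of A)).mapIso eK.symm ≪≫ tildeDQ K
  letI : Algebra A (S.presheaf.stalk (show S from p)) := (toRing (R := CommRingCat.of A) (show S from p)).toAlgebra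
  let C := S.presheaf.stalk (show S from p)
  haveI : IsLocalization.AtPrime C p.asIdeal := StructureSheaf.IsLocalization.to_stalk (R := A) p
  haveI : Module.Flat A C := IsLocalization.flat C p.asIdeal.primeCompl
  haveI : IsNoetherianRing C := IsLocalization.isNoetherianRing p.asIdeal.primeCompl C ‹_›
  have h2 : Dual.IsDualizing C (DRing.toD ((DTen.extCx (toRing (R := CommRingCat.of A) (show S from p))).obj K)) :=
    isDualizing_of_res (j.stalkMap (show S from p)).hom
      (ConcreteCategory.bijective_of_isIso (j.stalkMap (show S from p)))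
      (H4DR.Dualizing.isDualizing_of_iso
        (DerivedCategory.Q.mapIso (stalkRestrictIso j I (show S from p)).symm ≪≫
          stalkOverIso j (show S from p) e1 ≪≫ DerivedCategory.Q.mapIso ((DTen.resCx (j.stalkMap (show S from p)).hom).mapIso
            ((NatIso.mapHomologicalComplex (tildeStalkNatIso (show S from p)) (ComplexShape.up ℤ)).app K))) h1)
  have h3 : Dual.IsDualizing C ((FD A C).obj ω) :=
    H4DR.Dualizing.isDualizing_of_iso (((H4DR.FlatBC.F A C).mapDerivedCategoryFactors.app K).symm ≪≫
      (FD A C).mapIso eK) h2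
  let σ := IsLocalization.algEquiv p.asIdeal.primeCompl C (Loc p)
  letI : Algebra C (Loc p) := σ.toRingEquiv.toRingHom.toAlgebra
  haveI : IsScalarTower A C (Loc p) := IsScalarTower.of_algebraMap_eq fun a => (σ.commutes a).symm
  haveI := isLocalization_bot_of_bijective (R := C) (C := Loc p) σ.bijective
  haveI : IsNoetherianRing (Loc p) := IsLocalization.isNoetherianRing p.asIdeal.primeCompl (Loc p) ‹_›
  haveI : Module.Flat A (Loc p) := IsLocalization.flat (Loc p) p.asIdeal.primeCompl
  haveI : Module.Flat C (Loc p) := IsLocalization.flat (Loc p) (⊥ : Submonoid C)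
  exact H4RepDual.isDualizing_FD_trans (⊥ : Submonoid C) ω h3

/-- A coherent bounded complex of injectives with dualizing stalks is dualizing. -/
theorem isDualizingSch_of_stalks [IsNoetherian X]
    [∀ (U : Scheme.{u}) (j : U ⟶ X) [IsOpenImmersion j], PreservesFiniteLimits (Scheme.Modules.restrictFunctor j)]
    [∀ (R : CommRingCat.{u}), PreservesFiniteLimits (tilde.functor R)]
    (I : CochainComplex X.Modules ℤ) (hI : ∀ i : ℤ, Injective (I.X i)) {a b : ℤ}
    (hab : ∀ i : ℤ, (i < a ∨ b < i) → IsZero (I.X i)) (hcoh : DCoh.IsCohD (DCoh.toD X I))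
    (hst : ∀ x : X, Dual.IsDualizing (X.presheaf.stalk ((𝟙 X : X ⟶ X).base x))
      (DRing.toD ((DerSch.stalkCxOver (𝟙 X) x).obj I))) :
    Dual2.IsDualizingSch X (DCoh.toD X I) := by
  refine LeadBrown.isDualizingSch_of_cover _ fun x => ?_
  obtain ⟨B, j, hj, hx⟩ := exists_affine_chart x
  obtain ⟨ω, hω, ⟨e⟩⟩ := exists_finite_model j hcoh
  haveI : IsNoetherianRing B := isLocallyNoetherian_Spec.1 (isLocallyNoetherian_of_isOpenImmersion j)
  refine ⟨B, inferInstance, j, hj, hx, ω, ?_, ⟨e⟩⟩
  have hfid := fid_of_chart I hI hab (Iso.refl _) j ω e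
  let J : CochainComplex _ ℤ := ((Scheme.Modules.restrictFunctor j).mapHomologicalComplex (ComplexShape.up ℤ)).obj I
  haveI : J.IsStrictlyGE a := (CochainComplex.isStrictlyGE_iff J a).2 fun n hn =>
    (Scheme.Modules.restrictFunctor j).map_isZero (hab n (Or.inl hn))
  haveI : J.IsStrictlyLE b := (CochainComplex.isStrictlyLE_iff J b).2 fun n hn =>
    (Scheme.Modules.restrictFunctor j).map_isZero (hab n (Or.inr hn))
  let eJ : DerivedCategory.Q.obj J ≅ (DCoh.tildeD (CommRingCat.of B)).obj ω := ((rdQ j).app I).symm ≪≫ e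
  haveI : ((DCoh.tildeD (CommRingCat.of B)).obj ω).IsGE a := t.isGE_of_iso eJ a
  haveI : ((DCoh.tildeD (CommRingCat.of B)).obj ω).IsLE b := t.isLE_of_iso eJ b
  haveI := (KFlat.Stalk.isGE_tilde_iff ω a).1 ‹_›
  haveI := (KFlat.Stalk.isLE_tilde_iff ω b).1 ‹_›
  haveI : ∀ p : PrimeSpectrum B, Module.Flat B (Loc p) := fun p => IsLocalization.flat (Loc p) p.asIdeal.primeCompl
  exact H4DR.FlatBC.isDualizing_descent _ H4DR.FlatBC.jFaithful_prime hω
    ⟨a, b, fun i hi => ModuleCat.subsingleton_of_isZero (hi.elim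
      (fun h => DerivedCategory.isZero_of_isGE ω a i h) fun h => DerivedCategory.isZero_of_isLE ω b i h)⟩
    (fun p => isDualizing_loc_of_stalk j I ω e p hst) (H4DR.Ext.fid_iff.2 hfid)

end Groth.Agent.H4RSH
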